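import Cfsg.Agent.Lib.Blocks.PrincipalIdem
import Cfsg.Prelude.Def_BrauerPairs
import Mathlib.GroupTheory.Sylow
import Mathlib.GroupTheory.Nilpotent

/-!
Principal Brauer pairs.
-/

namespace CfsgLib.Blocks

open scoped ComplexConjugate
open Cfsg CfsgLib.Chars

universe u

variable {G : Type u} [Group G] [Fintype G] {p : ℕ} {M : Ideal AlgInt}

section Transport

variable {H H' : Type u} [Group H] [Group H'] [Fintype H] [Fintype H']

theorem centralChar_comp_equiv (e : H ≃* H') (χ : IrrCharacter H) (g : H') :
    centralChar ((χ : H → ℂ) ∘ e.symm) g = centralChar (χ : H → ℂ) (e.symm g) := by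
  classical
  have hcl : IsClassFunction H' ((χ : H → ℂ) ∘ e.symm) := fun a z => by
    simp only [Function.comp_apply, map_mul, map_inv]
    exact IsCharacter.isClassFunction (isCharacter_irr χ) _ _
  rw [← omega_classInd hcl, ← omega_classInd (IsCharacter.isClassFunction (isCharacter_irr χ)),
    omega, omega]
  simp only [Function.comp_apply, map_one]
  congr 1
  refine Fintype.sum_equiv e.symm.toEquiv _ _ fun a => ?_
  simp only [classInd, MulEquiv.coe_toEquiv]
  congr 1
  refine if_congr ⟨fun h => e.symm.toMonoidHom.map_isConj h, fun h => ?_⟩ rfl rfl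
  simpa using e.toMonoidHom.map_isConj h

/-- The principal block is carried to the principal block by isomorphisms. -/
theorem principalBlock_comp_equiv (e : H ≃* H') {χ : IrrCharacter H}
    (hχ : χ ∈ principalBlock M H) {χ' : IrrCharacter H'}
    (h : ∀ a, (χ' : H' → ℂ) (e a) = (χ : H → ℂ) a) : χ' ∈ principalBlock M H' := by
  intro g
  have e1 : (χ' : H' → ℂ) = (χ : H → ℂ) ∘ e.symm := funext fun a => by
    rw [Function.comp_apply, ← h, MulEquiv.apply_symm_apply]
  have e2 : (fun _ : H' => (1 : ℂ)) = (trivIrr H : H → ℂ) ∘ e.symm := funext fun a => rfl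
  rw [e1, e2, centralChar_comp_equiv, centralChar_comp_equiv]
  exact hχ (e.symm g)

end Transport

theorem brauerOmega_eq_omega (P : Subgroup G) [Fintype (Subgroup.centralizer (P : Set G))]
    (β : G → ℂ) (ξ : Subgroup.centralizer (P : Set G) → ℂ) :
    brauerOmega P β ξ = omega ξ (fun c : Subgroup.centralizer (P : Set G) => β (c : G)) := by
  rw [brauerOmega, omega, finsum_eq_sum_of_fintype, Finset.sum_div]

/-- A function agreeing with the principal idempotent has value one on the principal block. -/
theorem mli_brauerOmega_principal (hM : IsPModular p M) (P : Subgroup G) (β : G → ℂ)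
    (hβcl : ∀ (a z : Subgroup.centralizer (P : Set G)),
      β ((z : G) * (a : G) * (z : G)⁻¹) = β (a : G))
    (hβ : ∀ c : Subgroup.centralizer (P : Set G), MemLocalIdeal M (β (c : G) -
      blockCoeff (principalBlock M (Subgroup.centralizer (P : Set G))) c))
    {ξ : IrrCharacter (Subgroup.centralizer (P : Set G))}
    (hξ : ξ ∈ principalBlock M (Subgroup.centralizer (P : Set G))) :
    MemLocalIdeal M (brauerOmega P β (ξ : Subgroup.centralizer (P : Set G) → ℂ) - 1) := by
  classical
  haveI : Fintype (Subgroup.centralizer (P : Set G)) := Fintype.ofFinite _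
  rw [brauerOmega_eq_omega, ← indic_of_mem hξ,
    ← omega_blockCoeff (principalBlock M (Subgroup.centralizer (P : Set G))) ξ, ← omega_sub]
  refine mli_omega hM ξ (fun a z => ?_) hβ
  simp only [Pi.sub_apply, Subgroup.coe_mul, InvMemClass.coe_inv, hβcl a z,
    blockCoeff_isClassFunction _ a z]

theorem isBrauerPairOf_principal (hM : IsPModular p M) {Q : Subgroup G} (hQ : IsPGroup p Q) :
    IsBrauerPairOf p M (principalBlock M G) Q (principalBlock M (Subgroup.centralizer (Q : Set G))) := by
  classical
  haveI : Fintype (Subgroup.centralizer (Q : Set G)) := Fintype.ofFinite _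
  exact ⟨⟨hQ, isPBlock_principalBlock⟩, isPBlock_principalBlock, fun ξ hξ =>
    mli_brauerOmega_principal hM Q _ (fun a z => blockCoeff_isClassFunction _ (a : G) (z : G))
      (fun c => mli_principal_res hM Q hQ c) hξ⟩

theorem conj_mem_centralizer_iff {Q : Subgroup G} {x : G}
    (hx : x ∈ Subgroup.normalizer (Q : Set G)) (g : G) :
    x * g * x⁻¹ ∈ Subgroup.centralizer (Q : Set G) ↔ g ∈ Subgroup.centralizer (Q : Set G) := by
  constructor
  · intro h
    have := conj_mem_centralizer_of_normalizer (inv_mem hx) h
    simpa [mul_assoc] using this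
  · exact conj_mem_centralizer_of_normalizer hx

theorem normalizer_le_normalizer_centralizer (Q : Subgroup G) :
    Subgroup.normalizer (Q : Set G) ≤
      Subgroup.normalizer ((Subgroup.centralizer (Q : Set G) : Subgroup G) : Set G) :=
  fun _ hx => Subgroup.mem_normalizer_iff.mpr fun g => (conj_mem_centralizer_iff hx g).symm

/-- Normal inclusion of principal pairs. -/
theorem isNormalSubpair_principal (hM : IsPModular p M) {Q P : Subgroup G} (hQP : Q ≤ P)
    (hP : IsPGroup p P) (hN : P ≤ Subgroup.normalizer (Q : Set G)) :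
    IsNormalSubpair p M Q (principalBlock M (Subgroup.centralizer (Q : Set G))) P
      (principalBlock M (Subgroup.centralizer (P : Set G))) := by
  classical
  haveI : Fintype (Subgroup.centralizer (Q : Set G)) := Fintype.ofFinite _
  haveI : Fintype (Subgroup.centralizer (P : Set G)) := Fintype.ofFinite _
  have hQ : IsPGroup p Q := hP.to_le hQP
  refine ⟨⟨hQ, isPBlock_principalBlock⟩, ⟨hP, isPBlock_principalBlock⟩, hQP, hN, ?_, ?_⟩
  · intro x hx
    refine ⟨normalizer_le_normalizer_centralizer Q (hN hx), fun χ hχ => ?_⟩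
    let e : Subgroup.centralizer (Q : Set G) ≃* Subgroup.centralizer (Q : Set G) :=
      { toFun := fun c => ⟨x * c * x⁻¹, (conj_mem_centralizer_iff (hN hx) _).mpr c.2⟩
        invFun := fun c => ⟨x⁻¹ * c * x, by
          simpa using (conj_mem_centralizer_iff (inv_mem (hN hx)) _).mpr c.2⟩
        left_inv := fun c => Subtype.ext (by simp [mul_assoc])
        right_inv := fun c => Subtype.ext (by simp [mul_assoc])
        map_mul' := fun a b => Subtype.ext (by simp [mul_assoc]) }
    let χ' : IrrCharacter (Subgroup.centralizer (Q : Set G)) :=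
      ⟨(χ : Subgroup.centralizer (Q : Set G) → ℂ) ∘ e.symm.toMonoidHom,
        IsIrrCharacter.comp χ.2 e.symm.toMonoidHom e.symm.surjective⟩
    have happ : ∀ a, (χ' : Subgroup.centralizer (Q : Set G) → ℂ) (e a) =
        (χ : Subgroup.centralizer (Q : Set G) → ℂ) a := fun a => congrArg _ (e.symm_apply_apply a)
    refine ⟨χ', principalBlock_comp_equiv e hχ happ, fun k k' hk => ?_⟩
    rw [show k' = e k from Subtype.ext hk, happ]
  · intro ξ hξ
    have hle : Subgroup.centralizer (P : Set G) ≤ Subgroup.centralizer (Q : Set G) :=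
      Subgroup.centralizer_le hQP
    refine mli_brauerOmega_principal hM P _ (fun a z => ?_) (fun c => ?_) hξ
    · simp only [subgroupBlockCoeff]
      rw [dif_pos (hle a.2), dif_pos (mul_mem (mul_mem (hle z.2) (hle a.2)) (inv_mem (hle z.2)))]
      exact blockCoeff_isClassFunction (principalBlock M (Subgroup.centralizer (Q : Set G)))
        ⟨(a : G), hle a.2⟩ ⟨(z : G), hle z.2⟩
    · simp only [subgroupBlockCoeff, dif_pos (hle c.2)]
      have h1 := mli_principal_res hM Q hQ ⟨(c : G), hle c.2⟩
      have h2 := mli_principal_res hM P hP c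
      have h3 := mli_sub hM h2 h1
      convert h3 using 1
      ring

/-- Principal pairs below a `p`-subgroup form a chain. -/
theorem subpairLE_principal (hM : IsPModular p M) {S : Subgroup G} (hS : IsPGroup p S) :
    ∀ Q : Subgroup G, Q ≤ S → SubpairLE p M Q (principalBlock M (Subgroup.centralizer (Q : Set G)))
      S (principalBlock M (Subgroup.centralizer (S : Set G))) := by
  haveI : Fact p.Prime := ⟨hM.1⟩
  intro Q
  induction Q using (wellFounded_gt (α := Subgroup G)).induction with
  | _ Q ih =>
    intro hQS
    rcases eq_or_ne Q S with rfl | hne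
    · exact Relation.ReflTransGen.refl
    · haveI : Group.IsNilpotent S := hS.isNilpotent
      have hlt : Q.subgroupOf S < ⊤ := lt_top_iff_ne_top.mpr fun h =>
        hne (le_antisymm hQS (Subgroup.subgroupOf_eq_top.mp h))
      have h := normalizerCondition_of_isNilpotent (Q.subgroupOf S) hlt
      set P := (Subgroup.normalizer ((Q.subgroupOf S : Subgroup S) : Set S)).map S.subtype
      have hQP : Q ≤ P := fun q hq =>
        ⟨⟨q, hQS hq⟩, h.le (show (⟨q, hQS hq⟩ : S) ∈ Q.subgroupOf S from hq), rfl⟩
      have hPS : P ≤ S := Subgroup.map_subtype_le _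
      have hPN : P ≤ Subgroup.normalizer (Q : Set G) := by
        rintro _ ⟨z, hz, rfl⟩
        refine Subgroup.mem_normalizer_iff.mpr fun g => ⟨fun hg => ?_, fun hg => ?_⟩
        · exact (Subgroup.mem_normalizer_iff.mp hz ⟨g, hQS hg⟩).mp hg
        · have hgS : g ∈ S := by
            have := mul_mem (mul_mem (inv_mem z.2) (hQS hg)) z.2
            simpa [mul_assoc] using this
          exact (Subgroup.mem_normalizer_iff.mp hz ⟨g, hgS⟩).mpr hg
      have hQP' : Q < P := lt_of_le_of_ne hQP fun e => h.ne (by
        ext z
        constructor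
        · exact fun hz => h.le hz
        · intro hz
          change (z : G) ∈ Q
          rw [e]
          exact ⟨z, hz, rfl⟩)
      exact Relation.ReflTransGen.head
        (show NormalSubpairRel p M ⟨Q, _⟩ ⟨P, _⟩ from
          isNormalSubpair_principal hM hQP (hS.to_le hPS) hPN)
        (ih P hQP' hPS)

theorem conjBlock_principal (Q : Subgroup G) (g : G) :
    conjBlock Q g (principalBlock M (Subgroup.centralizer (Q : Set G))) =
      principalBlock M (Subgroup.centralizer
        ((Q.map (MulAut.conj g).toMonoidHom : Subgroup G) : Set G)) := by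
  classical
  haveI : Fintype (Subgroup.centralizer (Q : Set G)) := Fintype.ofFinite _
  haveI : Fintype (Subgroup.centralizer
      ((Q.map (MulAut.conj g).toMonoidHom : Subgroup G) : Set G)) := Fintype.ofFinite _
  have hiff : ∀ c : G, g * c * g⁻¹ ∈ Subgroup.centralizer
      ((Q.map (MulAut.conj g).toMonoidHom : Subgroup G) : Set G) ↔
        c ∈ Subgroup.centralizer (Q : Set G) := by
    intro c
    rw [Subgroup.mem_centralizer_iff, Subgroup.mem_centralizer_iff]
    constructor
    · intro h q hq
      exact (MulAut.conj g).injective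
        ((map_mul (MulAut.conj g) q c).trans ((h _ ⟨q, hq, rfl⟩).trans (map_mul (MulAut.conj g) c q).symm))
    · rintro h _ ⟨q, hq, rfl⟩
      exact (map_mul (MulAut.conj g) q c).symm.trans
        ((congrArg _ (h q hq)).trans (map_mul (MulAut.conj g) c q))
  let e : Subgroup.centralizer (Q : Set G) ≃* Subgroup.centralizer
      ((Q.map (MulAut.conj g).toMonoidHom : Subgroup G) : Set G) :=
    { toFun := fun c => ⟨g * c * g⁻¹, (hiff _).mpr c.2⟩
      invFun := fun c => ⟨g⁻¹ * c * g, (hiff _).mp (by
        rw [show g * (g⁻¹ * (c : G) * g) * g⁻¹ = (c : G) by group]; exact c.2)⟩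
      left_inv := fun c => Subtype.ext (by simp [mul_assoc])
      right_inv := fun c => Subtype.ext (by simp [mul_assoc])
      map_mul' := fun a b => Subtype.ext
        (show g * ((a : G) * b) * g⁻¹ = g * a * g⁻¹ * (g * b * g⁻¹) by group) }
  ext ξ'
  constructor
  · rintro ⟨ξ, hξ, h⟩
    exact principalBlock_comp_equiv e hξ fun a => h a (e a) rfl
  · intro hξ'
    refine ⟨⟨_, IsIrrCharacter.comp ξ'.2 e.toMonoidHom e.surjective⟩,
      ?_, fun c c' hc => ?_⟩
    · exact principalBlock_comp_equiv e.symm hξ' fun a => congrArg _ (e.apply_symm_apply a)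
    · rw [show c' = e c from Subtype.ext hc]
      rfl

/-- Inclusion of pairs implies inclusion of subgroups. -/
theorem SubpairLE.le {Q P : Subgroup G}
    {f : Set (IrrCharacter (Subgroup.centralizer (Q : Set G)))}
    {e : Set (IrrCharacter (Subgroup.centralizer (P : Set G)))} (h : SubpairLE p M Q f P e) :
    Q ≤ P := by
  have key : ∀ a b : BrauerPairIdx G, Relation.ReflTransGen (NormalSubpairRel p M) a b →
      a.1 ≤ b.1 := fun a b h => by
    induction h with
    | refl => exact le_rfl
    | tail _ h ih => exact ih.trans h.2.2.1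
  exact key _ _ h

end CfsgLib.Blocks
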