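import Cfsg.Agent.Lib.Blocks.BrauerNonzero
import Cfsg.Agent.Lib.Blocks.SecondVanish
import Cfsg.Agent.Lib.Blocks.PrincipalPairs
import Cfsg.Prelude.Def_BrauerPairs

/-!
Brauer pairs: uniqueness of the pair below a given one.
-/

namespace CfsgLib.Blocks

set_option linter.style.haveILetI false

open scoped ComplexConjugate
open Cfsg CfsgLib.Chars

universe u

variable {G : Type u} [Group G] [Fintype G] {p : ℕ} {M : Ideal AlgInt}

/-! ### Transport of blocks along isomorphisms -/

section Map

variable {H H' : Type u} [Group H] [Group H']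

/-- Pull an irreducible character back along an isomorphism. -/
noncomputable def pullIrr (φ : H ≃* H') (χ : IrrCharacter H') : IrrCharacter H :=
  ⟨fun h => (χ : H' → ℂ) (φ h), IsIrrCharacter.comp χ.2 φ.toMonoidHom φ.surjective⟩

theorem pullIrr_apply (φ : H ≃* H') (χ : IrrCharacter H') (h : H) :
    (pullIrr φ χ : H → ℂ) h = (χ : H' → ℂ) (φ h) := rfl

theorem pullIrr_symm_apply (φ : H ≃* H') (χ : IrrCharacter H) :
    pullIrr φ (pullIrr φ.symm χ) = χ :=
  Subtype.ext (funext fun h => by simp [pullIrr_apply])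

theorem pullIrr_apply_symm (φ : H ≃* H') (χ : IrrCharacter H') :
    pullIrr φ.symm (pullIrr φ χ) = χ :=
  Subtype.ext (funext fun h => by simp [pullIrr_apply])

/-- The image of a set of characters under an isomorphism. -/
def mapBlock (φ : H ≃* H') (b : Set (IrrCharacter H)) : Set (IrrCharacter H') :=
  {χ | pullIrr φ χ ∈ b}

variable [Fintype H] [Fintype H']

theorem sameBlock_pullIrr_iff (φ : H ≃* H') (χ ψ : IrrCharacter H') :
    SameBlock M (pullIrr φ χ : H → ℂ) (pullIrr φ ψ : H → ℂ) ↔
      SameBlock M (χ : H' → ℂ) (ψ : H' → ℂ) := by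
  have e : ∀ (θ : IrrCharacter H') (h : H),
      centralChar (pullIrr φ θ : H → ℂ) h = centralChar (θ : H' → ℂ) (φ h) := fun θ h =>
    centralChar_comp_equiv φ.symm θ h
  constructor
  · intro hs g
    have := hs (φ.symm g)
    rwa [e, e, MulEquiv.apply_symm_apply] at this
  · intro hs h
    rw [e, e]
    exact hs _

theorem isPBlock_mapBlock (hM : IsPModular p M) (φ : H ≃* H') {b : Set (IrrCharacter H)}
    (hb : IsPBlock M b) : IsPBlock M (mapBlock φ b) := by
  obtain ⟨χ, hχ⟩ := IsPBlock.nonempty hM hb
  refine ⟨pullIrr φ.symm χ, Set.ext fun ψ => ?_⟩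
  rw [mem_blockOf, ← sameBlock_pullIrr_iff (M := M) φ, pullIrr_symm_apply]
  exact ⟨fun h => IsPBlock.sameBlock hM hb hχ h, fun h => IsPBlock.mem_of_sameBlock hM hb hχ h⟩

theorem blockCoeff_mapBlock (φ : H ≃* H') (b : Set (IrrCharacter H)) (h : H) :
    blockCoeff (mapBlock φ b) (φ h) = blockCoeff b h := by
  classical
  rw [blockCoeff_eq_sum, blockCoeff_eq_sum, Nat.card_congr φ.toEquiv]
  congr 1
  refine Finset.sum_bij' (fun χ _ => pullIrr φ χ) (fun χ _ => pullIrr φ.symm χ) ?_ ?_ ?_ ?_ ?_
  · exact fun χ hχ => Finset.mem_filter.mpr ⟨Finset.mem_univ _, (Finset.mem_filter.mp hχ).2⟩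
  · intro χ hχ
    refine Finset.mem_filter.mpr ⟨Finset.mem_univ _, ?_⟩
    show pullIrr φ (pullIrr φ.symm χ) ∈ b
    rw [pullIrr_symm_apply]
    exact (Finset.mem_filter.mp hχ).2
  · exact fun χ _ => pullIrr_apply_symm φ χ
  · exact fun χ _ => pullIrr_symm_apply φ χ
  · intro χ _
    simp [pullIrr_apply]

end Map

/-! ### Invariant functions and the Brauer map -/

/-- Invariance of a function under conjugation by a subgroup. -/
def ConjInv (S : Subgroup G) (a : G → ℂ) : Prop := ∀ s ∈ S, ∀ g, a (s * g * s⁻¹) = a g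

omit [Fintype G] in
theorem ConjInv.mono {S R : Subgroup G} {a : G → ℂ} (h : ConjInv S a) (hRS : R ≤ S) :
    ConjInv R a := fun s hs g => h s (hRS hs) g

omit [Fintype G] in
theorem ConjInv.of_isClassFunction {S : Subgroup G} {a : G → ℂ} (h : IsClassFunction G a) :
    ConjInv S a := fun s _ g => h g s

theorem ConjInv.conv {S : Subgroup G} {a b : G → ℂ} (ha : ConjInv S a) (hb : ConjInv S b) :
    ConjInv S (Chars.conv a b) := by
  intro s hs g
  refine (Fintype.sum_equiv (MulAut.conj s).toEquiv _ _ fun y => ?_).symm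
  show a y * b (y⁻¹ * g) = a (s * y * s⁻¹) * b ((s * y * s⁻¹)⁻¹ * (s * g * s⁻¹))
  rw [ha s hs y, show (s * y * s⁻¹)⁻¹ * (s * g * s⁻¹) = s * (y⁻¹ * g) * s⁻¹ by group,
    hb s hs (y⁻¹ * g)]

omit [Fintype G] in
theorem rest_isClassFunction (K : Subgroup G) {a : G → ℂ} (ha : ConjInv K a) :
    IsClassFunction K (fun k : K => a (k : G)) := fun x z => ha (z : G) z.2 (x : G)

/-- Convolution with a function supported on a subgroup restricts to it. -/
theorem conv_rest (K : Subgroup G) [Fintype K] {a : G → ℂ} (hs : ∀ g, g ∉ K → a g = 0)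
    (b : G → ℂ) (k : K) :
    Chars.conv a b (k : G) = Chars.conv (fun x : K => a (x : G)) (fun x : K => b (x : G)) k := by
  classical
  simp only [Chars.conv, Subgroup.coe_mul, InvMemClass.coe_inv]
  rw [← Finset.sum_subset (s₁ := (Finset.univ : Finset K).map ⟨Subtype.val, Subtype.val_injective⟩)
    (Finset.subset_univ _), Finset.sum_map]
  · rfl
  · intro g _ hg
    rw [hs g fun h => hg (Finset.mem_map.mpr ⟨⟨g, h⟩, Finset.mem_univ _, rfl⟩), zero_mul]

theorem mli_conv_rest (hM : IsPModular p M) {R : Subgroup G}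
    [Fintype (Subgroup.centralizer (R : Set G))] (hR : IsPGroup p R) {a b : G → ℂ}
    (ha : ConjInv R a) (hb : ConjInv R b) (hla : ∀ g, MemLocalRing M (a g))
    (hlb : ∀ g, MemLocalRing M (b g)) (k : Subgroup.centralizer (R : Set G)) :
    MemLocalIdeal M (Chars.conv a b (k : G) -
      Chars.conv (fun x : Subgroup.centralizer (R : Set G) => a (x : G))
        (fun x : Subgroup.centralizer (R : Set G) => b (x : G)) k) := by
  classical
  have key := mli_conv_sub_trunc hM hR ha hb hla hlb k.2
  convert key using 2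
  simp only [Chars.conv, Subgroup.coe_mul, InvMemClass.coe_inv]
  rw [← Finset.sum_filter]
  exact (Finset.sum_subtype _ (fun x => by simp)
    (fun g => a g * b (g⁻¹ * (k : G)))).symm

theorem mlr_conv_fun (hM : IsPModular p M) {a b : G → ℂ} (hla : ∀ g, MemLocalRing M (a g))
    (hlb : ∀ g, MemLocalRing M (b g)) (x : G) : MemLocalRing M (Chars.conv a b x) :=
  mlr_conv hM hla hlb x

theorem mlr_brauerOmega (hM : IsPModular p M) (R : Subgroup G) {a : G → ℂ}
    (ha : ConjInv (Subgroup.centralizer (R : Set G)) a) (hla : ∀ g, MemLocalRing M (a g))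
    (ξ : IrrCharacter (Subgroup.centralizer (R : Set G))) :
    MemLocalRing M (brauerOmega R a (ξ : Subgroup.centralizer (R : Set G) → ℂ)) := by
  classical
  rw [brauerOmega_eq_omega]
  exact mlr_omega hM ξ (rest_isClassFunction _ ha) fun g => hla g

theorem mli_brauerOmega_sub (hM : IsPModular p M) (R : Subgroup G) {a b : G → ℂ}
    (ha : ConjInv (Subgroup.centralizer (R : Set G)) a)
    (hb : ConjInv (Subgroup.centralizer (R : Set G)) b)
    (h : ∀ c : Subgroup.centralizer (R : Set G), MemLocalIdeal M (a (c : G) - b (c : G)))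
    (ξ : IrrCharacter (Subgroup.centralizer (R : Set G))) :
    MemLocalIdeal M (brauerOmega R a (ξ : Subgroup.centralizer (R : Set G) → ℂ) -
      brauerOmega R b (ξ : Subgroup.centralizer (R : Set G) → ℂ)) := by
  classical
  rw [brauerOmega_eq_omega, brauerOmega_eq_omega, ← omega_sub]
  refine mli_omega hM ξ (fun x z => ?_) h
  simp only [Pi.sub_apply, rest_isClassFunction _ ha x z, rest_isClassFunction _ hb x z]

theorem brauerOmega_sameBlock (hM : IsPModular p M) (R : Subgroup G) {a : G → ℂ}
    (ha : ConjInv (Subgroup.centralizer (R : Set G)) a) (hla : ∀ g, MemLocalRing M (a g))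
    {ξ ξ' : IrrCharacter (Subgroup.centralizer (R : Set G))}
    (h : SameBlock M (ξ : Subgroup.centralizer (R : Set G) → ℂ)
      (ξ' : Subgroup.centralizer (R : Set G) → ℂ)) :
    MemLocalIdeal M (brauerOmega R a (ξ : Subgroup.centralizer (R : Set G) → ℂ) -
      brauerOmega R a (ξ' : Subgroup.centralizer (R : Set G) → ℂ)) := by
  classical
  rw [brauerOmega_eq_omega, brauerOmega_eq_omega]
  exact mli_omega_sub hM h (rest_isClassFunction _ ha) fun g => hla g

omit [Fintype G] in
theorem brauerOmega_const_mul [Finite G] (R : Subgroup G) (a : G → ℂ) (c : ℂ)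
    (ξ : Subgroup.centralizer (R : Set G) → ℂ) :
    brauerOmega R (fun g => c * a g) ξ = c * brauerOmega R a ξ := by
  classical
  haveI := Fintype.ofFinite (Subgroup.centralizer (R : Set G))
  simp only [brauerOmega, finsum_eq_sum_of_fintype, Finset.mul_sum]
  exact Finset.sum_congr rfl fun x _ => by ring

/-- The Brauer map is multiplicative on invariant functions. -/
theorem mli_brauerOmega_conv (hM : IsPModular p M) {R : Subgroup G} (hR : IsPGroup p R)
    {a b : G → ℂ} (ha : ConjInv R a) (hb : ConjInv R b)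
    (ha' : ConjInv (Subgroup.centralizer (R : Set G)) a)
    (hb' : ConjInv (Subgroup.centralizer (R : Set G)) b)
    (hla : ∀ g, MemLocalRing M (a g)) (hlb : ∀ g, MemLocalRing M (b g))
    (ξ : IrrCharacter (Subgroup.centralizer (R : Set G))) :
    MemLocalIdeal M (brauerOmega R (Chars.conv a b) (ξ : Subgroup.centralizer (R : Set G) → ℂ) -
      brauerOmega R a (ξ : Subgroup.centralizer (R : Set G) → ℂ) *
        brauerOmega R b (ξ : Subgroup.centralizer (R : Set G) → ℂ)) := by
  classical
  rw [brauerOmega_eq_omega, brauerOmega_eq_omega, brauerOmega_eq_omega,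
    ← omega_conv ξ (rest_isClassFunction _ ha') (rest_isClassFunction _ hb'), ← omega_sub]
  refine mli_omega hM ξ (fun x z => ?_) fun c => mli_conv_rest hM hR ha hb hla hlb c
  simp only [Pi.sub_apply, rest_isClassFunction _ (ha'.conv hb') x z,
    IsClassFunction.conv (rest_isClassFunction _ ha') (rest_isClassFunction _ hb') x z]

/-! ### Idempotents seen in a block -/

section Idem

variable {H : Type u} [Group H] [Fintype H]

theorem mli_conv_block (hM : IsPModular p M) {b : Set (IrrCharacter H)} (hb : IsPBlock M b)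
    {η : IrrCharacter H} (hη : η ∈ b) {r : H → ℂ} (hr : IsClassFunction H r)
    (hl : ∀ h, MemLocalRing M (r h)) (hi : ∀ h, MemLocalIdeal M (Chars.conv r r h - r h)) (h : H) :
    MemLocalIdeal M (Chars.conv (blockCoeff b) r h - omega (η : H → ℂ) r * blockCoeff b h) := by
  classical
  set u : IrrCharacter H → ℂ := fun θ => omega (θ : H → ℂ) r with hu'
  have hu : u ∈ centerRing hM := omega_mem_centerRing hM hr hl
  have hI := indic_mem_centerRing hM hb
  have hadd : ∀ (v w : IrrCharacter H → ℂ) (x : H),
      coeffFun (v - w) x = coeffFun v x - coeffFun w x := fun v w x => by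
    simp [coeffFun, sub_mul, Finset.sum_sub_distrib, mul_sub]
  have hiu : CoeffMli M (u * u - u) := fun x => by
    rw [hadd, coeffFun_mul, coeffFun_omega hr]
    exact hi x
  have hii : indic b * indic b = indic b := funext fun θ => by
    by_cases h : θ ∈ b <;> simp [indic, h]
  have hiw := CoeffMli.mul_left hM hI hiu
  set c := omega (η : H → ℂ) r
  have hc : MemLocalRing M c := mlr_omega hM η hr hl
  have hmul : coeffFun (indic b * u) h = Chars.conv (blockCoeff b) r h := by
    rw [coeffFun_mul, coeffFun_omega hr, ← funext (blockCoeff_eq_coeffFun b)]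
  have hsame : ∀ θ ∈ b, MemLocalIdeal M (u θ - c) := fun θ hθ =>
    mli_omega_sub hM (IsPBlock.sameBlock hM hb hθ hη) hr hl
  have hcc : MemLocalIdeal M (c * (c - 1)) := by
    have h1 := coeffMli_apply hM hiu η
    simp only [hu', Pi.sub_apply, Pi.mul_apply] at h1
    convert h1 using 1
    ring
  rcases mli_mul_cases hM hc (mlr_sub hM hc (mlr_one hM)) hcc with h0 | h1
  · have hx := coeffMli_of_idem hM (mul_mem hI hu) (fun θ => by
      by_cases hθ : θ ∈ b
      · rw [Pi.mul_apply, indic_of_mem hθ, one_mul]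
        have := mli_add hM (hsame θ hθ) h0
        rwa [sub_add_cancel] at this
      · rw [Pi.mul_apply, indic_of_notMem hθ, zero_mul]; exact mli_zero hM)
      (by
        have e : indic b * u * (indic b * u) - indic b * u = indic b * (u * u - u) := by
          rw [show indic b * u * (indic b * u) = indic b * indic b * (u * u) by ring, hii]; ring
        rw [e]; exact hiw) h
    rw [hmul] at hx
    exact mli_sub hM hx (mli_mul_right hM h0 (mlr_blockCoeff hM hb h))
  · have hx := coeffMli_of_idem hM (sub_mem hI (mul_mem hI hu)) (fun θ => by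
      by_cases hθ : θ ∈ b
      · rw [Pi.sub_apply, Pi.mul_apply, indic_of_mem hθ, one_mul]
        have := mli_neg (mli_add hM (hsame θ hθ) h1)
        convert this using 1
        ring
      · rw [Pi.sub_apply, Pi.mul_apply, indic_of_notMem hθ, zero_mul, sub_self]
        exact mli_zero hM)
      (by
        have e : (indic b - indic b * u) * (indic b - indic b * u) - (indic b - indic b * u) =
            indic b * (u * u - u) := by
          rw [show (indic b - indic b * u) * (indic b - indic b * u) =
            indic b * indic b * ((1 - u) * (1 - u)) by ring, hii]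
          ring
        rw [e]; exact hiw) h
    rw [hadd, hmul, ← blockCoeff_eq_coeffFun] at hx
    have h2 := mli_sub hM (mli_neg hx) (mli_mul_right hM h1 (mlr_blockCoeff hM hb h))
    convert h2 using 1
    ring

/-- An idempotent with a unit coefficient is detected by a block. -/
theorem exists_block_omega_one (hM : IsPModular p M) {r : H → ℂ} (hr : IsClassFunction H r)
    (hl : ∀ h, MemLocalRing M (r h)) (hi : ∀ h, MemLocalIdeal M (Chars.conv r r h - r h)) {z : H}
    (hz : ¬ MemLocalIdeal M (r z)) :
    ∃ b : Set (IrrCharacter H), IsPBlock M b ∧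
      ∀ η ∈ b, MemLocalIdeal M (omega (η : H → ℂ) r - 1) := by
  classical
  set u : IrrCharacter H → ℂ := fun θ => omega (θ : H → ℂ) r with hu'
  have hu : u ∈ centerRing hM := omega_mem_centerRing hM hr hl
  have hiu : CoeffMli M (u * u - u) := fun x => by
    have e : coeffFun (u * u - u) x = coeffFun (u * u) x - coeffFun u x := by
      simp [coeffFun, sub_mul, Finset.sum_sub_distrib, mul_sub]
    rw [e, coeffFun_mul, coeffFun_omega hr]
    exact hi x
  obtain ⟨η, hη⟩ : ∃ η, ¬ MemLocalIdeal M (u η) := by
    by_contra hne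
    push Not at hne
    have := coeffMli_of_idem hM hu hne hiu z
    rw [coeffFun_omega hr] at this
    exact hz this
  refine ⟨blockOf M (η : H → ℂ), isPBlock_blockOf η, fun θ hθ => ?_⟩
  have hc : MemLocalRing M (u η) := mlr_omega hM η hr hl
  have hcc : MemLocalIdeal M (u η * (u η - 1)) := by
    have h1 := coeffMli_apply hM hiu η
    simp only [Pi.sub_apply, Pi.mul_apply] at h1
    convert h1 using 1
    ring
  have h1 := (mli_mul_cases hM hc (mlr_sub hM hc (mlr_one hM)) hcc).resolve_left hη
  have h2 := mli_omega_sub hM (sameBlock_symm hθ) hr hl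
  have h3 := mli_add hM h2 h1
  convert h3 using 1
  simp only [hu']
  ring

end Idem

/-! ### The idempotent of a block of a subgroup, seen in `G` -/

omit [Fintype G] in
theorem sbc_eq_ext0 (K : Subgroup G) (e : Set (IrrCharacter K)) :
    subgroupBlockCoeff K e = ext0 K (blockCoeff e) := by
  funext g
  by_cases h : g ∈ K <;> simp [subgroupBlockCoeff, ext0, h]

omit [Fintype G] in
theorem sbc_apply (K : Subgroup G) (e : Set (IrrCharacter K)) (k : K) :
    subgroupBlockCoeff K e (k : G) = blockCoeff e k := by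
  simp [subgroupBlockCoeff, k.2]

omit [Fintype G] in
theorem sbc_of_notMem (K : Subgroup G) (e : Set (IrrCharacter K)) {g : G} (h : g ∉ K) :
    subgroupBlockCoeff K e g = 0 := by
  simp [subgroupBlockCoeff, h]

theorem sbc_mlr (hM : IsPModular p M) (K : Subgroup G) {e : Set (IrrCharacter K)}
    (he : IsPBlock M e) (g : G) : MemLocalRing M (subgroupBlockCoeff K e g) := by
  classical
  by_cases h : g ∈ K
  · rw [show g = ((⟨g, h⟩ : K) : G) from rfl, sbc_apply]
    exact mlr_blockCoeff hM he _
  · rw [sbc_of_notMem K e h]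
    exact mlr_zero hM

theorem sbc_conjInv_self (K : Subgroup G) (e : Set (IrrCharacter K)) :
    ConjInv K (subgroupBlockCoeff K e) := by
  classical
  intro s hs g
  rw [sbc_eq_ext0]
  exact ext0_conj K (blockCoeff_isClassFunction e) hs g

theorem conv_sbc_self (K : Subgroup G) (e : Set (IrrCharacter K)) :
    Chars.conv (subgroupBlockCoeff K e) (subgroupBlockCoeff K e) = subgroupBlockCoeff K e := by
  classical
  rw [sbc_eq_ext0, conv_ext0, conv_blockCoeff_self]

theorem conv_sbc_ne (hM : IsPModular p M) (K : Subgroup G) {e e' : Set (IrrCharacter K)}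
    (he : IsPBlock M e) (he' : IsPBlock M e') (hne : e ≠ e') :
    Chars.conv (subgroupBlockCoeff K e) (subgroupBlockCoeff K e') = fun _ => 0 := by
  classical
  rw [sbc_eq_ext0, sbc_eq_ext0, conv_ext0]
  have h0 : indic e * indic e' = 0 := funext fun θ => by
    by_cases h : θ ∈ e
    · rw [Pi.mul_apply, indic_of_notMem fun h' => hne (IsPBlock.eq_of_mem hM he he' h h'), mul_zero]
      rfl
    · rw [Pi.mul_apply, indic_of_notMem h, zero_mul]
      rfl
  rw [show Chars.conv (blockCoeff e) (blockCoeff e') = fun _ => (0 : ℂ) from by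
    rw [show blockCoeff e = coeffFun (indic e) from funext (blockCoeff_eq_coeffFun e),
      show blockCoeff e' = coeffFun (indic e') from funext (blockCoeff_eq_coeffFun e'),
      ← coeffFun_mul, h0]
    funext x; simp [coeffFun]]
  funext g
  by_cases h : g ∈ K <;> simp [ext0, h]

/-- Conjugation by an element normalizing a subgroup, as an automorphism of it. -/
def normConj (K : Subgroup G) {x : G} (hx : x ∈ Subgroup.normalizer (K : Set G)) : K ≃* K where
  toFun k := ⟨x * k * x⁻¹, (Subgroup.mem_normalizer_iff.mp hx k).mp k.2⟩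
  invFun k := ⟨x⁻¹ * k * x, by
    have := (Subgroup.mem_normalizer_iff.mp (inv_mem hx) k).mp k.2
    simpa using this⟩
  left_inv k := Subtype.ext (by simp [mul_assoc])
  right_inv k := Subtype.ext (by simp [mul_assoc])
  map_mul' a b := Subtype.ext (by simp [mul_assoc])

theorem sbc_mapBlock_conj (K : Subgroup G) {x : G} (hx : x ∈ Subgroup.normalizer (K : Set G))
    (e : Set (IrrCharacter K)) (g : G) :
    subgroupBlockCoeff K (mapBlock (normConj K hx) e) (x * g * x⁻¹) =
      subgroupBlockCoeff K e g := by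
  classical
  by_cases hg : g ∈ K
  · rw [show g = ((⟨g, hg⟩ : K) : G) from rfl, sbc_apply,
      show x * ((⟨g, hg⟩ : K) : G) * x⁻¹ = ((normConj K hx ⟨g, hg⟩ : K) : G) from rfl, sbc_apply,
      blockCoeff_mapBlock]
  · rw [sbc_of_notMem K _ hg,
      sbc_of_notMem K _ fun h => hg ((Subgroup.mem_normalizer_iff.mp hx g).mpr h)]

theorem stabilizesBlock_iff (hM : IsPModular p M) (K : Subgroup G) {e : Set (IrrCharacter K)}
    (he : IsPBlock M e) {x : G} :
    StabilizesBlock K e x ↔
      ∃ hx : x ∈ Subgroup.normalizer (K : Set G), mapBlock (normConj K hx) e = e := by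
  classical
  constructor
  · rintro ⟨hx, h⟩
    refine ⟨hx, ?_⟩
    obtain ⟨χ, hχ⟩ := IsPBlock.nonempty hM he
    obtain ⟨χ', hχ', hc⟩ := h χ hχ
    refine IsPBlock.eq_of_mem hM (isPBlock_mapBlock hM _ he) he ?_ hχ'
    show pullIrr (normConj K hx) χ' ∈ e
    rwa [show pullIrr (normConj K hx) χ' = χ from Subtype.ext (funext fun k => hc k _ rfl)]
  · rintro ⟨hx, h⟩
    refine ⟨hx, fun χ hχ => ⟨pullIrr (normConj K hx).symm χ, ?_, fun k k' hk => ?_⟩⟩
    · rw [← h]
      show pullIrr _ (pullIrr _ χ) ∈ e
      rwa [pullIrr_symm_apply]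
    · rw [show k' = normConj K hx k from Subtype.ext hk, pullIrr_apply, MulEquiv.symm_apply_apply]

theorem sbc_conjInv_of_stabilizes (hM : IsPModular p M) (K : Subgroup G)
    {e : Set (IrrCharacter K)} (he : IsPBlock M e) {S : Subgroup G}
    (hS : ∀ x ∈ S, StabilizesBlock K e x) : ConjInv S (subgroupBlockCoeff K e) := by
  intro s hs g
  obtain ⟨hx, h⟩ := (stabilizesBlock_iff hM K he).mp (hS s hs)
  conv_lhs => rw [← h]
  exact sbc_mapBlock_conj K hx e g

/-- Agreement of the Brauer images at two nested `p`-subgroups. -/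
theorem mli_brauerOmega_compose (hM : IsPModular p M) {R S : Subgroup G} (hRS : R ≤ S)
    (hS : IsPGroup p S) {g : Set (IrrCharacter (Subgroup.centralizer (R : Set G)))}
    (hg : IsPBlock M g) (hgS : ∀ x ∈ S, StabilizesBlock (Subgroup.centralizer (R : Set G)) g x)
    {η : IrrCharacter (Subgroup.centralizer (R : Set G))} (hη : η ∈ g)
    (ξ : IrrCharacter (Subgroup.centralizer (S : Set G)))
    (hξ : MemLocalIdeal M (brauerOmega S (subgroupBlockCoeff (Subgroup.centralizer (R : Set G)) g)
      (ξ : Subgroup.centralizer (S : Set G) → ℂ) - 1))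
    {a : G → ℂ} (haS : ConjInv S a) (haR : ConjInv (Subgroup.centralizer (R : Set G)) a)
    (hla : ∀ g, MemLocalRing M (a g)) (haa : Chars.conv a a = a) :
    MemLocalIdeal M (brauerOmega S a (ξ : Subgroup.centralizer (S : Set G) → ℂ) -
      brauerOmega R a (η : Subgroup.centralizer (R : Set G) → ℂ)) := by
  classical
  have hCC : Subgroup.centralizer (S : Set G) ≤ Subgroup.centralizer (R : Set G) :=
    Subgroup.centralizer_le hRS
  set b := subgroupBlockCoeff (Subgroup.centralizer (R : Set G)) g with hb
  have hbR := sbc_conjInv_self (Subgroup.centralizer (R : Set G)) g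
  have hbS := sbc_conjInv_of_stabilizes hM _ hg hgS
  have hbl := sbc_mlr hM (Subgroup.centralizer (R : Set G)) hg
  set c := brauerOmega R a (η : Subgroup.centralizer (R : Set G) → ℂ) with hc'
  have hc : MemLocalRing M c := mlr_brauerOmega hM R haR hla η
  have hco : ∀ k : Subgroup.centralizer (R : Set G),
      MemLocalIdeal M (Chars.conv b a (k : G) - c * b (k : G)) := by
    intro k
    rw [conv_rest _ (fun x hx => sbc_of_notMem _ g hx) a k,
      show (fun x : Subgroup.centralizer (R : Set G) => b (x : G)) = blockCoeff g from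
        funext fun x => sbc_apply _ g x, hb, sbc_apply, hc', brauerOmega_eq_omega]
    refine mli_conv_block hM hg hη (rest_isClassFunction _ haR) (fun x => hla x) (fun x => ?_) k
    have := mli_conv_rest hM (hS.to_le hRS) (haS.mono hRS) (haS.mono hRS) hla hla x
    rw [haa] at this
    have := mli_neg this
    rwa [neg_sub] at this
  have h1 := mli_brauerOmega_conv hM hS hbS haS (hbR.mono hCC) (haR.mono hCC) hbl hla ξ
  have h2 := mli_brauerOmega_sub hM S (a := Chars.conv b a) (b := fun x => c * b x)
    ((hbR.mono hCC).conv (haR.mono hCC)) (fun s hs x => congrArg (fun t => c * t) ((hbR.mono hCC) s hs x))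
    (fun k => hco ⟨k, hCC k.2⟩) ξ
  rw [brauerOmega_const_mul] at h2
  set ωb := brauerOmega S b (ξ : Subgroup.centralizer (S : Set G) → ℂ)
  set ωa := brauerOmega S a (ξ : Subgroup.centralizer (S : Set G) → ℂ)
  have hωa : MemLocalRing M ωa := mlr_brauerOmega hM S (haR.mono hCC) hla ξ
  have h3 := mli_sub hM h2 h1
  have h4 := mli_mul_left hM (mlr_sub hM hωa hc) hξ
  have h5 := mli_sub hM h3 h4
  convert h5 using 1
  ring

end CfsgLib.Blocks
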