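import Cfsg.Agent.Lib.Blocks.BrauerPairsUnique

/-!
Conjugation of Brauer pairs.
-/

namespace CfsgLib.Blocks

set_option linter.style.haveILetI false

open scoped ComplexConjugate
open Cfsg CfsgLib.Chars

universe u

variable {G : Type u} [Group G] [Fintype G] {p : ℕ} {M : Ideal AlgInt}

/-- The conjugate set of characters on another subgroup. -/
def conjSet (K K' : Subgroup G) (x : G) (f : Set (IrrCharacter K)) : Set (IrrCharacter K') :=
  {ξ' | ∃ ξ ∈ f, ∀ (c : K) (c' : K'), (c' : G) = x * (c : G) * x⁻¹ →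
    (ξ' : K' → ℂ) c' = (ξ : K → ℂ) c}

/-- Conjugation between two subgroups. -/
def cEquiv {K K' : Subgroup G} {x : G} (h : ∀ c, x * c * x⁻¹ ∈ K' ↔ c ∈ K) : K ≃* K' where
  toFun k := ⟨x * k * x⁻¹, (h _).mpr k.2⟩
  invFun k := ⟨x⁻¹ * k * x, (h _).mp (by simp [mul_assoc])⟩
  left_inv k := Subtype.ext (by simp [mul_assoc])
  right_inv k := Subtype.ext (by simp [mul_assoc])
  map_mul' a b := Subtype.ext (by simp [mul_assoc])

omit [Fintype G] in
theorem conjSet_eq {K K' : Subgroup G} {x : G} (h : ∀ c, x * c * x⁻¹ ∈ K' ↔ c ∈ K)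
    (f : Set (IrrCharacter K)) : conjSet K K' x f = mapBlock (cEquiv h) f := by
  ext χ
  constructor
  · rintro ⟨ξ, hξ, hc⟩
    show pullIrr (cEquiv h) χ ∈ f
    rwa [show pullIrr (cEquiv h) χ = ξ from Subtype.ext (funext fun k => hc k _ rfl)]
  · intro hχ
    exact ⟨_, hχ, fun c c' hc => by rw [pullIrr_apply, show c' = cEquiv h c from Subtype.ext hc]⟩

omit [Fintype G] in
theorem centralizer_conj_iff (Q : Subgroup G) (x c : G) :
    x * c * x⁻¹ ∈ Subgroup.centralizer ((Q.map (MulAut.conj x).toMonoidHom : Subgroup G) : Set G) ↔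
      c ∈ Subgroup.centralizer (Q : Set G) := by
  rw [Subgroup.mem_centralizer_iff, Subgroup.mem_centralizer_iff]
  constructor
  · intro h q hq
    exact (MulAut.conj x).injective
      ((map_mul (MulAut.conj x) q c).trans ((h _ ⟨q, hq, rfl⟩).trans (map_mul (MulAut.conj x) c q).symm))
  · rintro h _ ⟨q, hq, rfl⟩
    exact (map_mul (MulAut.conj x) q c).symm.trans
      ((congrArg _ (h q hq)).trans (map_mul (MulAut.conj x) c q))

omit [Fintype G] in
theorem conjBlock_eq_map (Q : Subgroup G) (x : G)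
    (f : Set (IrrCharacter (Subgroup.centralizer (Q : Set G)))) :
    conjBlock Q x f = mapBlock (cEquiv (centralizer_conj_iff Q x)) f :=
  conjSet_eq (centralizer_conj_iff Q x) f

omit [Fintype G] in
theorem conjSet_conjSet {K K' K'' : Subgroup G} {x y : G} (h : ∀ c, x * c * x⁻¹ ∈ K' ↔ c ∈ K)
    (h' : ∀ c, y * c * y⁻¹ ∈ K'' ↔ c ∈ K') (f : Set (IrrCharacter K)) :
    conjSet K' K'' y (conjSet K K' x f) = conjSet K K'' (y * x) f := by
  have h'' : ∀ c, y * x * c * (y * x)⁻¹ ∈ K'' ↔ c ∈ K := fun c => by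
    rw [show y * x * c * (y * x)⁻¹ = y * (x * c * x⁻¹) * y⁻¹ by group, h', h]
  rw [conjSet_eq h, conjSet_eq h', conjSet_eq h'']
  ext χ
  show pullIrr (cEquiv h) (pullIrr (cEquiv h') χ) ∈ f ↔ pullIrr (cEquiv h'') χ ∈ f
  rw [show pullIrr (cEquiv h) (pullIrr (cEquiv h') χ) = pullIrr (cEquiv h'') χ from
    Subtype.ext (funext fun k => congrArg (χ : K'' → ℂ) (Subtype.ext (by simp [cEquiv, mul_assoc])))]

omit [Fintype G] in
theorem conjSet_one {K : Subgroup G} (f : Set (IrrCharacter K)) : conjSet K K 1 f = f := by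
  rw [conjSet_eq (x := 1) (fun c => by simp)]
  ext χ
  show pullIrr _ χ ∈ f ↔ χ ∈ f
  rw [show pullIrr (cEquiv (K := K) (K' := K) (x := 1) (fun c => by simp)) χ = χ from
    Subtype.ext (funext fun k => congrArg (χ : K → ℂ) (Subtype.ext (by simp [cEquiv])))]

/-- Conjugation of pairs. -/
def pairConj (x : G) (a : BrauerPairIdx G) : BrauerPairIdx G :=
  ⟨a.1.map (MulAut.conj x).toMonoidHom, conjBlock a.1 x a.2⟩

omit [Fintype G] in
theorem pair_eq {Q₁ Q₂ : Subgroup G} (h : Q₁ = Q₂) (K : Subgroup G) (z : G)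
    (f : Set (IrrCharacter K)) :
    (⟨Q₁, conjSet K (Subgroup.centralizer (Q₁ : Set G)) z f⟩ : BrauerPairIdx G) =
      ⟨Q₂, conjSet K (Subgroup.centralizer (Q₂ : Set G)) z f⟩ := by
  subst h; rfl

omit [Fintype G] in
theorem pairConj_mul (x y : G) (a : BrauerPairIdx G) :
    pairConj (y * x) a = pairConj y (pairConj x a) := by
  obtain ⟨Q, f⟩ := a
  have e : (Q.map (MulAut.conj x).toMonoidHom).map (MulAut.conj y).toMonoidHom =
      Q.map (MulAut.conj (y * x)).toMonoidHom := by
    rw [Subgroup.map_map, map_mul]; rfl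
  show _ = (⟨(Q.map (MulAut.conj x).toMonoidHom).map (MulAut.conj y).toMonoidHom,
    conjSet _ _ y (conjSet _ _ x f)⟩ : BrauerPairIdx G)
  refine ((pair_eq e _ _ f).symm).trans ?_
  exact congrArg (Sigma.mk _)
    (conjSet_conjSet (centralizer_conj_iff Q x) (centralizer_conj_iff _ y) f).symm

omit [Fintype G] in
theorem pairConj_one (a : BrauerPairIdx G) : pairConj 1 a = a := by
  obtain ⟨Q, f⟩ := a
  have e : Q.map (MulAut.conj (1 : G)).toMonoidHom = Q := by
    rw [map_one]; exact Subgroup.map_id Q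
  refine (pair_eq e _ 1 f).trans ?_
  rw [conjSet_one]

theorem sbc_conjBlock (Q : Subgroup G) (x : G)
    (f : Set (IrrCharacter (Subgroup.centralizer (Q : Set G)))) (g : G) :
    subgroupBlockCoeff (Subgroup.centralizer ((Q.map (MulAut.conj x).toMonoidHom : Subgroup G) : Set G))
      (conjBlock Q x f) (x * g * x⁻¹) = subgroupBlockCoeff (Subgroup.centralizer (Q : Set G)) f g := by
  classical
  by_cases hg : g ∈ Subgroup.centralizer (Q : Set G)
  · rw [show g = ((⟨g, hg⟩ : Subgroup.centralizer (Q : Set G)) : G) from rfl, sbc_apply,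
      show x * ((⟨g, hg⟩ : Subgroup.centralizer (Q : Set G)) : G) * x⁻¹ =
        ((cEquiv (centralizer_conj_iff Q x) ⟨g, hg⟩ : _) : G) from rfl, sbc_apply,
      conjBlock_eq_map, blockCoeff_mapBlock]
  · rw [sbc_of_notMem _ _ hg, sbc_of_notMem _ _ fun h => hg ((centralizer_conj_iff Q x g).mp h)]

omit [Fintype G] in
theorem brauerOmega_conj [Finite G] (Q : Subgroup G) (x : G) (β β' : G → ℂ)
    (hβ : ∀ g, β' (x * g * x⁻¹) = β g)
    (ξ' : IrrCharacter (Subgroup.centralizer
      ((Q.map (MulAut.conj x).toMonoidHom : Subgroup G) : Set G))) :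
    brauerOmega (Q.map (MulAut.conj x).toMonoidHom) β' (ξ' : _ → ℂ) =
      brauerOmega Q β (pullIrr (cEquiv (centralizer_conj_iff Q x)) ξ' :
        Subgroup.centralizer (Q : Set G) → ℂ) := by
  rw [brauerOmega, brauerOmega]
  refine (finsum_eq_of_bijective (cEquiv (centralizer_conj_iff Q x))
    (MulEquiv.bijective _) fun c => ?_).symm
  rw [pullIrr_apply, pullIrr_apply, map_one]
  congr 2
  exact (hβ (c : G)).symm

theorem isBrauerPair_conj (hM : IsPModular p M) {Q : Subgroup G}
    {f : Set (IrrCharacter (Subgroup.centralizer (Q : Set G)))} (h : IsBrauerPair p M Q f) (x : G) :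
    IsBrauerPair p M (Q.map (MulAut.conj x).toMonoidHom) (conjBlock Q x f) := by
  classical
  exact ⟨h.1.map _, by rw [conjBlock_eq_map]; exact isPBlock_mapBlock hM _ h.2⟩

theorem isBrauerPairOf_conj (hM : IsPModular p M) {B : Set (IrrCharacter G)} {Q : Subgroup G}
    {f : Set (IrrCharacter (Subgroup.centralizer (Q : Set G)))} (h : IsBrauerPairOf p M B Q f)
    (x : G) : IsBrauerPairOf p M B (Q.map (MulAut.conj x).toMonoidHom) (conjBlock Q x f) := by
  refine ⟨isBrauerPair_conj hM h.1 x, h.2.1, fun ξ' hξ' => ?_⟩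
  rw [brauerOmega_conj Q x (blockCoeff B) _ (fun g => blockCoeff_isClassFunction B g x)]
  rw [conjBlock_eq_map] at hξ'
  exact h.2.2 _ hξ'

theorem isNormalSubpair_conj (hM : IsPModular p M) {Q P : Subgroup G}
    {f : Set (IrrCharacter (Subgroup.centralizer (Q : Set G)))}
    {e : Set (IrrCharacter (Subgroup.centralizer (P : Set G)))}
    (h : IsNormalSubpair p M Q f P e) (x : G) :
    IsNormalSubpair p M (Q.map (MulAut.conj x).toMonoidHom) (conjBlock Q x f)
      (P.map (MulAut.conj x).toMonoidHom) (conjBlock P x e) := by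
  classical
  obtain ⟨hQf, hPe, hQP, hPN, hst, hone⟩ := h
  have hN : P.map (MulAut.conj x).toMonoidHom ≤
      Subgroup.normalizer ((Q.map (MulAut.conj x).toMonoidHom : Subgroup G) : Set G) := by
    rintro _ ⟨z, hz, rfl⟩
    refine Subgroup.mem_normalizer_iff.mpr fun g => ?_
    have key : ∀ g, g ∈ Q.map (MulAut.conj x).toMonoidHom ↔ x⁻¹ * g * x ∈ Q := fun g => by
      constructor
      · rintro ⟨q, hq, rfl⟩; simpa [mul_assoc] using hq
      · exact fun hg => ⟨_, hg, by simp [mul_assoc]⟩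
    rw [key, key, show x⁻¹ * ((MulAut.conj x).toMonoidHom z * g *
      ((MulAut.conj x).toMonoidHom z)⁻¹) * x = z * (x⁻¹ * g * x) * z⁻¹ by
        simp only [MulEquiv.coe_toMonoidHom, MulAut.conj_apply]; group]
    exact Subgroup.mem_normalizer_iff.mp (hPN hz) (x⁻¹ * g * x)
  refine ⟨isBrauerPair_conj hM hQf x, isBrauerPair_conj hM hPe x, Subgroup.map_mono hQP, hN,
    ?_, fun ξ' hξ' => ?_⟩
  · rintro _ ⟨z, hz, rfl⟩
    obtain ⟨hzN, hfix⟩ := (stabilizesBlock_iff hM _ hQf.2).mp (hst z hz)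
    set hx := centralizer_conj_iff Q x
    have hzN' := mem_normalizer_centralizer (hN ⟨z, hz, rfl⟩)
    refine (stabilizesBlock_iff hM _ (isBrauerPair_conj hM hQf x).2).mpr ⟨hzN', ?_⟩
    rw [conjBlock_eq_map]
    ext χ
    show pullIrr (cEquiv hx) (pullIrr (normConj _ hzN') χ) ∈ f ↔ pullIrr (cEquiv hx) χ ∈ f
    conv_rhs => rw [← hfix]
    show _ ↔ pullIrr (normConj _ hzN) (pullIrr (cEquiv hx) χ) ∈ f
    have e2 : pullIrr (cEquiv hx) (pullIrr (normConj _ hzN') χ) =
        pullIrr (normConj _ hzN) (pullIrr (cEquiv hx) χ) := by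
      apply Subtype.ext
      funext k
      simp only [pullIrr_apply]
      refine congrArg (χ : Subgroup.centralizer
        ((Q.map (MulAut.conj x).toMonoidHom : Subgroup G) : Set G) → ℂ) (Subtype.ext ?_)
      show x * z * x⁻¹ * (x * (k : G) * x⁻¹) * (x * z * x⁻¹)⁻¹ =
        x * (z * (k : G) * z⁻¹) * x⁻¹
      group
    rw [e2]
  · rw [brauerOmega_conj P x _ _ (sbc_conjBlock Q x f)]
    rw [conjBlock_eq_map] at hξ'
    exact hone _ hξ'

theorem subpairLE_conj (hM : IsPModular p M) {Q P : Subgroup G}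
    {f : Set (IrrCharacter (Subgroup.centralizer (Q : Set G)))}
    {e : Set (IrrCharacter (Subgroup.centralizer (P : Set G)))}
    (h : SubpairLE p M Q f P e) (x : G) :
    SubpairLE p M (Q.map (MulAut.conj x).toMonoidHom) (conjBlock Q x f)
      (P.map (MulAut.conj x).toMonoidHom) (conjBlock P x e) := by
  have key : ∀ a b : BrauerPairIdx G, Relation.ReflTransGen (NormalSubpairRel p M) a b →
      Relation.ReflTransGen (NormalSubpairRel p M) (pairConj x a) (pairConj x b) := fun a b h => by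
    induction h using Relation.ReflTransGen.head_induction_on with
    | refl => exact Relation.ReflTransGen.refl
    | @head a c hac _ ih =>
      exact Relation.ReflTransGen.head
        (show NormalSubpairRel p M (pairConj x a) (pairConj x c) from
          isNormalSubpair_conj hM hac x) ih
  exact key _ _ h

/-- Stabilizing is being fixed by conjugation, as pairs. -/
theorem stabilizesBlock_iff_pairConj (hM : IsPModular p M) {Q : Subgroup G}
    {f : Set (IrrCharacter (Subgroup.centralizer (Q : Set G)))}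
    (hf : IsPBlock M f) {x : G} (hx : x ∈ Subgroup.normalizer (Q : Set G)) :
    StabilizesBlock (Subgroup.centralizer (Q : Set G)) f x ↔
      pairConj x ⟨Q, f⟩ = (⟨Q, f⟩ : BrauerPairIdx G) := by
  classical
  have e : Q.map (MulAut.conj x).toMonoidHom = Q := by
    ext g
    constructor
    · rintro ⟨q, hq, rfl⟩; exact (Subgroup.mem_normalizer_iff.mp hx q).mp hq
    · intro hg
      refine ⟨x⁻¹ * g * x, ?_, by simp [mul_assoc]⟩
      have := (Subgroup.mem_normalizer_iff.mp (inv_mem hx) g).mp hg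
      simpa using this
  have hxC := mem_normalizer_centralizer hx
  have h1 : pairConj x ⟨Q, f⟩ = (⟨Q, mapBlock (normConj _ hxC) f⟩ : BrauerPairIdx G) := by
    refine (pair_eq e _ x f).trans ?_
    rw [conjSet_eq (K := Subgroup.centralizer (Q : Set G)) (K' := Subgroup.centralizer (Q : Set G))
      (x := x) fun c => (Subgroup.mem_normalizer_iff.mp hxC c).symm]
    rfl
  rw [stabilizesBlock_iff hM _ hf, h1]
  constructor
  · rintro ⟨_, h⟩; rw [h]
  · exact fun h => ⟨hxC, eq_of_heq (Sigma.mk.inj_iff.mp h).2⟩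

end CfsgLib.Blocks
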