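import Cfsg.Agent.Lib.Blocks.BrauerPairs

/-!
The unique Brauer pair below a given one.
-/

namespace CfsgLib.Blocks

set_option linter.style.haveILetI false

open scoped ComplexConjugate
open Cfsg CfsgLib.Chars

universe u

variable {G : Type u} [Group G] [Fintype G] {p : ℕ} {M : Ideal AlgInt}

theorem mem_normalizer_centralizer {Q : Subgroup G} {x : G}
    (hx : x ∈ Subgroup.normalizer (Q : Set G)) :
    x ∈ Subgroup.normalizer ((Subgroup.centralizer (Q : Set G) : Subgroup G) : Set G) :=
  normalizer_le_normalizer_centralizer Q hx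

/-- The action of `P` on the blocks of the centralizer of a subgroup it normalizes. -/
@[instance_reducible]
noncomputable def blockAction (hM : IsPModular p M) (K : Subgroup G) {P : Subgroup G}
    (hP : P ≤ Subgroup.normalizer (K : Set G)) :
    MulAction P {f : Set (IrrCharacter K) // IsPBlock M f} where
  smul q f := ⟨mapBlock (normConj K (hP q.2)) f.1, by
    classical
    exact isPBlock_mapBlock hM _ f.2⟩
  one_smul f := Subtype.ext (Set.ext fun χ => by
    show pullIrr (normConj K (hP (1 : P).2)) χ ∈ f.1 ↔ χ ∈ f.1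
    rw [show pullIrr (normConj K (hP (1 : P).2)) χ = χ from Subtype.ext (funext fun k =>
      congrArg (χ : K → ℂ) (Subtype.ext (by simp [normConj])))])
  mul_smul q r f := Subtype.ext (Set.ext fun χ => by
    show pullIrr (normConj K (hP (q * r).2)) χ ∈ f.1 ↔
      pullIrr (normConj K (hP r.2)) (pullIrr (normConj K (hP q.2)) χ) ∈ f.1
    rw [show pullIrr (normConj K (hP r.2)) (pullIrr (normConj K (hP q.2)) χ) =
        pullIrr (normConj K (hP (q * r).2)) χ from Subtype.ext (funext fun k =>
      congrArg (χ : K → ℂ) (Subtype.ext (by simp [normConj, mul_assoc])))])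

/-- Exactly one block below a pair at a normal subgroup. -/
theorem existsUnique_normal_below (hM : IsPModular p M) {P Q : Subgroup G}
    {e : Set (IrrCharacter (Subgroup.centralizer (P : Set G)))} (hPe : IsBrauerPair p M P e)
    (hQP : Q ≤ P) (hPN : P ≤ Subgroup.normalizer (Q : Set G)) :
    ∃! f : Set (IrrCharacter (Subgroup.centralizer (Q : Set G))), IsNormalSubpair p M Q f P e := by
  classical
  obtain ⟨hP, he⟩ := hPe
  set K := Subgroup.centralizer (Q : Set G) with hK
  have hCK : Subgroup.centralizer (P : Set G) ≤ K := Subgroup.centralizer_le hQP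
  have hPK : P ≤ Subgroup.normalizer (K : Set G) := fun x hx => mem_normalizer_centralizer (hPN hx)
  obtain ⟨ξ₀, hξ₀⟩ := IsPBlock.nonempty hM he
  letI := blockAction hM K hPK
  haveI : Fintype {f : Set (IrrCharacter K) // IsPBlock M f} := Fintype.ofFinite _
  let F : {f : Set (IrrCharacter K) // IsPBlock M f} → ℂ := fun f =>
    brauerOmega P (subgroupBlockCoeff K f.1) (ξ₀ : Subgroup.centralizer (P : Set G) → ℂ)
  have hsum : ∑ f, F f = 1 := by
    have e1 : ∀ k : K, ∑ f : {f : Set (IrrCharacter K) // IsPBlock M f}, blockCoeff f.1 k =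
        if k = 1 then 1 else 0 := by
      intro k
      have hs : ∀ φ : IrrCharacter K,
          ∑ f : {f : Set (IrrCharacter K) // IsPBlock M f}, indic f.1 φ = 1 := by
        intro φ
        rw [Finset.sum_eq_single (⟨blockOf M (φ : K → ℂ), isPBlock_blockOf φ⟩ :
          {f : Set (IrrCharacter K) // IsPBlock M f})]
        · exact indic_of_mem (self_mem_blockOf hM φ)
        · intro f _ hne
          exact indic_of_notMem fun h => hne (Subtype.ext (IsPBlock.eq_blockOf hM f.2 h))
        · intro h; exact absurd (Finset.mem_univ _) h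
      have := congrFun (coeffFun_const (G := K) (1 : ℂ)) k
      rw [← this]
      simp only [blockCoeff_eq_coeffFun, coeffFun, ← Finset.mul_sum]
      congr 1
      rw [Finset.sum_comm]
      exact Finset.sum_congr rfl fun φ _ => by rw [← Finset.sum_mul, ← Finset.sum_mul, hs]
    have e2 : ∀ c : Subgroup.centralizer (P : Set G),
        ∑ f : {f : Set (IrrCharacter K) // IsPBlock M f}, subgroupBlockCoeff K f.1 (c : G) =
          if c = 1 then 1 else 0 := by
      intro c
      rw [Finset.sum_congr rfl (fun f _ =>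
        (sbc_apply K f.1 ⟨(c : G), hCK c.2⟩ :
          subgroupBlockCoeff K f.1 (c : G) = blockCoeff f.1 ⟨(c : G), hCK c.2⟩)), e1]
      exact if_congr ⟨fun h => Subtype.ext (congrArg Subtype.val h :), fun h => by subst h; rfl⟩ rfl rfl
    simp only [F, brauerOmega_eq_omega]
    have key := omega_sum (ξ₀ : Subgroup.centralizer (P : Set G) → ℂ) Finset.univ
      (fun _ : {f : Set (IrrCharacter K) // IsPBlock M f} => (1 : ℂ))
      (fun f => fun c : Subgroup.centralizer (P : Set G) => subgroupBlockCoeff K f.1 (c : G))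
    simp only [one_mul] at key
    rw [← key, funext e2]
    exact omega_one_fun ξ₀
  have hinv : ∀ (q : P) f, F (q • f) = F f := by
    intro q f
    simp only [F, brauerOmega]
    refine finsum_congr fun c => ?_
    congr 2
    have hc : (q : G) * (c : G) * (q : G)⁻¹ = c := by
      rw [Subgroup.mem_centralizer_iff.mp c.2 q q.2, mul_inv_cancel_right]
    conv_lhs => rw [← hc]
    exact sbc_mapBlock_conj K (hPK q.2) f.1 (c : G)
  have hl : ∀ f, MemLocalRing M (F f) := fun f => mlr_brauerOmega hM P
    ((sbc_conjInv_self K f.1).mono hCK) (sbc_mlr hM K f.2) ξ₀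
  obtain ⟨f, hfix, hne⟩ : ∃ f, (∀ q : P, q • f = f) ∧ ¬ MemLocalIdeal M (F f) := by
    by_contra hno
    push Not at hno
    refine not_mli_one hM ?_
    rw [← hsum]
    exact mli_sum_of_no_fixed hM hP hinv hl hno
  have hst : ∀ x ∈ P, StabilizesBlock K f.1 x := fun x hx =>
    (stabilizesBlock_iff hM K f.2).mpr ⟨hPK hx, congrArg Subtype.val (hfix ⟨x, hx⟩)⟩
  have hinvP := sbc_conjInv_of_stabilizes hM K f.2 hst
  have hinvC := (sbc_conjInv_self K f.1).mono hCK
  have hone : ∀ ξ ∈ e, MemLocalIdeal M (brauerOmega P (subgroupBlockCoeff K f.1)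
      (ξ : Subgroup.centralizer (P : Set G) → ℂ) - 1) := by
    intro ξ hξ
    have h1 := mli_brauerOmega_conv hM hP hinvP hinvP hinvC hinvC (sbc_mlr hM K f.2)
      (sbc_mlr hM K f.2) ξ₀
    rw [conv_sbc_self] at h1
    have h2 : MemLocalIdeal M (F f * (F f - 1)) := by
      convert mli_neg h1 using 1
      simp only [F]
      ring
    have h3 := (mli_mul_cases hM (hl f) (mlr_sub hM (hl f) (mlr_one hM)) h2).resolve_left hne
    have h4 := brauerOmega_sameBlock hM P hinvC (sbc_mlr hM K f.2)
      (IsPBlock.sameBlock hM he hξ hξ₀)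
    convert mli_add hM h4 h3 using 1
    simp only [F]
    ring
  refine ⟨f.1, ⟨⟨hP.to_le hQP, f.2⟩, ⟨hP, he⟩, hQP, hPN, hst, hone⟩, ?_⟩
  rintro f' ⟨⟨-, hf'⟩, -, -, -, hst', hone'⟩
  by_contra hne'
  have h1 := mli_brauerOmega_conv hM hP (sbc_conjInv_of_stabilizes hM K hf' hst') hinvP
    ((sbc_conjInv_self K f').mono hCK) hinvC (sbc_mlr hM K hf') (sbc_mlr hM K f.2) ξ₀
  rw [conv_sbc_ne hM K hf' f.2 hne',
    show brauerOmega P (fun _ : G => (0 : ℂ)) (ξ₀ : Subgroup.centralizer (P : Set G) → ℂ) = 0 by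
      simp [brauerOmega], zero_sub] at h1
  exact not_mli_of_sub_one hM (hone' ξ₀ hξ₀)
    ((mli_mul_cases hM (mlr_brauerOmega hM P ((sbc_conjInv_self K f').mono hCK)
      (sbc_mlr hM K hf') ξ₀) (hl f) (by convert mli_neg h1 using 1; simp [F])).resolve_right hne)

/-- Normal inclusion between pairs on one subgroup is equality. -/
theorem normalSubpair_self (hM : IsPModular p M) {P : Subgroup G}
    {f e : Set (IrrCharacter (Subgroup.centralizer (P : Set G)))}
    (h : IsNormalSubpair p M P f P e) : f = e := by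
  classical
  obtain ⟨⟨-, hf⟩, ⟨-, he⟩, -, -, -, hone⟩ := h
  obtain ⟨ξ, hξ⟩ := IsPBlock.nonempty hM he
  refine IsPBlock.eq_of_mem hM hf he ?_ hξ
  by_contra hn
  have h1 := hone ξ hξ
  rw [brauerOmega_eq_omega, show (fun c : Subgroup.centralizer (P : Set G) =>
      subgroupBlockCoeff _ f (c : G)) = blockCoeff f from funext fun c => sbc_apply _ f c,
    omega_blockCoeff, indic_of_notMem hn] at h1
  exact not_mli_of_sub_one hM h1 (mli_zero hM)

omit [Fintype G] in
/-- Normalizers grow in `p`-groups. -/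
theorem lt_inf_normalizer [Finite G] [Fact p.Prime] {Q S : Subgroup G} (hS : IsPGroup p S)
    (hQS : Q < S) : Q < S ⊓ Subgroup.normalizer (Q : Set G) := by
  haveI : Group.IsNilpotent S := hS.isNilpotent
  have hlt : Q.subgroupOf S < ⊤ := lt_top_iff_ne_top.mpr fun h =>
    hQS.not_ge (Subgroup.subgroupOf_eq_top.mp h)
  obtain ⟨z, hz, hzQ⟩ := SetLike.exists_of_lt
    (normalizerCondition_of_isNilpotent (Q.subgroupOf S) hlt)
  refine lt_of_le_of_ne (le_inf hQS.le Subgroup.le_normalizer) fun e => hzQ ?_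
  show (z : G) ∈ Q
  rw [e]
  refine ⟨z.2, Subgroup.mem_normalizer_iff.mpr fun g => ⟨fun hg => ?_, fun hg => ?_⟩⟩
  · exact (Subgroup.mem_normalizer_iff.mp hz ⟨g, hQS.le hg⟩).mp hg
  · have hgS : g ∈ S := by
      have := mul_mem (mul_mem (inv_mem z.2) (hQS.le hg)) z.2
      simpa [mul_assoc] using this
    exact (Subgroup.mem_normalizer_iff.mp hz ⟨g, hgS⟩).mpr hg

omit [Fintype G] in
theorem SubpairLE.left_block {Q P : Subgroup G}
    {f : Set (IrrCharacter (Subgroup.centralizer (Q : Set G)))}
    {e : Set (IrrCharacter (Subgroup.centralizer (P : Set G)))} (h : SubpairLE p M Q f P e)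
    (hPe : IsBrauerPair p M P e) : IsBrauerPair p M Q f := by
  rcases Relation.ReflTransGen.cases_head h with h' | ⟨c, hc, -⟩
  · cases h'
    exact hPe
  · exact hc.1

/-- Below a Brauer pair there is a pair at every smaller subgroup. -/
theorem exists_subpair_below (hM : IsPModular p M) {P : Subgroup G}
    {e : Set (IrrCharacter (Subgroup.centralizer (P : Set G)))} (hPe : IsBrauerPair p M P e) :
    ∀ Q : Subgroup G, Q ≤ P → ∃ f, SubpairLE p M Q f P e := by
  haveI : Fact p.Prime := ⟨hM.1⟩
  intro Q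
  induction Q using (wellFounded_gt (α := Subgroup G)).induction with
  | _ Q ih =>
    intro hQP
    rcases eq_or_lt_of_le hQP with rfl | hlt
    · exact ⟨e, Relation.ReflTransGen.refl⟩
    · have hgt := lt_inf_normalizer hPe.1 hlt
      obtain ⟨g, hg⟩ := ih _ hgt inf_le_left
      obtain ⟨f, hf, -⟩ := existsUnique_normal_below hM (SubpairLE.left_block hg hPe) hgt.le inf_le_right
      exact ⟨f, Relation.ReflTransGen.head
        (show NormalSubpairRel p M ⟨Q, f⟩ ⟨_, g⟩ from hf) hg⟩

omit [Fintype G] in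
/-- A chain has a first proper step. -/
theorem SubpairLE.first_step (hM : IsPModular p M) [Finite G] {Q P : Subgroup G}
    {f : Set (IrrCharacter (Subgroup.centralizer (Q : Set G)))}
    {e : Set (IrrCharacter (Subgroup.centralizer (P : Set G)))} (h : SubpairLE p M Q f P e)
    (hne : Q ≠ P) : ∃ (R : Subgroup G) (g : Set (IrrCharacter (Subgroup.centralizer (R : Set G)))),
      Q < R ∧ IsNormalSubpair p M Q f R g ∧ SubpairLE p M R g P e := by
  haveI := Fintype.ofFinite G
  have key : ∀ a b : BrauerPairIdx G, Relation.ReflTransGen (NormalSubpairRel p M) a b →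
      a.1 ≠ b.1 → ∃ c, a.1 < c.1 ∧ NormalSubpairRel p M a c ∧
        Relation.ReflTransGen (NormalSubpairRel p M) c b := by
    intro a b h
    induction h using Relation.ReflTransGen.head_induction_on with
    | refl => exact fun h => absurd rfl h
    | @head a c hac hcb ih =>
      intro hne'
      obtain ⟨Q₁, f₁⟩ := a
      obtain ⟨R₁, g₁⟩ := c
      have hle : Q₁ ≤ R₁ := hac.2.2.1
      rcases eq_or_lt_of_le hle with rfl | hlt
      · obtain rfl := normalSubpair_self hM hac
        exact ih hne'
      · exact ⟨⟨R₁, g₁⟩, hlt, hac, hcb⟩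
  obtain ⟨⟨R, g⟩, h1, h2, h3⟩ := key _ _ h hne
  exact ⟨R, g, h1, h2, h3⟩

/-- Normal inclusions at a fixed subgroup propagate along a chain. -/
theorem normalSubpair_along (hM : IsPModular p M) {Q S : Subgroup G}
    {gS : Set (IrrCharacter (Subgroup.centralizer (S : Set G)))}
    (hSN : S ≤ Subgroup.normalizer (Q : Set G)) :
    ∀ a : BrauerPairIdx G, Relation.ReflTransGen (NormalSubpairRel p M) a ⟨S, gS⟩ →
      ∀ f, IsNormalSubpair p M Q f a.1 a.2 → IsNormalSubpair p M Q f S gS := by
  classical
  intro a h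
  induction h using Relation.ReflTransGen.head_induction_on with
  | refl => exact fun f hf => hf
  | @head a c hac hcb ih =>
    intro f hf
    obtain ⟨R, g⟩ := a
    obtain ⟨T, g'⟩ := c
    obtain ⟨-, hTg, hRT, -, hgT, hg'⟩ := hac
    have hTS : T ≤ S := SubpairLE.le (hcb : SubpairLE p M T g' S gS)
    obtain ⟨f', hf', -⟩ := existsUnique_normal_below hM hTg (hf.2.2.1.trans hRT) (hTS.trans hSN)
    suffices e : f' = f from ih f (e ▸ hf')
    refine (existsUnique_normal_below hM hf.2.1 hf.2.2.1 ((hRT.trans hTS).trans hSN)).unique ?_ hf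
    refine ⟨hf.1.1 |> fun h => ⟨h, hf'.1.2⟩, hf.2.1, hf.2.2.1, (hRT.trans hTS).trans hSN,
      fun x hx => hf'.2.2.2.2.1 x (hRT hx), fun η hη => ?_⟩
    obtain ⟨ξ, hξ⟩ := IsPBlock.nonempty hM hTg.2
    have h1 := mli_brauerOmega_compose hM hRT hTg.1 hf.2.1.2 hgT hη ξ (hg' ξ hξ)
      (sbc_conjInv_of_stabilizes hM _ hf'.1.2 hf'.2.2.2.2.1)
      ((sbc_conjInv_self _ f').mono (Subgroup.centralizer_le hf.2.2.1))
      (sbc_mlr hM _ hf'.1.2) (conv_sbc_self _ f')
    have h2 := mli_sub hM (hf'.2.2.2.2.2 ξ hξ) h1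
    convert h2 using 1
    ring

/-- There is only one pair at a given subgroup below a given pair. -/
theorem subpair_below_unique (hM : IsPModular p M) {P : Subgroup G}
    {e : Set (IrrCharacter (Subgroup.centralizer (P : Set G)))} (hPe : IsBrauerPair p M P e) :
    ∀ Q : Subgroup G, ∀ f f', SubpairLE p M Q f P e → SubpairLE p M Q f' P e → f = f' := by
  haveI : Fact p.Prime := ⟨hM.1⟩
  intro Q
  induction Q using (wellFounded_gt (α := Subgroup G)).induction with
  | _ Q ih =>
    have base : ∀ f, SubpairLE p M Q f P e → Q = P → HEq f e := by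
      intro f h hQ
      have key : ∀ a b : BrauerPairIdx G, Relation.ReflTransGen (NormalSubpairRel p M) a b →
          a.1 = b.1 → a = b := fun a b h => by
        induction h using Relation.ReflTransGen.head_induction_on with
        | refl => exact fun _ => rfl
        | @head a c hac hcb ih =>
          intro he
          have h1 : a.1 = c.1 :=
            le_antisymm hac.2.2.1 (he ▸ SubpairLE.le (hcb : SubpairLE p M c.1 c.2 b.1 b.2))
          obtain ⟨R, g⟩ := a
          obtain ⟨T, g'⟩ := c
          obtain rfl : R = T := h1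
          obtain rfl := normalSubpair_self hM hac
          exact ih he
      have h2 := key ⟨Q, f⟩ ⟨P, e⟩ h hQ
      exact (Sigma.mk.inj_iff.mp h2).2
    intro f f' hf hf'
    by_cases hQ : Q = P
    · exact eq_of_heq ((base f hf hQ).trans (base f' hf' hQ).symm)
    · have hQP : Q < P := lt_of_le_of_ne (SubpairLE.le hf) hQ
      have hgt := lt_inf_normalizer hPe.1 hQP
      obtain ⟨gS, hgS⟩ := exists_subpair_below hM hPe _ (inf_le_left (b := Subgroup.normalizer (Q : Set G)))
      have hgSb := SubpairLE.left_block hgS hPe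
      obtain ⟨f₀, hf₀, huniq⟩ := existsUnique_normal_below hM hgSb hgt.le inf_le_right
      suffices H : ∀ f, SubpairLE p M Q f P e → f = f₀ from (H f hf).trans (H f' hf').symm
      intro f hf
      obtain ⟨R, g, hQR, hstep, hRP⟩ := SubpairLE.first_step hM hf hQ
      have hRS : R ≤ P ⊓ Subgroup.normalizer (Q : Set G) := le_inf (SubpairLE.le hRP) hstep.2.2.2.1
      obtain ⟨g'', hg''⟩ := exists_subpair_below hM hgSb R hRS
      obtain rfl := ih R hQR g'' g (Relation.ReflTransGen.trans hg'' hgS) hRP
      exact huniq f (normalSubpair_along hM inf_le_right ⟨R, g''⟩ hg'' f hstep)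

/-- Pairs of a block are inherited along normal inclusions, both ways. -/
theorem brauerPairOf_iff_normal (hM : IsPModular p M) {Q P : Subgroup G}
    {f : Set (IrrCharacter (Subgroup.centralizer (Q : Set G)))}
    {e : Set (IrrCharacter (Subgroup.centralizer (P : Set G)))}
    (h : IsNormalSubpair p M Q f P e) {B : Set (IrrCharacter G)} (hB : IsPBlock M B) :
    IsBrauerPairOf p M B P e ↔ IsBrauerPairOf p M B Q f := by
  classical
  obtain ⟨hQf, hPe, hQP, -, hst, hone⟩ := h
  obtain ⟨η₀, hη₀⟩ := IsPBlock.nonempty hM hQf.2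
  obtain ⟨ξ₀, hξ₀⟩ := IsPBlock.nonempty hM hPe.2
  have hcl := blockCoeff_isClassFunction B
  have key : ∀ ξ ∈ e, ∀ η ∈ f, MemLocalIdeal M (brauerOmega P (blockCoeff B)
      (ξ : Subgroup.centralizer (P : Set G) → ℂ) - brauerOmega Q (blockCoeff B)
      (η : Subgroup.centralizer (Q : Set G) → ℂ)) := fun ξ hξ η hη =>
    mli_brauerOmega_compose hM hQP hPe.1 hQf.2 hst hη ξ (hone ξ hξ)
      (ConjInv.of_isClassFunction hcl) (ConjInv.of_isClassFunction hcl) (mlr_blockCoeff hM hB)
      (conv_blockCoeff_self B)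
  constructor
  · rintro ⟨-, -, h'⟩
    refine ⟨hQf, hB, fun η hη => ?_⟩
    have := mli_sub hM (h' ξ₀ hξ₀) (key ξ₀ hξ₀ η hη)
    convert this using 1
    ring
  · rintro ⟨-, -, h'⟩
    refine ⟨hPe, hB, fun ξ hξ => ?_⟩
    have := mli_add hM (key ξ hξ η₀ hη₀) (h' η₀ hη₀)
    convert this using 1
    ring

theorem brauerPairOf_iff_le (hM : IsPModular p M) {Q P : Subgroup G}
    {f : Set (IrrCharacter (Subgroup.centralizer (Q : Set G)))}
    {e : Set (IrrCharacter (Subgroup.centralizer (P : Set G)))}
    (h : SubpairLE p M Q f P e) {B : Set (IrrCharacter G)} (hB : IsPBlock M B) :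
    IsBrauerPairOf p M B P e ↔ IsBrauerPairOf p M B Q f := by
  have key : ∀ a b : BrauerPairIdx G, Relation.ReflTransGen (NormalSubpairRel p M) a b →
      (IsBrauerPairOf p M B b.1 b.2 ↔ IsBrauerPairOf p M B a.1 a.2) := fun a b h => by
    induction h using Relation.ReflTransGen.head_induction_on with
    | refl => exact Iff.rfl
    | head hac _ ih => exact ih.trans (brauerPairOf_iff_normal hM hac hB)
  exact key _ _ h

end CfsgLib.Blocks
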