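import Cfsg.Agent.Lib.Blocks.BrauerFeit
import Cfsg.Agent.Lib.Chars.GaloisTwist

/-!
Characters with equal regular parts; characters of height zero.
-/

namespace CfsgLib.Blocks

open scoped ComplexConjugate
open Cfsg CfsgLib.Chars

universe u

variable {G : Type u} [Group G] [Fintype G] {p : ℕ} {M : Ideal AlgInt}

theorem regInner_self_ne_zero (hp : p.Prime) (χ : IrrCharacter G) :
    regInner p (χ : G → ℂ) (χ : G → ℂ) ≠ 0 := by
  classical
  rw [regInner_eq, Finset.sum_congr rfl fun x _ => Complex.mul_conj _, ← Complex.ofReal_sum]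
  refine mul_ne_zero (inv_ne_zero (natCast_card_ne_zero G)) fun h => ?_
  rw [Complex.ofReal_eq_zero,
    Finset.sum_eq_zero_iff_of_nonneg fun _ _ => Complex.normSq_nonneg _] at h
  exact irr_one_ne_zero χ (Complex.normSq_eq_zero.mp (h 1 (Finset.mem_filter.mpr
    ⟨Finset.mem_univ _, by rw [orderOf_one, Nat.dvd_one]; exact hp.ne_one⟩)))

/-- Characters agreeing on the regular elements lie in one block. -/
theorem sameBlock_of_reg_eq (hM : IsPModular p M) {χ ψ : IrrCharacter G}
    (h : ∀ x : G, ¬ p ∣ orderOf x → (χ : G → ℂ) x = (ψ : G → ℂ) x) :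
    SameBlock M (χ : G → ℂ) (ψ : G → ℂ) := by
  classical
  by_contra hn
  apply regInner_self_ne_zero hM.1 ψ
  have := regInner_eq_zero hM hn
  rw [regInner_eq] at this ⊢
  rw [← this]
  congr 1
  exact Finset.sum_congr rfl fun x hx => by rw [h x (Finset.mem_filter.mp hx).2]

theorem regMat_dvd_p_iff_height (hM : IsPModular p M) {B : Set (IrrCharacter G)}
    (hB : IsPBlock M B) {ψ χ : IrrCharacter G} (hψ : ψ ∈ B)
    (h0 : blockHeight p B (ψ : G → ℂ) = 0) (hχ : χ ∈ B) :
    (p : ℤ) ∣ regMat hM.1 χ ψ ↔ p ∣ charDegree (χ : G → ℂ) := by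
  rw [hM.1.dvd_iff_one_le_factorization (charDegree_pos χ).ne']
  constructor
  · intro hd
    by_contra hlt
    have h1 := regMat_not_dvd hM hB hψ h0 hχ
    rw [show (charDegree (χ : G → ℂ)).factorization p = 0 by omega, zero_add, pow_one] at h1
    exact h1 hd
  · intro hle
    exact dvd_trans (dvd_pow_self _ (by omega)) (ppow_dvd_regMat hM.1 χ ψ)

open Classical in
/-- In a 2-block of full positive defect, the number of odd degrees is even. -/
theorem even_card_odd_degree (hM : IsPModular 2 M) {B : Set (IrrCharacter G)}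
    (hB : IsPBlock M B) (hpos : 0 < (Nat.card G).factorization 2)
    (hfull : ∃ ψ ∈ B, ¬ 2 ∣ charDegree (ψ : G → ℂ)) :
    2 ∣ ((Finset.univ.filter (· ∈ B)).filter
      fun χ : IrrCharacter G => ¬ 2 ∣ charDegree (χ : G → ℂ)).card := by
  obtain ⟨ψ, hψ, hψo⟩ := hfull
  have h0 : blockHeight 2 B (ψ : G → ℂ) = 0 := by
    have h1 := Nat.factorization_eq_zero_of_not_dvd hψo
    rw [blockHeight_eq, h1, Nat.zero_sub]
  have key := sum_regMat_block hM hB hψ ψ
  have hz : ((∑ χ ∈ Finset.univ.filter (· ∈ B), regMat hM.1 ψ χ * regMat hM.1 ψ χ : ℤ) : ZMod 2) = 0 := by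
    rw [key]
    push_cast
    rw [show (2 : ZMod 2) = 0 from rfl, zero_pow hpos.ne', zero_mul]
  rw [Int.cast_sum] at hz
  rw [← ZMod.natCast_eq_zero_iff]
  rw [← hz, Finset.card_filter, Nat.cast_sum]
  refine Finset.sum_congr rfl fun χ hχ => ?_
  have hiff := regMat_dvd_p_iff_height hM hB hψ h0 (Finset.mem_filter.mp hχ).2
  rw [regMat_symm hM.1 ψ χ]
  split_ifs with hodd
  · have h1 : ((regMat hM.1 χ ψ : ℤ) : ZMod 2) = 0 :=
      (ZMod.intCast_zmod_eq_zero_iff_dvd _ 2).mpr (by simpa using hiff.mpr hodd)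
    rw [Int.cast_mul, h1, mul_zero, Nat.cast_zero]
  · have h1 : ((regMat hM.1 χ ψ : ℤ) : ZMod 2) ≠ 0 := fun e =>
      hodd (hiff.mp (by simpa using (ZMod.intCast_zmod_eq_zero_iff_dvd _ 2).mp e))
    rw [Int.cast_mul, Nat.cast_one]
    revert h1
    generalize ((regMat hM.1 χ ψ : ℤ) : ZMod 2) = z
    revert z
    decide

end CfsgLib.Blocks
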