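import Cfsg.Agent.Lib.Blocks.Section
import Cfsg.Agent.Lib.Blocks.RegEq
import Cfsg.Agent.Lib.Blocks.PPart

/-!
Contributions of subsections; characters of height zero.
-/

namespace CfsgLib.Blocks

open scoped ComplexConjugate
open Cfsg CfsgLib.Chars

universe u

variable {G : Type u} [Group G] {p : ℕ} {M : Ideal AlgInt}

/-- A character does not change modulo the ideal on multiplying by a commuting `p`-element. -/
theorem mli_char_pElt_mul [Finite G] (hM : IsPModular p M) {χ : G → ℂ} (hχ : IsCharacter G χ)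
    {x c : G} {k : ℕ} (hx : orderOf x = p ^ k) (hxc : Commute x c) (hc : ¬ p ∣ orderOf c) :
    MemLocalIdeal M (χ (x * c) - χ c) := by
  classical
  set g := x * c
  obtain ⟨t, ht⟩ := pPart_eq_pow hM.1 (g := g) rfl hxc ⟨k, hx⟩ hc
  obtain ⟨n, hn⟩ : ∃ n, orderOf g = n + 1 := ⟨orderOf g - 1, by have := orderOf_pos g; omega⟩
  obtain ⟨l, hl, hsum⟩ := exists_list_eigen hχ g
  have hcg : c = g ^ (t * n + 1) := by
    refine mul_left_cancel (a := x) ?_
    nth_rewrite 2 [ht]
    rw [← pow_add, show t + (t * n + 1) = t * (n + 1) + 1 by ring, pow_succ, ← hn, mul_comm t,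
      pow_mul, pow_orderOf_eq_one, one_pow, one_mul]
  have hroot : ∀ μ ∈ l, (μ ^ (t * n)) ^ p ^ k = 1 := by
    intro μ hμ
    have hd : orderOf g ∣ t * p ^ k := by
      rw [orderOf_dvd_iff_pow_eq_one, pow_mul, ← ht, ← hx, pow_orderOf_eq_one]
    obtain ⟨q, hq⟩ := hd
    rw [← pow_mul, show t * n * p ^ k = t * p ^ k * n by ring, hq, mul_assoc, pow_mul, hl μ hμ,
      one_pow]
  have e1 : χ g = (l.map (fun μ => μ)).sum := by simpa using hsum 1
  have e2 : χ c = (l.map (fun μ => μ ^ (t * n + 1))).sum := by rw [hcg]; exact hsum _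
  rw [e1, e2]
  clear e1 e2 hsum
  induction l with
  | nil => simpa using mli_zero hM
  | cons μ l ih =>
    simp only [List.map_cons, List.sum_cons]
    have h1 : MemLocalIdeal M (μ - μ ^ (t * n + 1)) := by
      have h2 := mli_mul_left hM (mlr_of_isIntegral hM
        (isIntegral_of_pow_eq_one (orderOf_pos g) (hl μ List.mem_cons_self)))
        (mli_neg (mli_sub_one_of_pow_eq_one hM (hroot μ List.mem_cons_self)))
      convert h2 using 1
      ring
    have h3 := mli_add hM h1 (ih (fun ν hν => hl ν (List.mem_cons_of_mem _ hν))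
      (fun ν hν => hroot ν (List.mem_cons_of_mem _ hν)))
    convert h3 using 1
    ring

section Part

variable {H : Type u} [Group H] [Fintype H]

/-- Only the part in the block meets a member of the block on the regular elements. -/
theorem regInner_blockPart_right (hM : IsPModular p M) {b : Set (IrrCharacter H)}
    (hb : IsPBlock M b) {η : IrrCharacter H} (hη : η ∈ b) {f : H → ℂ} (hf : IsClassFunction H f) :
    regInner p (η : H → ℂ) (blockPart b f) = regInner p (η : H → ℂ) f := by
  classical
  have lin : ∀ (T : Finset (IrrCharacter H)) (g : H → ℂ),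
      (∀ a, g a = ∑ φ ∈ T, classInner f (φ : H → ℂ) * (φ : H → ℂ) a) →
      regInner p (η : H → ℂ) g =
        ∑ φ ∈ T, conj (classInner f (φ : H → ℂ)) * regInner p (η : H → ℂ) (φ : H → ℂ) := by
    intro T g hg
    simp only [regInner_eq, hg, map_sum, map_mul, Finset.mul_sum]
    rw [Finset.sum_comm]
    exact Finset.sum_congr rfl fun φ _ => Finset.sum_congr rfl fun a _ => by ring
  rw [lin _ _ (fun a => classFunction_expand hf a), lin _ _ (blockPart_eq_filter b f),
    Finset.sum_filter]
  refine Finset.sum_congr rfl fun φ _ => ?_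
  split_ifs with hφ
  · rfl
  · rw [regInner_eq_zero hM fun hs => hφ (IsPBlock.mem_of_sameBlock hM hb hη hs), mul_zero]

/-- Expansion of the left argument. -/
theorem regInner_blockPart_left (b : Set (IrrCharacter H)) [DecidablePred (· ∈ b)]
    (f g : H → ℂ) : regInner p (blockPart b f) g =
      ∑ η ∈ Finset.univ.filter (· ∈ b),
        classInner f (η : H → ℂ) * regInner p (η : H → ℂ) g := by
  classical
  simp only [regInner_eq, blockPart_eq_filter, Finset.sum_mul, Finset.mul_sum]
  rw [Finset.sum_comm]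
  exact Finset.sum_congr rfl fun φ _ => Finset.sum_congr rfl fun a _ => by ring

theorem regInner_comm (f g : H → ℂ) : conj (regInner p f g) = regInner p g f := by
  classical
  simp only [regInner_eq, map_mul, map_inv₀, map_natCast, map_sum, Complex.conj_conj]
  congr 1
  exact Finset.sum_congr rfl fun x _ => mul_comm _ _

/-- `ω` of a test function is a scaled inner product. -/
theorem omega_pRegularPart_conj (η : IrrCharacter H) (f : H → ℂ) :
    omega (η : H → ℂ) (pRegularPart p fun a => conj (f a)) * (η : H → ℂ) 1 =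
      (Nat.card H : ℂ) * regInner p (η : H → ℂ) f := by
  classical
  rw [omega, div_mul_cancel₀ _ (irr_one_ne_zero η), regInner_eq, ← mul_assoc,
    mul_inv_cancel₀ (natCast_card_ne_zero H), one_mul, Finset.sum_filter]
  refine Finset.sum_congr rfl fun a _ => ?_
  by_cases ha : p ∣ orderOf a
  · rw [pRegularPart_of_singular ha, zero_mul, if_neg (not_not.mpr ha)]
  · rw [pRegularPart_of_regular ha, if_pos ha, mul_comm]

/-- Integrality of the scaled inner products inside a block. -/
theorem isIntegral_ppow_regInner (hM : IsPModular p M) {b : Set (IrrCharacter H)}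
    {η η' : IrrCharacter H} (hη : η ∈ b) :
    IsIntegral ℤ (((p ^ blockDefect p b : ℕ) : ℂ) * regInner p (η : H → ℂ) (η' : H → ℂ)) := by
  obtain ⟨q, hq⟩ := dvd_trans (pow_dvd_pow (p : ℤ) (minExp_le (p := p) hη))
    (ppow_dvd_regMat hM.1 η η')
  have e : ((p ^ blockDefect p b : ℕ) : ℂ) * regInner p (η : H → ℂ) (η' : H → ℂ) = (q : ℂ) := by
    have h := regMat_spec hM.1 η η'
    rw [hq, ← minExp_add_defect (p := p) hη] at h
    push_cast at h ⊢
    rw [pow_add, mul_assoc] at h
    exact mul_left_cancel₀ (pow_ne_zero _ (Nat.cast_ne_zero.mpr hM.1.ne_zero)) h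
  rw [e]
  exact isIntegral_algebraMap (x := q)

end Part

variable [Fintype G] {C : Subgroup G} [Fintype C] {x : G} {k : ℕ}

/-- The part of a character on a section in a block of the centralizer. -/
noncomputable def secPart (C : Subgroup G) (x : G) (b : Set (IrrCharacter C)) (χ : G → ℂ) :
    C → ℂ :=
  blockPart b (secFun C x χ)

theorem isIntegral_classInner_sec (hM : IsPModular p M) (hx : orderOf x = p ^ k)
    (hC : ∀ g, g ∈ C ↔ Commute g x) (χ : IrrCharacter G) (η : IrrCharacter C) :
    IsIntegral ℤ (classInner (secFun C x (χ : G → ℂ)) (η : C → ℂ)) := by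
  classical
  let x' : C := ⟨x, (hC x).mpr (Commute.refl x)⟩
  have hz : x' ∈ Subgroup.center C :=
    Subgroup.mem_center_iff.mpr fun c => Subtype.ext ((hC _).mp c.2).eq
  have hres : IsCharacter C (fun c : C => (χ : G → ℂ) (c : G)) :=
    IsCharacter.restrict (isCharacter_irr χ) C
  have e : secFun C x (χ : G → ℂ) = fun c => ∑ φ : IrrCharacter C,
      (classInner (fun c : C => (χ : G → ℂ) (c : G)) (φ : C → ℂ) *
        ((φ : C → ℂ) x' / (φ : C → ℂ) 1)) * (φ : C → ℂ) c := by
    funext c
    change (χ : G → ℂ) ((x' * c : C) : G) = _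
    rw [classFunction_expand (IsCharacter.isClassFunction hres) (x' * c)]
    refine Finset.sum_congr rfl fun φ _ => ?_
    have h := mul_central φ hz c
    rw [mul_assoc]
    congr 1
    rw [div_mul_eq_mul_div, ← h, mul_div_cancel_right₀ _ (irr_one_ne_zero φ)]
  rw [e, classInner_sum, Finset.sum_eq_single η]
  · rw [classInner_irr, if_pos rfl, mul_one]
    obtain ⟨m, hm⟩ := exists_mult hres η
    rw [hm]
    refine IsIntegral.mul (isIntegral_algebraMap (x := (m : ℤ))) ?_
    have hpow : ∀ j : ℕ, (η : C → ℂ) (x' ^ j) =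
        ((η : C → ℂ) x' / (η : C → ℂ) 1) ^ j * (η : C → ℂ) 1 := by
      intro j
      induction j with
      | zero => simp
      | succ j ih =>
        have h := mul_central η hz (x' ^ j)
        rw [← pow_succ', ih] at h
        rw [pow_succ ((η : C → ℂ) x' / (η : C → ℂ) 1)]
        refine mul_right_cancel₀ (irr_one_ne_zero η) (h.trans ?_)
        field_simp [irr_one_ne_zero η]
    refine isIntegral_of_pow_eq_one (orderOf_pos x') ?_
    have h := hpow (orderOf x')
    rw [pow_orderOf_eq_one] at h
    exact (mul_right_cancel₀ (irr_one_ne_zero η) (by rw [one_mul, ← h])).symm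
  · intro φ _ hne
    rw [classInner_irr, if_neg hne, mul_zero]
  · simp

/-- Test functions congruent to that of `ψ` have the central value of the block. -/
theorem mli_sec_test (hM : IsPModular p M) (hx : orderOf x = p ^ k)
    (hC : ∀ g, g ∈ C ↔ Commute g x) {b : Set (IrrCharacter C)} {B : Set (IrrCharacter G)}
    (hind : IsInducedBlock M C b B) {η : IrrCharacter C} (hη : η ∈ b)
    {χ : IrrCharacter G} (hχ : χ ∈ B) (ψ : IrrCharacter G) {w : C → ℂ}
    (hw : IsClassFunction C w)
    (hw' : ∀ c : C, MemLocalIdeal M (w c - regTest p ψ (c : G))) :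
    MemLocalIdeal M (omega (η : C → ℂ) w - omega (χ : G → ℂ) (regTest p ψ)) := by
  classical
  have hcen := centralizer_zpowers_eq hC
  have hP := isPGroup_zpowers hM hx
  have hN : C ≤ Subgroup.normalizer ((Subgroup.zpowers x : Subgroup G) : Set G) :=
    hcen.ge.trans (Subgroup.centralizer_le_normalizer _)
  have hne := (isInducedBlock_iff_brVal hM hP
    (Subgroup.zpowers_le.mpr ((hC x).mpr (Commute.refl x))) hcen.le hN hind.1 hind.2.1 hη).mp hind
  have hl : ∀ g, MemLocalRing M (regTest p ψ g) := fun g =>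
    mlr_of_isIntegral hM (regTest_isIntegral ψ g)
  have h1 := mli_brVal_sub_omega hM hP hcen.le hN η hind.2.1 hχ hne
    (regTest_isClassFunction (p := p) ψ) hl
  have hbr : brTrunc (Subgroup.zpowers x) C (regTest p ψ) = fun c : C => regTest p ψ (c : G) :=
    funext fun c => by rw [brTrunc, if_pos (hcen ▸ c.2)]
  rw [brVal, hbr] at h1
  have h2 : MemLocalIdeal M
      (omega (η : C → ℂ) (w - fun c : C => regTest p ψ (c : G))) :=
    mli_omega hM η (fun a z => by
      simp only [Pi.sub_apply, hw a z, Subgroup.coe_mul, InvMemClass.coe_inv,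
        regTest_isClassFunction (p := p) ψ (a : G) (z : G)]) hw'
  rw [omega_sub] at h2
  have h3 := mli_add hM h2 h1
  rwa [sub_add_sub_cancel] at h3

/-- The two test functions of `ψ` on the section. -/
theorem sec_test_congr (hM : IsPModular p M) (hx : orderOf x = p ^ k)
    (hC : ∀ g, g ∈ C ↔ Commute g x) (ψ : IrrCharacter G) (c : C) :
    MemLocalIdeal M (pRegularPart p (fun a : C => conj ((ψ : G → ℂ) (x * (a : G)))) c -
        regTest p ψ (c : G)) ∧
      MemLocalIdeal M (pRegularPart p (fun a : C => secFun C x (ψ : G → ℂ) a⁻¹) c -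
        regTest p ψ (c : G)) := by
  have hxc : Commute x (c : G) := ((hC _).mp c.2).symm
  by_cases h : p ∣ orderOf c
  · rw [regTest, pRegularPart_of_singular h, pRegularPart_of_singular h,
      pRegularPart_of_singular (by rwa [Subgroup.orderOf_coe]), sub_zero]
    exact ⟨mli_zero hM, mli_zero hM⟩
  · have h' : ¬ p ∣ orderOf (c : G) := by rwa [Subgroup.orderOf_coe]
    rw [regTest, pRegularPart_of_regular h, pRegularPart_of_regular h, pRegularPart_of_regular h']
    have hinv := IsCharacter.map_inv (isCharacter_irr ψ)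
    constructor
    · rw [← hinv, ← hinv, mul_inv_rev, hxc.inv_inv.symm.eq]
      exact mli_char_pElt_mul hM (isCharacter_irr ψ) (by rw [orderOf_inv, hx]) hxc.inv_inv
        (by rwa [orderOf_inv])
    · simp only [secFun, InvMemClass.coe_inv]
      rw [← hinv]
      exact mli_char_pElt_mul hM (isCharacter_irr ψ) hx hxc.inv_right (by rwa [orderOf_inv])

theorem secTest_isClassFunction (hC : ∀ g, g ∈ C ↔ Commute g x) (ψ : IrrCharacter G) :
    IsClassFunction C (pRegularPart p (fun a : C => conj ((ψ : G → ℂ) (x * (a : G))))) ∧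
      IsClassFunction C (pRegularPart p (fun a : C => secFun C x (ψ : G → ℂ) a⁻¹)) := by
  refine ⟨pRegularPart_isClassFunction fun a z => congrArg conj (secFun_isClassFunction hC ψ a z),
    pRegularPart_isClassFunction fun a z => ?_⟩
  simp only [mul_inv_rev, inv_inv]
  rw [← mul_assoc, secFun_isClassFunction hC ψ a⁻¹ z]

/-- A character of height zero has a nonzero value of its test function. -/
theorem not_mli_omega_regTest_self (hM : IsPModular p M) {B : Set (IrrCharacter G)}
    (hB : IsPBlock M B) {χ : IrrCharacter G} (hχ : χ ∈ B)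
    (h0 : blockHeight p B (χ : G → ℂ) = 0) :
    ¬ MemLocalIdeal M (omega (χ : G → ℂ) (regTest p χ)) :=
  fun h => regMat_not_dvd hM hB hχ h0 hχ ((mli_omega_regTest_iff hM χ χ).mp h)

/-- A character of height zero has a nonzero part in every subsection of its block. -/
theorem exists_secPart_ne_zero (hM : IsPModular p M) (hx : orderOf x = p ^ k)
    (hC : ∀ g, g ∈ C ↔ Commute g x) {b : Set (IrrCharacter C)} {B : Set (IrrCharacter G)}
    (hind : IsInducedBlock M C b B) {χ : IrrCharacter G} (hχ : χ ∈ B)
    (h0 : blockHeight p B (χ : G → ℂ) = 0) :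
    ∃ y : C, ¬ p ∣ orderOf y ∧ secPart C x b (χ : G → ℂ) y ≠ 0 := by
  classical
  by_contra hne
  push Not at hne
  obtain ⟨η, hη⟩ := IsPBlock.nonempty hM hind.1
  have h := mli_sec_test hM hx hC hind hη hχ χ (secTest_isClassFunction hC χ).1
    (fun c => (sec_test_congr hM hx hC χ c).1)
  have h1 : omega (η : C → ℂ) (pRegularPart p fun a : C => conj ((χ : G → ℂ) (x * (a : G)))) *
      (η : C → ℂ) 1 = 0 := by
    refine (omega_pRegularPart_conj η (secFun C x (χ : G → ℂ))).trans ?_
    rw [← regInner_blockPart_right hM hind.1 hη (secFun_isClassFunction hC χ), regInner_eq,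
      Finset.sum_eq_zero fun a ha => by
        rw [show blockPart b (secFun C x (χ : G → ℂ)) a = 0 from hne a (Finset.mem_filter.mp ha).2,
          map_zero, mul_zero], mul_zero, mul_zero]
  rw [(mul_eq_zero.mp h1).resolve_right (irr_one_ne_zero η), zero_sub] at h
  exact not_mli_omega_regTest_self hM hind.2.1 hχ h0 (by simpa using mli_neg h)

/-- The scaled contribution of a pair of characters of height zero is a local unit. -/
theorem contribution_not_mli (hM : IsPModular p M) (hx : orderOf x = p ^ k)
    (hC : ∀ g, g ∈ C ↔ Commute g x) {b : Set (IrrCharacter C)} {B : Set (IrrCharacter G)}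
    (hind : IsInducedBlock M C b B) {χ ψ : IrrCharacter G} (hχ : χ ∈ B) (hψ : ψ ∈ B)
    (hχ0 : blockHeight p B (χ : G → ℂ) = 0) (hψ0 : blockHeight p B (ψ : G → ℂ) = 0) :
    ¬ MemLocalIdeal M (((p ^ blockDefect p b : ℕ) : ℂ) *
      regInner p (secPart C x b (ψ : G → ℂ)) (secPart C x b (χ : G → ℂ))) := by
  classical
  obtain ⟨η₀, hη₀, he₀⟩ := exists_minExp (p := p) hM hind.1
  have hn1 := irr_one_ne_zero η₀
  have hint : ∀ η : IrrCharacter C,
      MemLocalRing M (classInner (secFun C x (ψ : G → ℂ)) (η : C → ℂ)) := fun η =>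
    mlr_of_isIntegral hM (isIntegral_classInner_sec hM hx hC ψ η)
  have hratio : ∀ η ∈ b, MemLocalRing M ((η : C → ℂ) 1 / (η₀ : C → ℂ) 1) := by
    intro η hη
    set e := minExp p b
    set w := charDegree (η₀ : C → ℂ) / p ^ e with hw
    have hd₀ : p ^ e * w = charDegree (η₀ : C → ℂ) := by
      rw [hw, ← he₀, Nat.ordProj_mul_ordCompl_eq_self]
    have hww : ¬ p ∣ w := by
      rw [hw, ← he₀]
      exact Nat.not_dvd_ordCompl hM.1 (charDegree_pos η₀).ne'
    obtain ⟨q, hq⟩ := dvd_trans (pow_dvd_pow p (minExp_le (p := p) hη))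
      (Nat.ordProj_dvd (charDegree (η : C → ℂ)) p)
    have hp0 : ((p : ℂ) ^ e) ≠ 0 := pow_ne_zero _ (Nat.cast_ne_zero.mpr hM.1.ne_zero)
    rw [irr_apply_one, irr_apply_one, hq, ← hd₀]
    push_cast
    rw [mul_div_mul_left _ _ hp0, div_eq_mul_inv]
    exact mlr_mul hM (mlr_natCast hM q) (mlr_natCast_inv hM hww)
  set S := Finset.univ.filter (· ∈ b)
  -- the common factor
  set r := ∑ η ∈ S, classInner (secFun C x (ψ : G → ℂ)) (η : C → ℂ) *
    ((η : C → ℂ) 1 / (η₀ : C → ℂ) 1) with hr
  have hrl : MemLocalRing M r := mlr_sum hM _ fun η hη =>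
    mlr_mul hM (hint η) (hratio η (Finset.mem_filter.mp hη).2)
  have step : ∀ (f : C → ℂ) (Ω : ℂ), IsClassFunction C f →
      (∀ η ∈ b, MemLocalIdeal M (omega (η : C → ℂ) (pRegularPart p fun a => conj (f a)) - Ω)) →
      MemLocalIdeal M ((Nat.card C : ℂ) / (η₀ : C → ℂ) 1 *
        regInner p (secPart C x b (ψ : G → ℂ)) f - r * Ω) := by
    intro f Ω _ hΩ
    rw [secPart, regInner_blockPart_left, Finset.mul_sum, hr, Finset.sum_mul,
      ← Finset.sum_sub_distrib]
    refine mli_sum hM _ fun η hη => ?_
    have hηb := (Finset.mem_filter.mp hη).2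
    have h2 := mli_mul_left hM (mlr_mul hM (hint η) (hratio η hηb)) (hΩ η hηb)
    convert h2 using 1
    have e := omega_pRegularPart_conj (p := p) η f
    field_simp
    linear_combination (classInner (secFun C x (ψ : G → ℂ)) (η : C → ℂ)) * (-e)
  -- the factor is a local unit
  have hrne : ¬ MemLocalIdeal M r := by
    intro hr0
    apply not_mli_omega_regTest_self hM hind.2.1 hψ hψ0
    have hstep := step (η₀ : C → ℂ) (omega (η₀ : C → ℂ) (regTest p η₀))
      (IsCharacter.isClassFunction (isCharacter_irr η₀))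
      (fun η hη => mli_omega_sub hM (IsPBlock.sameBlock hM hind.1 hη hη₀)
        (regTest_isClassFunction (p := p) η₀)
        (fun g => mlr_of_isIntegral hM (regTest_isIntegral η₀ g)))
    have hΩl : MemLocalRing M (omega (η₀ : C → ℂ) (regTest p η₀)) := mlr_of_isIntegral hM
      (omega_isIntegral η₀ (regTest_isClassFunction η₀) (regTest_isIntegral η₀))
    have h3 := mli_add hM hstep (mli_mul_right hM hr0 hΩl)
    rw [sub_add_cancel] at h3
    have h4 := mli_sec_test hM hx hC hind hη₀ hψ ψ (secTest_isClassFunction hC ψ).2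
      (fun c => (sec_test_congr hM hx hC ψ c).2)
    have e : omega (η₀ : C → ℂ) (pRegularPart p fun a : C => secFun C x (ψ : G → ℂ) a⁻¹) =
        (Nat.card C : ℂ) / (η₀ : C → ℂ) 1 *
          regInner p (secPart C x b (ψ : G → ℂ)) (η₀ : C → ℂ) := by
      rw [secPart, ← regInner_comm (η₀ : C → ℂ),
        regInner_blockPart_right hM hind.1 hη₀ (secFun_isClassFunction hC ψ), regInner_comm,
        regInner_eq, omega, div_mul_eq_mul_div, ← mul_assoc,
        mul_inv_cancel₀ (natCast_card_ne_zero C), one_mul]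
      congr 1
      rw [Finset.sum_filter]
      refine Fintype.sum_equiv (Equiv.inv C) _ _ fun a => ?_
      simp only [Equiv.inv_apply, orderOf_inv]
      by_cases ha : p ∣ orderOf a
      · rw [pRegularPart_of_singular ha, zero_mul, if_neg (not_not.mpr ha)]
      · rw [pRegularPart_of_regular ha, if_pos ha,
          ← IsCharacter.map_inv (isCharacter_irr η₀), inv_inv]
    rw [e] at h4
    have := mli_sub hM h3 h4
    rwa [sub_sub_cancel] at this
  intro hzero
  have hscale : MemLocalIdeal M ((Nat.card C : ℂ) / (η₀ : C → ℂ) 1 *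
      regInner p (secPart C x b (ψ : G → ℂ)) (secPart C x b (χ : G → ℂ))) := by
    set e := minExp p b
    set w := charDegree (η₀ : C → ℂ) / p ^ e with hw
    set n' := Nat.card C / p ^ ((Nat.card C).factorization p) with hn'
    have hd₀ : p ^ e * w = charDegree (η₀ : C → ℂ) := by
      rw [hw, ← he₀, Nat.ordProj_mul_ordCompl_eq_self]
    have hww : ¬ p ∣ w := by
      rw [hw, ← he₀]
      exact Nat.not_dvd_ordCompl hM.1 (charDegree_pos η₀).ne'
    have hC' : p ^ (e + blockDefect p b) * n' = Nat.card C := by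
      rw [minExp_add_defect hη₀, hn', Nat.ordProj_mul_ordCompl_eq_self]
    have hp0 : ((p : ℂ) ^ e) ≠ 0 := pow_ne_zero _ (Nat.cast_ne_zero.mpr hM.1.ne_zero)
    have h := mli_mul_left hM (mlr_mul hM (mlr_natCast hM n') (mlr_natCast_inv hM hww)) hzero
    convert h using 1
    rw [irr_apply_one, ← hd₀, ← hC']
    push_cast
    rw [pow_add, mul_assoc ((p : ℂ) ^ e), mul_div_mul_left _ _ hp0]
    ring
  have hstep := step (secPart C x b (χ : G → ℂ)) (omega (χ : G → ℂ) (regTest p χ))
    (by
      intro a z
      simp only [secPart, blockPart_eq_filter, IsCharacter.isClassFunction (isCharacter_irr _) a z])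
    (fun η hη => by
      have h := mli_sec_test hM hx hC hind hη hχ χ (secTest_isClassFunction hC χ).1
        (fun c => (sec_test_congr hM hx hC χ c).1)
      have e : omega (η : C → ℂ) (pRegularPart p fun a => conj (secPart C x b (χ : G → ℂ) a)) =
          omega (η : C → ℂ) (pRegularPart p fun a : C => conj ((χ : G → ℂ) (x * (a : G)))) := by
        refine mul_right_cancel₀ (irr_one_ne_zero η)
          ((omega_pRegularPart_conj η _).trans (Eq.trans ?_
            (omega_pRegularPart_conj η (secFun C x (χ : G → ℂ))).symm))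
        rw [secPart, regInner_blockPart_right hM hind.1 hη (secFun_isClassFunction hC χ)]
      rw [e]
      exact h)
  have h5 := mli_sub hM hscale hstep
  rw [sub_sub_cancel] at h5
  have hΩl : MemLocalRing M (omega (χ : G → ℂ) (regTest p χ)) := mlr_of_isIntegral hM
    (omega_isIntegral χ (regTest_isClassFunction χ) (regTest_isIntegral χ))
  exact (mli_mul_cases hM hrl hΩl h5).elim hrne (not_mli_omega_regTest_self hM hind.2.1 hχ hχ0)

/-- The contribution of a pair of characters of height zero does not vanish. -/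
theorem contribution_ne_zero (hM : IsPModular p M) (hx : orderOf x = p ^ k)
    (hC : ∀ g, g ∈ C ↔ Commute g x) {b : Set (IrrCharacter C)} {B : Set (IrrCharacter G)}
    (hind : IsInducedBlock M C b B) {χ ψ : IrrCharacter G} (hχ : χ ∈ B) (hψ : ψ ∈ B)
    (hχ0 : blockHeight p B (χ : G → ℂ) = 0) (hψ0 : blockHeight p B (ψ : G → ℂ) = 0) :
    regInner p (secPart C x b (ψ : G → ℂ)) (secPart C x b (χ : G → ℂ)) ≠ 0 := fun h =>
  contribution_not_mli hM hx hC hind hχ hψ hχ0 hψ0 (by rw [h, mul_zero]; exact mli_zero hM)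

end CfsgLib.Blocks
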