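import Cfsg.Agent.Lib.Blocks.PrincipalPairs
import Cfsg.Agent.Lib.Blocks.BrauerInduce
import Cfsg.Agent.Lib.Blocks.SecondVanish
import Cfsg.Agent.Lib.Chars.Clifford

/-!
Blocks of a normal subgroup covered by blocks of the group.
-/

namespace CfsgLib.Blocks

open scoped ComplexConjugate
open Cfsg CfsgLib.Chars

universe u

variable {G : Type u} [Group G] [Fintype G] {p : ℕ} {M : Ideal AlgInt}
variable (N : Subgroup G) [hN : N.Normal] [Fintype N]

omit [Fintype G] in
theorem classInd_eq_zero_of_notMem {n : G} (hn : n ∈ N) {g : G} (hg : g ∉ N) :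
    classInd n g = 0 := by
  rw [classInd, if_neg]
  intro h
  obtain ⟨w, rfl⟩ := isConj_iff.mp h
  exact hg (hN.conj_mem n hn w)

/-- A constituent carries the central character on class functions living on `N`. -/
theorem omega_res_constituent {χ : IrrCharacter G} {θ : IrrCharacter N}
    (hθ : classInner (fun n : N => (χ : G → ℂ) n) (θ : N → ℂ) ≠ 0) {f : G → ℂ}
    (hf : IsClassFunction G f) (hsupp : ∀ g ∉ N, f g = 0) :
    omega (χ : G → ℂ) f = omega (θ : N → ℂ) (fun n : N => f (n : G)) := by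
  classical
  obtain ⟨e, he0, -, hval, hdeg⟩ := clifford N χ θ hθ
  have hsum : ∑ g : G, f g * (χ : G → ℂ) g = ∑ n : N, f (n : G) * (χ : G → ℂ) n := by
    rw [← Finset.sum_subset (Finset.subset_univ (Finset.univ.filter (fun g : G => g ∈ N)))
      (fun g _ hg => by rw [hsupp g (by simpa using hg), zero_mul]),
      Finset.sum_subtype (Finset.univ.filter (fun g : G => g ∈ N)) (p := fun g => g ∈ N)
        (fun x => by simp) (fun g => f g * (χ : G → ℂ) g)]
  have horb : ∀ φ ∈ orbit N θ, ∑ n : N, f (n : G) * (φ : N → ℂ) n =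
      ∑ n : N, f (n : G) * (θ : N → ℂ) n := by
    intro φ hφ
    obtain ⟨g, rfl⟩ := (mem_orbit N).mp hφ
    refine Fintype.sum_equiv (conjN N g).toEquiv _ _ fun n => ?_
    simp only [MulEquiv.toEquiv_eq_coe, MulEquiv.coe_toEquiv, conjIrr_apply]
    rw [conjN_coe, hf]
  rw [omega, omega, hsum]
  simp only [hval, Finset.mul_sum]
  rw [Finset.sum_comm, Finset.sum_congr rfl (g := fun _ => (e : ℂ) * ∑ n : N, f (n : G) * (θ : N → ℂ) n)
    fun φ hφ => by rw [← horb φ hφ, Finset.mul_sum]; exact Finset.sum_congr rfl fun n _ => by ring,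
    Finset.sum_const, nsmul_eq_mul, irr_apply_one, hdeg, irr_apply_one]
  have he : (e : ℂ) ≠ 0 := Nat.cast_ne_zero.mpr he0.ne'
  have hc : ((orbit N θ).card : ℂ) ≠ 0 := Nat.cast_ne_zero.mpr (Finset.card_ne_zero.mpr
    ⟨θ, (mem_orbit N).mpr ⟨1, (conjIrr_one N θ).symm⟩⟩)
  have hd : (charDegree (θ : N → ℂ) : ℂ) ≠ 0 := Nat.cast_ne_zero.mpr (charDegree_pos θ).ne'
  push_cast
  field_simp

/-- A constituent carries the central character at the elements of `N`. -/
theorem centralChar_eq_of_constituent {χ : IrrCharacter G} {θ : IrrCharacter N}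
    (hθ : classInner (fun n : N => (χ : G → ℂ) n) (θ : N → ℂ) ≠ 0) (n : N) :
    centralChar (χ : G → ℂ) (n : G) = inducedCentralChar N (θ : N → ℂ) (n : G) := by
  rw [inducedCentralChar_eq, ← omega_classInd (IsCharacter.isClassFunction (isCharacter_irr χ))]
  exact omega_res_constituent N hθ (classInd_isClassFunction _)
    fun g hg => classInd_eq_zero_of_notMem N n.2 hg

/-- Central characters on `N` determine the values on all class functions living on `N`. -/
theorem omega_congr_on {χ : IrrCharacter G} {θ : IrrCharacter N} (S : AddSubgroup ℂ)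
    {f : G → ℂ} (hf : IsClassFunction G f) (hsupp : ∀ g ∉ N, f g = 0)
    (hmul : ∀ g, ∀ z ∈ S, f g * z ∈ S)
    (h : ∀ n : N, centralChar (χ : G → ℂ) (n : G) - inducedCentralChar N (θ : N → ℂ) (n : G) ∈ S) :
    omega (χ : G → ℂ) f - omega (θ : N → ℂ) (fun n : N => f (n : G)) ∈ S := by
  classical
  haveI : Finite (ConjClasses G) := Finite.of_surjective _ ConjClasses.mk_surjective
  haveI : Fintype (ConjClasses G) := Fintype.ofFinite _
  have e : (fun n : N => f (n : G)) =
      fun n : N => ∑ c : ConjClasses G, f c.out * classInd c.out (n : G) := by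
    funext n
    exact congrFun (classFunction_eq_sum_classInd hf) (n : G)
  rw [e, omega_eq_sum_centralChar (IsCharacter.isClassFunction (isCharacter_irr χ)) hf, omega_sum,
    ← Finset.sum_sub_distrib]
  refine AddSubgroup.sum_mem S fun c _ => ?_
  rw [← mul_sub]
  by_cases hc : c.out ∈ N
  · rw [← inducedCentralChar_eq]
    exact hmul _ _ (h ⟨c.out, hc⟩)
  · rw [hsupp _ hc, zero_mul]
    exact S.zero_mem

/-- Central characters congruent on `N` agree modulo the ideal on class functions living on `N`. -/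
theorem mli_omega_congr_on (hM : IsPModular p M) {χ : IrrCharacter G} {θ : IrrCharacter N}
    {f : G → ℂ} (hf : IsClassFunction G f) (hl : ∀ g, MemLocalRing M (f g))
    (hsupp : ∀ g ∉ N, f g = 0)
    (h : ∀ n : N, MemLocalIdeal M
      (centralChar (χ : G → ℂ) (n : G) - inducedCentralChar N (θ : N → ℂ) (n : G))) :
    MemLocalIdeal M (omega (χ : G → ℂ) f - omega (θ : N → ℂ) (fun n : N => f (n : G))) :=
  omega_congr_on N
    { carrier := {z | MemLocalIdeal M z}
      add_mem' := fun ha hb => mli_add hM ha hb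
      zero_mem' := mli_zero hM
      neg_mem' := fun ha => mli_neg ha } hf hsupp (fun g _ hz => mli_mul_left hM (hl g) hz) h

/-! ### Stable sets -/

omit [Fintype G] [Fintype N] in
theorem conjIrr_inv_cancel (θ : IrrCharacter N) (g : G) :
    conjIrr N (conjIrr N θ g) g⁻¹ = θ := by
  rw [← conjIrr_mul, mul_inv_cancel, conjIrr_one]

omit [Fintype G] [Fintype N] in
theorem conjIrr_inv_cancel' (θ : IrrCharacter N) (g : G) :
    conjIrr N (conjIrr N θ g⁻¹) g = θ := by
  rw [← conjIrr_mul, inv_mul_cancel, conjIrr_one]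

/-- The idempotent of a stable set, seen on the whole group, is a class function. -/
theorem ext0_blockCoeff_isClassFunction {A : Set (IrrCharacter N)}
    (hA : ∀ θ ∈ A, ∀ g : G, conjIrr N θ g ∈ A) :
    IsClassFunction G (ext0 N (blockCoeff A)) := by
  classical
  intro x g
  by_cases hx : x ∈ N
  · have hx' : g * x * g⁻¹ ∈ N := hN.conj_mem x hx g
    rw [ext0, ext0, dif_pos hx, dif_pos hx', blockCoeff_eq_sum, blockCoeff_eq_sum]
    congr 1
    refine Finset.sum_bij' (fun θ _ => conjIrr N θ g) (fun θ _ => conjIrr N θ g⁻¹) ?_ ?_ ?_ ?_ ?_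
    · exact fun θ hθ => Finset.mem_filter.mpr ⟨Finset.mem_univ _, hA θ (Finset.mem_filter.mp hθ).2 g⟩
    · exact fun θ hθ => Finset.mem_filter.mpr ⟨Finset.mem_univ _, hA θ (Finset.mem_filter.mp hθ).2 g⁻¹⟩
    · exact fun θ _ => conjIrr_inv_cancel N θ g
    · exact fun θ _ => conjIrr_inv_cancel' N θ g
    · intro θ _
      rw [irr_apply_one, irr_apply_one, charDegree_conjIrr, conjIrr_apply']
  · have hx' : g * x * g⁻¹ ∉ N := fun h => hx (by
      simpa [mul_assoc] using hN.conj_mem _ h g⁻¹)
    rw [ext0, ext0, dif_neg hx, dif_neg hx']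

omit [Fintype G] in
/-- Conjugation preserves equality of blocks. -/
theorem sameBlock_conjIrr {θ ψ : IrrCharacter N}
    (h : SameBlock M (θ : N → ℂ) (ψ : N → ℂ)) (g : G) :
    SameBlock M (conjIrr N θ g : N → ℂ) (conjIrr N ψ g : N → ℂ) := fun n => by
  have e : ∀ φ : IrrCharacter N,
      centralChar (conjIrr N φ g : N → ℂ) n = centralChar (φ : N → ℂ) (conjN N g n) := by
    intro φ
    have h1 : (conjIrr N φ g : N → ℂ) = (φ : N → ℂ) ∘ ((conjN N g).symm).symm := by
      funext m; rfl
    rw [h1, centralChar_comp_equiv]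
    rfl
  rw [e, e]
  exact h _

/-- The characters conjugate into a given block. -/
def blockOrbit (b : Set (IrrCharacter N)) : Set (IrrCharacter N) :=
  {θ | ∃ g : G, conjIrr N θ g ∈ b}

omit [Fintype G] [Fintype N] in
theorem blockOrbit_stable (b : Set (IrrCharacter N)) :
    ∀ θ ∈ blockOrbit N b, ∀ g : G, conjIrr N θ g ∈ blockOrbit N b := by
  rintro θ ⟨x, hx⟩ g
  exact ⟨g⁻¹ * x, by rw [← conjIrr_mul, mul_inv_cancel_left]; exact hx⟩

/-- A union of blocks has local idempotent coefficients. -/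
theorem mlr_blockCoeff_union {H : Type u} [Group H] [Fintype H] (hM : IsPModular p M)
    {A : Set (IrrCharacter H)}
    (hA : ∀ θ ∈ A, ∀ ψ : IrrCharacter H, SameBlock M (θ : H → ℂ) (ψ : H → ℂ) → ψ ∈ A) (x : H) :
    MemLocalRing M (blockCoeff A x) := by
  classical
  haveI : Fintype (Set (IrrCharacter H)) := Fintype.ofFinite _
  have e : indic A = ∑ B ∈ Finset.univ.filter (fun B => IsPBlock M B ∧ B ⊆ A), indic B := by
    funext θ
    rw [Finset.sum_apply]
    by_cases hθ : θ ∈ A
    · rw [indic_of_mem hθ, Finset.sum_eq_single_of_mem (blockOf M (θ : H → ℂ))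
        (Finset.mem_filter.mpr ⟨Finset.mem_univ _, isPBlock_blockOf θ, fun ψ hψ => hA θ hθ ψ hψ⟩),
        indic_of_mem (self_mem_blockOf hM θ)]
      intro B hB hne
      exact indic_of_notMem fun h => hne (IsPBlock.eq_blockOf hM (Finset.mem_filter.mp hB).2.1 h)
    · rw [indic_of_notMem hθ, Finset.sum_eq_zero]
      intro B hB
      exact indic_of_notMem fun h => hθ ((Finset.mem_filter.mp hB).2.2 h)
  rw [blockCoeff_eq_coeffFun, e]
  exact (sum_mem fun B hB => indic_mem_centerRing hM (Finset.mem_filter.mp hB).2.1 :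
    ∑ B ∈ Finset.univ.filter (fun B => IsPBlock M B ∧ B ⊆ A), indic B ∈ centerRing hM) x

omit [Fintype G] in
theorem blockOrbit_union (hM : IsPModular p M) {b : Set (IrrCharacter N)} (hb : IsPBlock M b) :
    ∀ θ ∈ blockOrbit N b, ∀ ψ : IrrCharacter N, SameBlock M (θ : N → ℂ) (ψ : N → ℂ) →
      ψ ∈ blockOrbit N b := by
  rintro θ ⟨g, hg⟩ ψ h
  exact ⟨g, IsPBlock.mem_of_sameBlock hM hb hg (sameBlock_conjIrr N h g)⟩

/-- All constituents of a character congruent to a block on `N` are conjugate into that block. -/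
theorem constituent_mem_blockOrbit (hM : IsPModular p M) {b : Set (IrrCharacter N)}
    (hb : IsPBlock M b) {χ : IrrCharacter G} {θ : IrrCharacter N} (hθ : θ ∈ b)
    (h : ∀ n : N, MemLocalIdeal M
      (centralChar (χ : G → ℂ) (n : G) - inducedCentralChar N (θ : N → ℂ) (n : G)))
    {ψ : IrrCharacter N} (hψ : classInner (fun n : N => (χ : G → ℂ) n) (ψ : N → ℂ) ≠ 0) :
    ψ ∈ blockOrbit N b := by
  classical
  set A := blockOrbit N b
  have hf := ext0_blockCoeff_isClassFunction N (blockOrbit_stable N b)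
  have hsupp : ∀ g ∉ N, ext0 N (blockCoeff A) g = 0 := fun g hg => by rw [ext0, dif_neg hg]
  have hl : ∀ g, MemLocalRing M (ext0 N (blockCoeff A) g) := fun g => by
    rw [ext0]
    split_ifs
    · exact mlr_blockCoeff_union hM (blockOrbit_union N hM hb) _
    · exact mlr_zero hM
  have e : (fun n : N => ext0 N (blockCoeff A) (n : G)) = blockCoeff A :=
    funext fun n => ext0_apply N _ n
  have h1 := mli_omega_congr_on N hM hf hl hsupp h
  rw [omega_res_constituent N hψ hf hsupp, e, omega_blockCoeff, omega_blockCoeff,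
    indic_of_mem (show θ ∈ A from ⟨1, by rw [conjIrr_one]; exact hθ⟩)] at h1
  by_contra hn
  rw [indic_of_notMem hn, zero_sub] at h1
  exact not_mli_one hM (by simpa using mli_neg h1)

/-- The induced central character on `N` depends only on the block. -/
theorem mli_inducedCentralChar_block (hM : IsPModular p M) {θ ψ : IrrCharacter N}
    (h : SameBlock M (θ : N → ℂ) (ψ : N → ℂ)) (g : G) :
    MemLocalIdeal M (inducedCentralChar N (θ : N → ℂ) g - inducedCentralChar N (ψ : N → ℂ) g) := by
  rw [inducedCentralChar_eq, inducedCentralChar_eq]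
  refine mli_omega_sub hM h (fun a q => ?_) fun a => mlr_classInd hM g _
  simp only [Subgroup.coe_mul, InvMemClass.coe_inv]
  exact classInd_isClassFunction g (a : G) (q : G)

/-- The covering congruence of a block and a covered block. -/
theorem mli_centralChar_of_cover (hM : IsPModular p M) {B : Set (IrrCharacter G)}
    (hB : IsPBlock M B) {b : Set (IrrCharacter N)} (hb : IsPBlock M b)
    {χ₀ : IrrCharacter G} (hχ₀ : χ₀ ∈ B) {θ₀ : IrrCharacter N} (hθ₀ : θ₀ ∈ b)
    (h₀ : classInner (fun n : N => (χ₀ : G → ℂ) n) (θ₀ : N → ℂ) ≠ 0)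
    {χ : IrrCharacter G} (hχ : χ ∈ B) {θ : IrrCharacter N} (hθ : θ ∈ b) (n : N) :
    MemLocalIdeal M (centralChar (χ : G → ℂ) (n : G) - inducedCentralChar N (θ : N → ℂ) (n : G)) := by
  have h1 := IsPBlock.sameBlock hM hB hχ hχ₀ (n : G)
  rw [centralChar_eq_of_constituent N h₀ n] at h1
  have h2 := mli_inducedCentralChar_block N hM (IsPBlock.sameBlock hM hb hθ₀ hθ) (n : G)
  simpa using mli_add hM h1 h2

/-- Some character lies over a given character of `N`. -/
theorem exists_over (θ : IrrCharacter N) :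
    ∃ χ : IrrCharacter G, classInner (fun n : N => (χ : G → ℂ) n) (θ : N → ℂ) ≠ 0 := by
  classical
  by_contra hn
  push Not at hn
  have hc := IsCharacter.indFun N (isCharacter_irr θ)
  have h0 : ∀ χ : IrrCharacter G, classInner (indFun N (θ : N → ℂ)) (χ : G → ℂ) = 0 := fun χ => by
    rw [frobenius N (θ : N → ℂ) (IsCharacter.isClassFunction (isCharacter_irr χ)), classInner_symm,
      hn χ, map_zero]
  have h1 : indFun N (θ : N → ℂ) 1 = 0 := by
    rw [classFunction_expand (IsCharacter.isClassFunction hc) 1]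
    exact Finset.sum_eq_zero fun χ _ => by rw [h0 χ, zero_mul]
  rw [indFun_one] at h1
  exact mul_ne_zero (Nat.cast_ne_zero.mpr N.index_ne_zero_of_finite) (irr_one_ne_zero θ) h1

end CfsgLib.Blocks
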