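import Cfsg.Agent.Lib.Blocks.BrauerFeit
import Cfsg.Agent.Lib.Chars.Induced
import Mathlib.GroupTheory.NoncommCoprod

/-!
Local integral combinations on the regular elements and the square sum of the degrees of a block.
-/

set_option linter.style.haveILetI false

namespace CfsgLib.Blocks

open scoped ComplexConjugate
open Cfsg CfsgLib.Chars

universe u

variable {G : Type u} [Group G] [Fintype G] {p : ℕ} {M : Ideal AlgInt}

open Classical in
/-- The average of a character over a coset of a centralized subgroup is integral. -/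
theorem isIntegral_coset_avg {χ : G → ℂ} (hχ : IsCharacter G χ) {x : G} {Q : Subgroup G}
    (hQ : Q ≤ Subgroup.centralizer ({x} : Set G)) :
    IsIntegral ℤ ((Nat.card Q : ℂ)⁻¹ * ∑ u : Q, χ (x * (u : G))) := by
  let A := Subgroup.zpowers x
  let φ : A × Q →* G := MonoidHom.noncommCoprod A.subtype Q.subtype (by
    rintro ⟨a, ha⟩ ⟨u, hu⟩
    obtain ⟨n, rfl⟩ := Subgroup.mem_zpowers_iff.mp ha
    exact (show Commute x u from
      (Subgroup.mem_centralizer_singleton_iff.mp (hQ hu)).symm).zpow_left n)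
  let f : A → ℂ := fun a => (Nat.card Q : ℂ)⁻¹ * ∑ u : Q, χ (φ (a, u))
  have hf : IsClassFunction A f := fun a b => by
    obtain ⟨a, ha⟩ := a
    obtain ⟨b, hb⟩ := b
    obtain ⟨m, rfl⟩ := Subgroup.mem_zpowers_iff.mp ha
    obtain ⟨n, rfl⟩ := Subgroup.mem_zpowers_iff.mp hb
    congr 1
    refine Subtype.ext ?_
    simp [← zpow_add, ← zpow_neg, add_comm n m]
  have e : f ⟨x, Subgroup.mem_zpowers x⟩ = (Nat.card Q : ℂ)⁻¹ * ∑ u : Q, χ (x * (u : G)) := rfl
  rw [← e, classFunction_expand hf]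
  refine IsIntegral.sum _ fun θ _ => IsIntegral.mul ?_
    (IsCharacter.isIntegral (isCharacter_irr θ) _)
  obtain ⟨m, hm⟩ := exists_mult_character (IsCharacter.comp hχ φ)
    (IsCharacter.comp (isCharacter_irr θ) (MonoidHom.fst A Q))
  have : classInner f (θ : A → ℂ) = (m : ℂ) := by
    rw [← hm]
    simp only [classInner, Fintype.sum_prod_type, f, Nat.card_prod, Nat.cast_mul, mul_inv,
      Finset.mul_sum, Finset.sum_mul, MonoidHom.coe_fst]
    refine Finset.sum_congr rfl fun a _ => Finset.sum_congr rfl fun u _ => ?_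
    ring
  rw [this, show (m : ℂ) = algebraMap ℤ ℂ (m : ℤ) by simp]
  exact isIntegral_algebraMap

open Classical in
/-- A locally integral class function agrees on the regular elements with a locally integral
combination of the irreducible characters. -/
theorem exists_regular_combination (hM : IsPModular p M) {f : G → ℂ} (hf : IsClassFunction G f)
    (hl : ∀ g, MemLocalRing M (f g)) :
    ∃ x : IrrCharacter G → ℂ, (∀ χ, MemLocalRing M (x χ)) ∧
      ∀ g : G, pRegularPart p f g =
        ∑ χ : IrrCharacter G, x χ * pRegularPart p (χ : G → ℂ) g := by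
  haveI : Fact p.Prime := ⟨hM.1⟩
  haveI : Finite (ConjClasses G) := Finite.of_surjective _ ConjClasses.mk_surjective
  haveI : Fintype (ConjClasses G) := Fintype.ofFinite _
  let P : ∀ r : G, Sylow p (Subgroup.centralizer ({r} : Set G)) := fun r => Classical.arbitrary _
  let Q : G → Subgroup G := fun r =>
    (P r : Subgroup (Subgroup.centralizer ({r} : Set G))).map
      (Subgroup.centralizer ({r} : Set G)).subtype
  have hQc : ∀ r : G, Q r ≤ Subgroup.centralizer ({r} : Set G) := fun r =>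
    Subgroup.map_subtype_le _
  have hQp : ∀ r : G, IsPGroup p (Q r) := fun r => (P r).isPGroup'.map _
  let c : G → IrrCharacter G → ℂ := fun r χ =>
    (Nat.card (Q r) : ℂ)⁻¹ * ∑ u : Q r, conj ((χ : G → ℂ) (r * (u : G)))
  let w : G → ℂ := fun r =>
    ((((P r : Subgroup (Subgroup.centralizer ({r} : Set G))).index : ℕ) : ℂ))⁻¹
  let x : IrrCharacter G → ℂ := fun χ => ∑ K : ConjClasses G,
    if p ∣ orderOf K.out then 0 else f K.out * w K.out * c K.out χ
  have hw : ∀ r : G, MemLocalRing M (w r) := fun r =>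
    mlr_natCast_inv hM (Sylow.not_dvd_index (P r))
  have hc : ∀ r χ, MemLocalRing M (c r χ) := fun r χ =>
    mlr_of_isIntegral hM (isIntegral_coset_avg
      (IsIrrCharacter.isCharacter (isIrrCharacter_conj χ)) (hQc r))
  refine ⟨x, fun χ => mlr_sum hM _ fun K _ => ?_, fun g => ?_⟩
  · split_ifs
    · exact mlr_zero hM
    · exact mlr_mul hM (mlr_mul hM (hl _) (hw _)) (hc _ _)
  by_cases hg : p ∣ orderOf g
  · simp [pRegularPart_of_singular hg]
  simp only [pRegularPart_of_regular hg]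
  have hmain : ∀ r : G, ¬ p ∣ orderOf r → ∑ χ : IrrCharacter G, c r χ * (χ : G → ℂ) g =
      if IsConj r g then ((P r : Subgroup (Subgroup.centralizer ({r} : Set G))).index : ℂ)
        else 0 := by
    intro r hr
    have hcol : ∀ u : Q r, ∑ χ : IrrCharacter G,
        conj ((χ : G → ℂ) (r * (u : G))) * (χ : G → ℂ) g =
        if u = 1 ∧ IsConj r g then
          (Nat.card (Subgroup.centralizer ({r} : Set G)) : ℂ) else 0 := by
      intro u
      simp only [mul_comm (conj _)]
      rw [col_orth]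
      by_cases hu : u = 1
      · subst hu; simp
      · rw [if_neg (fun h : u = 1 ∧ IsConj r g => hu h.1), if_neg]
        intro hcj
        apply hu
        obtain ⟨n, hn⟩ := IsPGroup.iff_orderOf.mp (hQp r) u
        rw [← Subgroup.orderOf_coe] at hn
        have hcomm : Commute r (u : G) :=
          (Subgroup.mem_centralizer_singleton_iff.mp (hQc r u.2)).symm
        have hcop : Nat.Coprime (orderOf r) (orderOf (u : G)) := by
          rw [hn]
          exact (((Nat.Prime.coprime_iff_not_dvd hM.1).mpr hr).symm).pow_right n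
        obtain ⟨z, hz⟩ := isConj_iff.mp hcj
        have ho : orderOf g = orderOf r * orderOf (u : G) := by
          rw [← hcomm.orderOf_mul_eq_mul_orderOf_of_coprime hcop, ← hz]
          exact orderOf_injective (MulAut.conj z).toMonoidHom (MulEquiv.injective _) _
        rcases Nat.eq_zero_or_pos n with h0 | h0
        · rw [h0, pow_zero] at hn
          exact Subtype.ext (orderOf_eq_one_iff.mp hn)
        · exact absurd (ho ▸ dvd_mul_of_dvd_right (hn ▸ dvd_pow_self p h0.ne') _) hg
    simp only [c, mul_assoc, Finset.sum_mul, ← Finset.mul_sum]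
    rw [Finset.sum_comm, Finset.sum_congr rfl fun u _ => hcol u,
      Finset.sum_eq_single (1 : Q r) (fun u _ hu => if_neg fun h => hu h.1) (by simp)]
    simp only [true_and]
    split_ifs
    · have h : Nat.card (Subgroup.centralizer ({r} : Set G)) = Nat.card (Q r) *
          (P r : Subgroup (Subgroup.centralizer ({r} : Set G))).index := by
        rw [Subgroup.card_map_of_injective (Subgroup.subtype_injective _), Subgroup.card_mul_index]
      rw [h, Nat.cast_mul, ← mul_assoc,
        inv_mul_cancel₀ (Nat.cast_ne_zero.mpr Nat.card_pos.ne'), one_mul]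
    · rw [mul_zero]
  obtain ⟨K₀, hK₀⟩ : ∃ K₀ : ConjClasses G, K₀ = ConjClasses.mk g := ⟨_, rfl⟩
  have hK : IsConj K₀.out g :=
    ConjClasses.mk_eq_mk_iff_isConj.mp ((Quotient.out_eq K₀).trans hK₀)
  obtain ⟨z, hz⟩ := isConj_iff.mp hK
  have hord : orderOf K₀.out = orderOf g := by
    rw [← hz]
    exact (orderOf_injective (MulAut.conj z).toMonoidHom (MulEquiv.injective _) _).symm
  simp only [x, Finset.sum_mul]
  rw [Finset.sum_comm, Finset.sum_eq_single K₀]
  · simp only [if_neg (hord ▸ hg : ¬ p ∣ orderOf K₀.out), mul_assoc, ← Finset.mul_sum]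
    rw [hmain _ (hord ▸ hg), if_pos hK]
    simp only [w]
    rw [inv_mul_cancel₀ (Nat.cast_ne_zero.mpr Subgroup.index_ne_zero_of_finite), mul_one,
      ← hz, hf]
  · intro K _ hne
    by_cases hr : p ∣ orderOf K.out
    · simp [hr]
    · simp only [if_neg hr, mul_assoc, ← Finset.mul_sum]
      rw [hmain _ hr, if_neg, mul_zero, mul_zero]
      intro h
      exact hne (((Quotient.out_eq K).symm.trans
        (ConjClasses.mk_eq_mk_iff_isConj.mpr h)).trans hK₀.symm)
  · simp

open Classical in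
/-- The reduced matrix of a block sends a locally integral vector to the reduced degrees. -/
theorem exists_degree_preimage (hM : IsPModular p M) {B : Set (IrrCharacter G)}
    (hB : IsPBlock M B) :
    ∃ x : IrrCharacter G → ℂ, (∀ χ, MemLocalRing M (x χ)) ∧ ∀ ψ ∈ B,
      ∑ χ ∈ Finset.univ.filter (· ∈ B), x χ * (regMat hM.1 χ ψ : ℂ) =
        (charDegree (ψ : G → ℂ) : ℂ) := by
  obtain ⟨x, hx, hexp⟩ := exists_regular_combination hM (f := fun g => blockCoeff B g⁻¹)
    (fun g h => by
      change blockCoeff B (h * g * h⁻¹)⁻¹ = blockCoeff B g⁻¹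
      rw [show (h * g * h⁻¹)⁻¹ = h * g⁻¹ * h⁻¹ by group]
      exact blockCoeff_isClassFunction B g⁻¹ h)
    (fun g => mlr_blockCoeff hM hB _)
  refine ⟨fun χ => (regCard p G : ℂ) * x χ, fun χ => mlr_mul hM (mlr_natCast hM _) (hx χ),
    fun ψ hψ => ?_⟩
  have hf : (fun g => blockCoeff B g⁻¹) =
      fun g => ∑ χ : IrrCharacter G, x χ * pRegularPart p (χ : G → ℂ) g := by
    funext g
    rw [← hexp g]
    by_cases hg : p ∣ orderOf g
    · rw [pRegularPart_of_singular hg,
        blockCoeff_eq_zero_of_singular hM hB (by rwa [orderOf_inv])]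
    · rw [pRegularPart_of_regular hg]
  have h1 : classInner (fun g => blockCoeff B g⁻¹) (ψ : G → ℂ) =
      ∑ χ : IrrCharacter G, x χ * regInner p (χ : G → ℂ) (ψ : G → ℂ) := by
    rw [hf, classInner_sum]
    rfl
  have h2 : classInner (fun g => blockCoeff B g⁻¹) (ψ : G → ℂ) =
      (Nat.card G : ℂ)⁻¹ * (charDegree (ψ : G → ℂ) : ℂ) := by
    have e : (fun g => blockCoeff B g⁻¹) = fun g => ∑ χ ∈ Finset.univ.filter (· ∈ B),
        ((Nat.card G : ℂ)⁻¹ * (charDegree (χ : G → ℂ) : ℂ)) * (χ : G → ℂ) g := by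
      funext g
      rw [blockCoeff_eq_sum, Finset.mul_sum]
      refine Finset.sum_congr rfl fun χ _ => ?_
      rw [IsCharacter.map_inv (isCharacter_irr χ), Complex.conj_conj, irr_apply_one]
      ring
    rw [e, classInner_sum]
    simp only [classInner_irr, mul_ite, mul_one, mul_zero]
    rw [Finset.sum_ite_eq', if_pos (Finset.mem_filter.mpr ⟨Finset.mem_univ _, hψ⟩)]
  have h3 : ∑ χ ∈ Finset.univ.filter (· ∈ B),
      (regCard p G : ℂ) * x χ * (regMat hM.1 χ ψ : ℂ) =
      ∑ χ : IrrCharacter G, (regCard p G : ℂ) * x χ * (regMat hM.1 χ ψ : ℂ) := by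
    refine Finset.sum_subset (Finset.subset_univ _) fun χ _ hχ => ?_
    rw [regMat_eq_zero hM fun hs => hχ (Finset.mem_filter.mpr
      ⟨Finset.mem_univ _, IsPBlock.mem_of_sameBlock hM hB hψ (sameBlock_symm hs)⟩)]
    simp
  rw [h3]
  calc ∑ χ : IrrCharacter G, (regCard p G : ℂ) * x χ * (regMat hM.1 χ ψ : ℂ)
      = (Nat.card G : ℂ) *
          ∑ χ : IrrCharacter G, x χ * regInner p (χ : G → ℂ) (ψ : G → ℂ) := by
        rw [Finset.mul_sum]
        refine Finset.sum_congr rfl fun χ _ => ?_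
        rw [← regMat_spec hM.1]
        have hG : (Nat.card G : ℂ) =
            ((p ^ (Nat.card G).factorization p : ℕ) : ℂ) * (regCard p G : ℂ) := by
          rw [← Nat.cast_mul, regCard_mul]
        rw [hG]
        ring
    _ = _ := by rw [← h1, h2, ← mul_assoc, mul_inv_cancel₀ (natCast_card_ne_zero G), one_mul]

open Classical in
/-- Brauer's theorem: the exact power of `p` in the square sum of the degrees of a block. -/
theorem exists_squareSum (hM : IsPModular p M) {B : Set (IrrCharacter G)} (hB : IsPBlock M B) :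
    ∃ N : ℕ, ¬ p ∣ N ∧ ∑ χ ∈ Finset.univ.filter (· ∈ B), charDegree (χ : G → ℂ) ^ 2 =
      p ^ (2 * minExp p B + blockDefect p B) * N := by
  have hp := hM.1
  set e := minExp p B with he
  set d := blockDefect p B with hdef
  set S := Finset.univ.filter (· ∈ B) with hS
  have hmem : ∀ {χ : IrrCharacter G}, χ ∈ S → χ ∈ B := fun h => (Finset.mem_filter.mp h).2
  obtain ⟨y, hy, hpre⟩ := exists_degree_preimage hM hB
  obtain ⟨φ, hφ, hφe⟩ := exists_minExp hM hB
  choose v hv using fun χ : IrrCharacter G => fun hχ : χ ∈ B =>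
    (pow_dvd_pow p (minExp_le (p := p) hχ)).trans (Nat.ordProj_dvd (charDegree (χ : G → ℂ)) p)
  choose k hk using fun (χ : IrrCharacter G) (hχ : χ ∈ B) ψ =>
    (pow_dvd_pow (p : ℤ) (minExp_le (p := p) hχ)).trans (ppow_dvd_regMat hp χ ψ)
  let V : IrrCharacter G → ℕ := fun χ => if h : χ ∈ B then v χ h else 0
  let K : IrrCharacter G → IrrCharacter G → ℤ := fun χ ψ => if h : χ ∈ B then k χ h ψ else 0
  have hV : ∀ χ ∈ B, charDegree (χ : G → ℂ) = p ^ e * V χ := fun χ hχ => by
    simp only [V, dif_pos hχ]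
    exact hv χ hχ
  have hK : ∀ χ ∈ B, ∀ ψ, regMat hp χ ψ = (p : ℤ) ^ e * K χ ψ := fun χ hχ ψ => by
    simp only [K, dif_pos hχ]
    exact hk χ hχ ψ
  have hpe : (p : ℂ) ^ e ≠ 0 := pow_ne_zero _ (Nat.cast_ne_zero.mpr hp.ne_zero)
  have hvk : ∀ ψ ∈ B, (V ψ : ℂ) = ∑ χ ∈ S, y χ * (K χ ψ : ℂ) := fun ψ hψ => by
    refine mul_left_cancel₀ hpe ?_
    rw [← Nat.cast_pow, ← Nat.cast_mul, ← hV ψ hψ, ← hpre ψ hψ, Nat.cast_pow, Finset.mul_sum]
    refine Finset.sum_congr rfl fun χ hχ => ?_
    rw [hK χ (hmem hχ) ψ]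
    push_cast
    ring
  have hsymm : ∀ χ ∈ B, ∀ ψ ∈ B, K χ ψ = K ψ χ := fun χ hχ ψ hψ => by
    refine mul_left_cancel₀ (pow_ne_zero e (Int.natCast_ne_zero.mpr hp.ne_zero)) ?_
    rw [← hK χ hχ, ← hK ψ hψ, regMat_symm]
  have hkk : ∀ χ ∈ B, ∀ ψ ∈ B, ∑ r ∈ S, K χ r * K r ψ = (p : ℤ) ^ d * K χ ψ := by
    intro χ hχ ψ hψ
    refine mul_left_cancel₀ (pow_ne_zero (e + e) (Int.natCast_ne_zero.mpr hp.ne_zero)) ?_
    calc (p : ℤ) ^ (e + e) * ∑ r ∈ S, K χ r * K r ψ
        = ∑ r ∈ S, regMat hp χ r * regMat hp ψ r := by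
          rw [Finset.mul_sum]
          refine Finset.sum_congr rfl fun r hr => ?_
          rw [hK χ hχ, hK ψ hψ, hsymm r (hmem hr) ψ hψ, pow_add]
          ring
      _ = (p : ℤ) ^ (Nat.card G).factorization p * regMat hp χ ψ :=
          sum_regMat_block hM hB hχ ψ
      _ = _ := by
          rw [hK χ hχ, ← minExp_add_defect hφ, ← he, ← hdef]
          ring
  have hkv : ∀ χ ∈ B, ∑ ψ ∈ S, (V ψ : ℂ) * (K χ ψ : ℂ) = (p : ℂ) ^ d * (V χ : ℂ) := by
    intro χ hχ
    rw [hvk χ hχ, Finset.mul_sum]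
    rw [Finset.sum_congr rfl fun ψ hψ => by rw [hvk ψ (hmem hψ), Finset.sum_mul]]
    rw [Finset.sum_comm]
    refine Finset.sum_congr rfl fun r hr => ?_
    have := congrArg (fun n : ℤ => (n : ℂ)) (hkk r (hmem hr) χ hχ)
    push_cast at this
    calc _ = y r * ∑ ψ ∈ S, (K r ψ : ℂ) * (K ψ χ : ℂ) := by
          rw [Finset.mul_sum]
          refine Finset.sum_congr rfl fun ψ hψ => ?_
          rw [hsymm χ hχ ψ (hmem hψ)]
          ring
      _ = _ := by rw [this]; ring
  set u : ℂ := ∑ χ ∈ S, y χ * (V χ : ℂ) with hu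
  set T : ℕ := ∑ χ ∈ S, V χ ^ 2 with hT
  have hTu : (T : ℂ) = (p : ℂ) ^ d * u := by
    rw [hT, hu, Nat.cast_sum, Finset.mul_sum]
    calc ∑ χ ∈ S, (((V χ) ^ 2 : ℕ) : ℂ)
        = ∑ ψ ∈ S, ∑ χ ∈ S, y χ * ((V ψ : ℂ) * (K χ ψ : ℂ)) := by
          refine Finset.sum_congr rfl fun ψ hψ => ?_
          rw [Nat.cast_pow, sq]
          nth_rw 1 [hvk ψ (hmem hψ)]
          rw [Finset.sum_mul]
          exact Finset.sum_congr rfl fun χ _ => by ring
      _ = _ := by
          rw [Finset.sum_comm]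
          refine Finset.sum_congr rfl fun χ hχ => ?_
          rw [← Finset.mul_sum, hkv χ (hmem hχ)]
          ring
  have hum : MemLocalRing M u := mlr_sum hM _ fun χ _ => mlr_mul hM (hy χ) (mlr_natCast hM _)
  have hVφ : ¬ p ∣ V φ := by
    intro h
    have h2 : p ^ (e + 1) ∣ charDegree (φ : G → ℂ) := by
      rw [hV φ hφ, pow_succ]; exact mul_dvd_mul_left _ h
    rw [he, ← hφe] at h2
    exact Nat.pow_succ_factorization_not_dvd (charDegree_pos φ).ne' hp h2
  have homega : ∀ χ ∈ B, omega (χ : G → ℂ) (regTest p φ) * (V χ : ℂ) =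
      (regCard p G : ℂ) * (K χ φ : ℂ) := by
    intro χ hχ
    refine mul_left_cancel₀ hpe ?_
    have := omega_regTest hp χ φ
    rw [hV χ hχ, hK χ hχ φ] at this
    push_cast at this
    calc _ = omega (χ : G → ℂ) (regTest p φ) * ((p : ℂ) ^ e * (V χ : ℂ)) := by ring
      _ = _ := by rw [this]; ring
  have hunit : ¬ MemLocalIdeal M u := by
    intro hui
    haveI := localIdeal_isPrime hM
    have hdiff : ∀ χ ∈ B, MemLocalIdeal M ((regCard p G : ℂ) *
        ((K χ φ : ℂ) * (V φ : ℂ) - (K φ φ : ℂ) * (V χ : ℂ))) := by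
      intro χ hχ
      have h := mli_mul_right hM (mli_omega_sub hM (IsPBlock.sameBlock hM hB hχ hφ)
        (regTest_isClassFunction (p := p) φ) fun g => mlr_of_isIntegral hM (regTest_isIntegral φ g))
        (mlr_mul hM (mlr_natCast hM (V χ)) (mlr_natCast hM (V φ)))
      convert h using 1
      rw [mul_sub, ← mul_assoc, ← mul_assoc, ← homega χ hχ, ← homega φ hφ]
      ring
    have hs : MemLocalIdeal M ((regCard p G : ℂ) * ((V φ : ℂ) * (V φ : ℂ))) := by
      have h1 := mli_sum hM S (f := fun χ => y χ * ((regCard p G : ℂ) *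
        ((K χ φ : ℂ) * (V φ : ℂ) - (K φ φ : ℂ) * (V χ : ℂ))))
        fun χ hχ => mli_mul_left hM (hy χ) (hdiff χ (hmem hχ))
      have h2 := mli_mul_left hM (mlr_mul hM (mlr_natCast hM (regCard p G))
        (mlr_intCast hM (K φ φ))) hui
      convert mli_add hM h1 h2 using 1
      rw [hu, Finset.mul_sum, ← Finset.sum_add_distrib]
      nth_rw 1 [hvk φ hφ]
      rw [Finset.sum_mul, Finset.mul_sum]
      exact Finset.sum_congr rfl fun χ _ => by ring
    rw [← Nat.cast_mul, ← Nat.cast_mul, mli_natCast_iff hM] at hs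
    rcases (Nat.Prime.dvd_mul hp).mp hs with h | h
    · exact not_dvd_regCard hp G h
    · exact hVφ ((Nat.Prime.dvd_mul hp).mp h |>.elim id id)
  have hT0 : T ≠ 0 := by
    intro h
    rw [h, Nat.cast_zero, eq_comm, mul_eq_zero] at hTu
    rcases hTu with h' | h'
    · exact pow_ne_zero _ (Nat.cast_ne_zero.mpr hp.ne_zero) h'
    · exact hunit (h' ▸ mli_zero hM)
  obtain ⟨j, N, hN, hTN⟩ := Nat.exists_eq_pow_mul_and_not_dvd hT0 p hp.ne_one
  have hjd : j = d := by
    rw [hTN] at hTu
    push_cast at hTu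
    have hp0 : (p : ℂ) ≠ 0 := Nat.cast_ne_zero.mpr hp.ne_zero
    rcases lt_trichotomy j d with h | h | h
    · exfalso
      obtain ⟨t, ht⟩ : ∃ t, d = j + (t + 1) := ⟨d - j - 1, by omega⟩
      rw [ht, pow_add, mul_assoc] at hTu
      have := mul_left_cancel₀ (pow_ne_zero _ hp0) hTu
      apply hN
      rw [← mli_natCast_iff hM, this, pow_succ', mul_assoc]
      exact mli_mul_right hM (mli_p hM) (mlr_mul hM (mlr_pow hM (mlr_natCast hM p) _) hum)
    · exact h
    · exfalso
      obtain ⟨t, rfl⟩ : ∃ t, j = d + (t + 1) := ⟨j - d - 1, by omega⟩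
      rw [pow_add, mul_assoc] at hTu
      have := mul_left_cancel₀ (pow_ne_zero _ hp0) hTu
      apply hunit
      rw [← this, pow_succ', mul_assoc]
      exact mli_mul_right hM (mli_p hM) (mlr_mul hM (mlr_pow hM (mlr_natCast hM p) _)
        (mlr_natCast hM N))
  refine ⟨N, hN, ?_⟩
  calc ∑ χ ∈ S, charDegree (χ : G → ℂ) ^ 2
      = p ^ (2 * e) * T := by
        rw [hT, Finset.mul_sum]
        exact Finset.sum_congr rfl fun χ hχ => by rw [hV χ (hmem hχ)]; ring
    _ = _ := by rw [hTN, hjd, pow_add, mul_assoc]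

/-- The `p`-exponent of the square sum of the degrees. -/
theorem factorization_squareSum (hM : IsPModular p M) {B : Set (IrrCharacter G)}
    (hB : IsPBlock M B) :
    (∑ᶠ χ ∈ B, charDegree (χ : G → ℂ) ^ 2).factorization p =
      2 * minExp p B + blockDefect p B := by
  classical
  obtain ⟨N, hN, h⟩ := exists_squareSum hM hB
  rw [finsum_mem_eq_toFinset_sum, ← Set.filter_mem_univ_eq_toFinset, h,
    Nat.factorization_mul (pow_ne_zero _ hM.1.ne_zero) (fun h0 => hN (by rw [h0]; exact dvd_zero p)),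
    Finsupp.add_apply, hM.1.factorization_pow, Finsupp.single_eq_same,
    Nat.factorization_eq_zero_of_not_dvd hN, add_zero]

end CfsgLib.Blocks
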