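import Cfsg.Agent.Lib.Blocks.PInflate
import Cfsg.Agent.Lib.Blocks.SquareSum
import Cfsg.Agent.Lib.Blocks.DefectClass
import Cfsg.Agent.Lib.Blocks.RegEq
import Mathlib.GroupTheory.NoncommCoprod

/-!
Blocks of a group `G = D C_G(D)` with defect group `D`: the characters `f_ζ`.
-/

set_option linter.style.haveILetI false

namespace CfsgLib.Blocks.DC

open scoped ComplexConjugate
open Cfsg CfsgLib.Chars CfsgLib.Blocks

universe u

variable {G : Type u} [Group G] [Fintype G] {p : ℕ} {M : Ideal AlgInt} {D : Subgroup G}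

/-- The hypothesis `G = D C_G(D)`. -/
def IsDC (D : Subgroup G) : Prop := D ⊔ Subgroup.centralizer (D : Set G) = ⊤

omit [Fintype G] in
theorem IsDC.normal (h : IsDC D) : D.Normal := by
  refine Subgroup.normalizer_eq_top_iff.mp (top_le_iff.mp ?_)
  rw [← h]
  exact sup_le Subgroup.le_normalizer (Subgroup.centralizer_le_normalizer _)

omit [Fintype G] in
theorem IsDC.exists_mul (h : IsDC D) (g : G) :
    ∃ d ∈ D, ∃ c ∈ Subgroup.centralizer (D : Set G), d * c = g := by
  haveI := h.normal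
  have hg : g ∈ D ⊔ Subgroup.centralizer (D : Set G) := by rw [h]; exact Subgroup.mem_top g
  exact Subgroup.mem_sup_of_normal_left.mp hg

/-- Regular elements centralize `D`. -/
theorem IsDC.regular_mem (h : IsDC D) (hD : IsPGroup p D) (hp : p.Prime) {x : G}
    (hx : ¬ p ∣ orderOf x) : x ∈ Subgroup.centralizer (D : Set G) := by
  haveI := h.normal
  set C := Subgroup.centralizer (D : Set G)
  obtain ⟨d, hd, c, hc, e⟩ := h.exists_mul x
  obtain ⟨k, hk⟩ := hD ⟨d, hd⟩
  have hdo : orderOf (QuotientGroup.mk' C x) ∣ p ^ k := by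
    have ex : QuotientGroup.mk' C x = QuotientGroup.mk' C d := by
      rw [← e, map_mul]
      have : QuotientGroup.mk' C c = 1 := (QuotientGroup.eq_one_iff c).mpr hc
      rw [this, mul_one]
    rw [ex]
    refine (orderOf_map_dvd _ d).trans (orderOf_dvd_of_pow_eq_one ?_)
    simpa using congrArg Subtype.val hk
  have h1 : orderOf (QuotientGroup.mk' C x) = 1 :=
    Nat.eq_one_of_dvd_coprimes (((hp.coprime_iff_not_dvd.mpr hx)).pow_left k) hdo
      (orderOf_map_dvd _ x)
  exact (QuotientGroup.eq_one_iff x).mp (orderOf_eq_one_iff.mp h1)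

omit [Fintype G] in
theorem commute_of_mem {y c : G} (hy : y ∈ D) (hc : c ∈ Subgroup.centralizer (D : Set G)) :
    Commute y c := Subgroup.mem_centralizer_iff.mp hc y hy

/-- The representation `y x` with `y ∈ D`, `x` regular is unique. -/
theorem IsDC.translate_inj (h : IsDC D) (hD : IsPGroup p D) (hp : p.Prime) {y y' x x' : G}
    (hy : y ∈ D) (hy' : y' ∈ D) (hx : ¬ p ∣ orderOf x) (hx' : ¬ p ∣ orderOf x')
    (e : y * x = y' * x') : y = y' ∧ x = x' := by
  have key : ∀ (d w : G), d ∈ D → ¬ p ∣ orderOf w → IsPPart p (d * w) d := fun d w hd hw => by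
    obtain ⟨k, hk⟩ := hD ⟨d, hd⟩
    obtain ⟨j, -, hj⟩ := (Nat.dvd_prime_pow hp).mp
      (orderOf_dvd_of_pow_eq_one (by simpa using congrArg Subtype.val hk : d ^ p ^ k = 1))
    exact ⟨w, rfl, commute_of_mem hd (h.regular_mem hD hp hw), ⟨j, hj⟩, hw⟩
  have e1 : y = y' := isPPart_unique hp (key y x hy hx) (e ▸ key y' x' hy' hx')
  exact ⟨e1, mul_left_cancel (e1 ▸ e)⟩

/-- The function `y x ↦ ζ y * θ x`. -/
noncomputable def starChar (p : ℕ) (D : Subgroup G) [Fintype D] (θ : G → ℂ) (ζ : D → ℂ) : G → ℂ :=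
  fun g => ∑ y : D, ζ y * pRegularPart p θ ((y : G)⁻¹ * g)

variable [Fintype D]

theorem starChar_apply (h : IsDC D) (hD : IsPGroup p D) (hp : p.Prime) (θ : G → ℂ) (ζ : D → ℂ)
    (y : D) {x : G} (hx : ¬ p ∣ orderOf x) :
    starChar p D θ ζ ((y : G) * x) = ζ y * θ x := by
  rw [starChar, Finset.sum_eq_single y]
  · rw [inv_mul_cancel_left, pRegularPart_of_regular hx]
  · intro y' _ hne
    by_cases hs : p ∣ orderOf ((y' : G)⁻¹ * ((y : G) * x))
    · rw [pRegularPart_of_singular hs, mul_zero]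
    · exact absurd (Subtype.ext (h.translate_inj hD hp y.2 y'.2 hx hs
        (mul_inv_cancel_left _ _).symm).1.symm) hne
  · simp

theorem starChar_zero (hp : p.Prime) (θ : G → ℂ) (ζ : D → ℂ) (h : IsDC D) (hD : IsPGroup p D)
    {z : G} (hz : ∀ y : G, IsPPart p z y → y ∉ D) : starChar p D θ ζ z = 0 := by
  refine Finset.sum_eq_zero fun y _ => ?_
  by_cases hs : p ∣ orderOf ((y : G)⁻¹ * z)
  · rw [pRegularPart_of_singular hs, mul_zero]
  · exfalso
    obtain ⟨k, hk⟩ := hD y
    obtain ⟨j, -, hj⟩ := (Nat.dvd_prime_pow hp).mp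
      (orderOf_dvd_of_pow_eq_one (by simpa using congrArg Subtype.val hk : (y : G) ^ p ^ k = 1))
    exact hz y ⟨(y : G)⁻¹ * z, mul_inv_cancel_left _ _,
      commute_of_mem y.2 (h.regular_mem hD hp hs), ⟨j, hj⟩, hs⟩ y.2

theorem starChar_isClassFunction (h : IsDC D) {θ : G → ℂ} (hθ : IsClassFunction G θ)
    {ζ : D → ℂ} (hζ : IsClassFunction D ζ) : IsClassFunction G (starChar p D θ ζ) := by
  intro g k
  haveI hn := h.normal
  obtain ⟨d, hd, c, hc, rfl⟩ := h.exists_mul k
  simp only [starChar]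
  refine (Fintype.sum_equiv (MulAut.conjNormal (H := D) (d * c)).toEquiv _ _ fun y => ?_).symm
  have hval : ((MulAut.conjNormal (H := D) (d * c)) y : G) = d * c * (y : G) * (d * c)⁻¹ :=
    MulAut.conjNormal_apply _ _
  have hd' : MulAut.conjNormal (H := D) (d * c) y = ⟨d, hd⟩ * y * (⟨d, hd⟩ : D)⁻¹ := by
    apply Subtype.ext
    rw [hval]
    simp only [Subgroup.coe_mul, InvMemClass.coe_inv]
    rw [mul_assoc d c, ← (commute_of_mem y.2 hc).eq]
    group
  change _ = ζ (MulAut.conjNormal (H := D) (d * c) y) *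
    pRegularPart p θ (((MulAut.conjNormal (H := D) (d * c)) y : G)⁻¹ * (d * c * g * (d * c)⁻¹))
  rw [hval]
  have e2 : (d * c * (y : G) * (d * c)⁻¹)⁻¹ * (d * c * g * (d * c)⁻¹) =
      d * c * ((y : G)⁻¹ * g) * (d * c)⁻¹ := by group
  rw [e2, pRegularPart_isClassFunction hθ, hd', hζ]

theorem starChar_one (h : IsDC D) (hD : IsPGroup p D) (hp : p.Prime) (θ : G → ℂ) (ζ : D → ℂ) :
    starChar p D θ ζ 1 = ζ 1 * θ 1 := by
  have := starChar_apply h hD hp θ ζ 1 (x := 1) (by simpa using hp.ne_one)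
  simpa using this

open Classical in
theorem sum_starChar_mul (θ : G → ℂ) (ζ : D → ℂ) (F : G → ℂ) :
    ∑ g : G, starChar p D θ ζ g * F g =
      ∑ y : D, ∑ x ∈ Finset.univ.filter (fun x : G => ¬ p ∣ orderOf x),
        ζ y * θ x * F ((y : G) * x) := by
  simp only [starChar, Finset.sum_mul]
  rw [Finset.sum_comm]
  refine Finset.sum_congr rfl fun y _ => ?_
  rw [Finset.sum_filter]
  refine Fintype.sum_equiv (Equiv.mulLeft (y : G)⁻¹) _ _ fun g => ?_
  simp only [Equiv.coe_mulLeft, mul_inv_cancel_left]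
  by_cases hs : p ∣ orderOf ((y : G)⁻¹ * g)
  · rw [pRegularPart_of_singular hs, if_neg (not_not.mpr hs), mul_zero, zero_mul]
  · rw [pRegularPart_of_regular hs, if_pos hs]

section theta

variable (hM : IsPModular p M) (h : IsDC D) (hD : IsPGroup p D) {θ : IrrCharacter G}
  (hker : ∀ y ∈ D, (θ : G → ℂ) y = (θ : G → ℂ) 1)
  (hdeg : (charDegree (θ : G → ℂ)).factorization p = D.index.factorization p)

omit [Fintype G] [Fintype D] in
theorem factorization_card_eq [Finite G] (D : Subgroup G) :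
    (Nat.card G).factorization p = D.index.factorization p + (Nat.card D).factorization p := by
  rw [← D.index_mul_card, Nat.factorization_mul Subgroup.index_ne_zero_of_finite Nat.card_pos.ne',
    Finsupp.add_apply]

include hM h hD hker hdeg in
/-- The canonical character vanishes unless the `p`-part lies in `D`. -/
theorem theta_eq_star (g : G) : (θ : G → ℂ) g = starChar p D (θ : G → ℂ) (fun _ => 1) g := by
  haveI := h.normal
  by_cases hz : ∀ y : G, IsPPart p g y → y ∉ D
  · rw [starChar_zero hM.1 _ _ h hD hz]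
    obtain ⟨ψ, hψ⟩ := exists_deflate D θ hker
    haveI : Fintype (G ⧸ D) := Fintype.ofFinite _
    have hψd : charDegree (ψ : G ⧸ D → ℂ) = charDegree (θ : G → ℂ) := by
      rw [hψ]; rfl
    have hfull : p ^ (Nat.card (G ⧸ D)).factorization p ∣ charDegree (ψ : G ⧸ D → ℂ) := by
      rw [hψd, ← Subgroup.index_eq_card, ← hdeg]
      exact Nat.ordProj_dvd _ _
    rw [hψ]
    refine ((defect_zero_tfae hM ψ).2.mp hfull) _ ?_
    by_contra hns
    obtain ⟨u, v, hg, hcomm, ⟨k, hk⟩, hv⟩ := exists_pPart hM.1 g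
    refine hz u ⟨v, hg, hcomm, ⟨k, hk⟩, hv⟩ ?_
    have hu : orderOf ((u : G) : G ⧸ D) = 1 := by
      have h2 : orderOf ((u : G) : G ⧸ D) ∣ p ^ k := hk ▸ orderOf_map_dvd (QuotientGroup.mk' D) u
      have h3 : Commute ((u : G) : G ⧸ D) ((v : G) : G ⧸ D) := hcomm.map (QuotientGroup.mk' D)
      have h4 : ¬ p ∣ orderOf ((v : G) : G ⧸ D) := fun hd =>
        hv (hd.trans (orderOf_map_dvd (QuotientGroup.mk' D) v))
      have h5 : orderOf ((g : G) : G ⧸ D) =
          orderOf ((u : G) : G ⧸ D) * orderOf ((v : G) : G ⧸ D) := by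
        rw [← hg, QuotientGroup.mk_mul]
        exact h3.orderOf_mul_eq_mul_orderOf_of_coprime
          (((hM.1.coprime_iff_not_dvd.mpr h4).pow_left k).coprime_dvd_left h2)
      obtain ⟨j, -, hj⟩ := (Nat.dvd_prime_pow hM.1).mp h2
      rcases Nat.eq_zero_or_pos j with h0 | h0
      · rw [hj, h0, pow_zero]
      · exact absurd (h5 ▸ dvd_mul_of_dvd_left (hj ▸ dvd_pow_self p h0.ne') _) hns
    exact (QuotientGroup.eq_one_iff u).mp (orderOf_eq_one_iff.mp hu)
  · push Not at hz
    obtain ⟨y, ⟨x, hg, -, -, hx⟩, hy⟩ := hz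
    rw [← hg, starChar_apply h hD hM.1 _ _ ⟨y, hy⟩ hx, one_mul,
      IsCharacter.mul_kernel (isCharacter_irr θ) (hker y hy)]

open Classical in
include hM h hD hker hdeg in
theorem card_mul_regNorm :
    (Nat.card D : ℂ) * ∑ x ∈ Finset.univ.filter (fun x : G => ¬ p ∣ orderOf x),
      (θ : G → ℂ) x * conj ((θ : G → ℂ) x) = (Nat.card G : ℂ) := by
  have h1 : ∑ g : G, (θ : G → ℂ) g * conj ((θ : G → ℂ) g) = (Nat.card G : ℂ) := by
    have := classInner_irr θ θ
    rw [if_pos rfl, classInner, inv_mul_eq_iff_eq_mul₀ (natCast_card_ne_zero G), mul_one] at this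
    exact this
  rw [← h1]
  symm
  calc ∑ g : G, (θ : G → ℂ) g * conj ((θ : G → ℂ) g)
      = ∑ g : G, starChar p D (θ : G → ℂ) (fun _ => 1) g * conj ((θ : G → ℂ) g) :=
        Finset.sum_congr rfl fun g _ => by rw [← theta_eq_star hM h hD hker hdeg g]
    _ = _ := by
        rw [sum_starChar_mul, Finset.sum_congr rfl fun (y : D) _ =>
          Finset.sum_congr rfl fun x _ => show (1 : ℂ) * (θ : G → ℂ) x *
              conj ((θ : G → ℂ) ((y : G) * x)) = (θ : G → ℂ) x * conj ((θ : G → ℂ) x) by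
            rw [one_mul, IsCharacter.mul_kernel (isCharacter_irr θ) (hker y y.2)],
          Finset.sum_const, nsmul_eq_mul, Finset.card_univ, ← Nat.card_eq_fintype_card]

open Classical in
include hM h hD hker hdeg in
theorem classInner_starChar (ζ η : D → ℂ) :
    classInner (starChar p D (θ : G → ℂ) ζ) (starChar p D (θ : G → ℂ) η) = classInner ζ η := by
  have hn := card_mul_regNorm hM h hD hker hdeg
  have e : ∑ g : G, starChar p D (θ : G → ℂ) ζ g * conj (starChar p D (θ : G → ℂ) η g) =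
      (∑ y : D, ζ y * conj (η y)) * ∑ x ∈ Finset.univ.filter (fun x : G => ¬ p ∣ orderOf x),
        (θ : G → ℂ) x * conj ((θ : G → ℂ) x) := by
    rw [sum_starChar_mul, Finset.sum_mul]
    refine Finset.sum_congr rfl fun y _ => ?_
    rw [Finset.mul_sum]
    refine Finset.sum_congr rfl fun x hx => ?_
    rw [starChar_apply h hD hM.1 _ _ y (Finset.mem_filter.mp hx).2, map_mul]
    ring
  rw [classInner, classInner, e]
  set S := ∑ x ∈ Finset.univ.filter (fun x : G => ¬ p ∣ orderOf x),
    (θ : G → ℂ) x * conj ((θ : G → ℂ) x)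
  rw [← hn, mul_inv]
  have hS : S ≠ 0 := fun h0 => natCast_card_ne_zero G (by rw [← hn, h0, mul_zero])
  field_simp

open Classical in
include hM h hD hker hdeg in
/-- The multiplicities are integers. -/
theorem exists_int_classInner (ζ : IrrCharacter D) (ψ : IrrCharacter G) :
    ∃ n : ℤ, classInner (starChar p D (θ : G → ℂ) (ζ : D → ℂ)) (ψ : G → ℂ) = (n : ℂ) := by
  haveI := h.normal
  haveI : Fact p.Prime := ⟨hM.1⟩
  set C := Subgroup.centralizer (D : Set G)
  haveI : Fintype C := Fintype.ofFinite C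
  obtain ⟨ψb, hψb⟩ := exists_deflate D θ hker
  have hsurj : Function.Surjective ((QuotientGroup.mk' D).comp C.subtype) := by
    intro q
    obtain ⟨g, rfl⟩ := QuotientGroup.mk_surjective q
    obtain ⟨d, hd, c, hc, rfl⟩ := h.exists_mul g
    refine ⟨⟨c, hc⟩, ?_⟩
    change ((c : G) : G ⧸ D) = ((d * c : G) : G ⧸ D)
    rw [QuotientGroup.mk_mul, (QuotientGroup.eq_one_iff d).mpr hd, one_mul]
  let θC : IrrCharacter C := ⟨fun c => (θ : G → ℂ) c, by
    rw [hψb]; exact IsIrrCharacter.comp ψb.2 _ hsurj⟩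
  let φ : D × C →* G := MonoidHom.noncommCoprod D.subtype C.subtype fun y c =>
    commute_of_mem y.2 c.2
  let Ψ : C → ℂ := fun c => (Nat.card D : ℂ)⁻¹ *
    ∑ y : D, (ψ : G → ℂ) ((y : G) * (c : G)) * conj ((ζ : D → ℂ) y)
  have hΨ : IsClassFunction C Ψ := fun c k => by
    simp only [Ψ]
    congr 1
    refine Finset.sum_congr rfl fun y _ => ?_
    congr 1
    rw [← IsCharacter.isClassFunction (isCharacter_irr ψ) ((y : G) * (c : G)) (k : G)]
    congr 1
    have hk := (commute_of_mem y.2 k.2).eq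
    simp only [Subgroup.coe_mul, InvMemClass.coe_inv]
    rw [← mul_assoc, ← mul_assoc, hk]
    group
  choose m hm using fun η : IrrCharacter C => exists_mult_character
    (IsCharacter.comp (isCharacter_irr ψ) φ)
    (IsCharacter.mul (IsCharacter.comp (isCharacter_irr ζ) (MonoidHom.fst D C))
      (IsCharacter.comp (isCharacter_irr η) (MonoidHom.snd D C)))
  have hΨm : ∀ η : IrrCharacter C, classInner Ψ (η : C → ℂ) = (m η : ℂ) := fun η => by
    rw [← hm η]
    simp only [classInner, Fintype.sum_prod_type, Ψ, Nat.card_prod, Nat.cast_mul, mul_inv,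
      Finset.mul_sum, Finset.sum_mul, MonoidHom.coe_fst, MonoidHom.coe_snd, Pi.mul_apply, map_mul]
    rw [Finset.sum_comm]
    refine Finset.sum_congr rfl fun y _ => Finset.sum_congr rfl fun c _ => ?_
    simp only [φ, MonoidHom.noncommCoprod_apply, Subgroup.coe_subtype]
    ring
  choose q hq using fun η : IrrCharacter C => ppow_dvd_regMat hM.1 θC η
  have hdegC : charDegree (θC : C → ℂ) = charDegree (θ : G → ℂ) := rfl
  set b := (charDegree (θC : C → ℂ)).factorization p with hb
  set Z := D ⊓ C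
  have hcard : Nat.card G * Nat.card Z = Nat.card D * Nat.card C := by
    have h1 : C.index = (Z.subgroupOf D).index := by
      rw [← Subgroup.relIndex_top_right, ← h, Subgroup.relIndex_sup_right]
      exact (Subgroup.inf_relIndex_left D C).symm
    have h2 : Nat.card Z * (Z.subgroupOf D).index = Nat.card D := by
      rw [← Nat.card_congr (Subgroup.subgroupOfEquivOfLe (inf_le_left : Z ≤ D)).toEquiv]
      exact Subgroup.card_mul_index _
    rw [← h2, ← h1, ← C.card_mul_index]
    ring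
  obtain ⟨z, hz⟩ : ∃ z, Nat.card Z = p ^ z :=
    IsPGroup.iff_card.mp (hD.to_le (inf_le_left : Z ≤ D))
  have hac : (Nat.card C).factorization p = b + z := by
    obtain ⟨d, hd⟩ := IsPGroup.iff_card.mp hD
    have h1 := congrArg (fun n : ℕ => n.factorization p) hcard
    beta_reduce at h1
    rw [Nat.factorization_mul Nat.card_pos.ne' Nat.card_pos.ne',
      Nat.factorization_mul Nat.card_pos.ne' Nat.card_pos.ne', Finsupp.add_apply, Finsupp.add_apply,
      hz, hd, hM.1.factorization_pow, hM.1.factorization_pow, Finsupp.single_eq_same,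
      Finsupp.single_eq_same] at h1
    have h2 := factorization_card_eq (p := p) D
    rw [hd, hM.1.factorization_pow, Finsupp.single_eq_same, ← hdeg, ← hdegC, ← hb] at h2
    omega
  refine ⟨∑ η : IrrCharacter C, (m η : ℤ) * q η, ?_⟩
  have step : classInner (starChar p D (θ : G → ℂ) (ζ : D → ℂ)) (ψ : G → ℂ) =
      (Nat.card Z : ℂ) * regInner p (θC : C → ℂ) Ψ := by
    rw [classInner, sum_starChar_mul, regInner_eq]
    have e1 : (Nat.card G : ℂ)⁻¹ * (Nat.card D : ℂ) =
        (Nat.card Z : ℂ) * (Nat.card C : ℂ)⁻¹ := by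
      have := congrArg (fun n : ℕ => (n : ℂ)) hcard
      push_cast at this
      field_simp [natCast_card_ne_zero]
      linear_combination -this
    rw [← mul_assoc, ← e1, Finset.sum_comm, Finset.mul_sum, Finset.mul_sum]
    refine Finset.sum_bij'
      (fun x hx => (⟨x, h.regular_mem hD hM.1 (Finset.mem_filter.mp hx).2⟩ : C))
      (fun c _ => (c : G)) ?_ ?_
      (fun _ _ => rfl) (fun _ _ => rfl) fun x hx => ?_
    · exact fun x hx => Finset.mem_filter.mpr
        ⟨Finset.mem_univ _, by rw [Subgroup.orderOf_mk]; exact (Finset.mem_filter.mp hx).2⟩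
    · exact fun c hc => Finset.mem_filter.mpr
        ⟨Finset.mem_univ _, by rw [Subgroup.orderOf_coe]; exact (Finset.mem_filter.mp hc).2⟩
    · simp only [Ψ, map_mul, map_inv₀, map_natCast, map_sum, Complex.conj_conj]
      rw [Finset.mul_sum, Finset.mul_sum, Finset.mul_sum, Finset.mul_sum]
      refine Finset.sum_congr rfl fun y _ => ?_
      change _ = _ * ((θ : G → ℂ) x * _)
      field_simp [natCast_card_ne_zero]
  rw [step, show Ψ = fun c => ∑ η : IrrCharacter C, (m η : ℂ) * (η : C → ℂ) c from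
    funext fun c => by
      rw [classFunction_expand hΨ c]
      exact Finset.sum_congr rfl fun η _ => by rw [hΨm η]]
  have e2 : regInner p (θC : C → ℂ) (fun c => ∑ η : IrrCharacter C, (m η : ℂ) * (η : C → ℂ) c) =
      ∑ η : IrrCharacter C, (m η : ℂ) * regInner p (θC : C → ℂ) (η : C → ℂ) := by
    simp only [regInner_eq, map_sum, map_mul, map_natCast, Finset.mul_sum]
    rw [Finset.sum_comm]
    exact Finset.sum_congr rfl fun η _ => Finset.sum_congr rfl fun c _ => by ring
  rw [e2, Finset.mul_sum, Int.cast_sum]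
  refine Finset.sum_congr rfl fun η _ => ?_
  rw [regInner_eq_regMat hM.1, hq η, hac, hz, hb]
  have hp0 : (p : ℂ) ≠ 0 := Nat.cast_ne_zero.mpr hM.1.ne_zero
  push_cast
  rw [pow_add]
  field_simp

include hM h hD hker hdeg in
/-- The functions `f_ζ` are irreducible characters. -/
theorem isIrr_starChar (ζ : IrrCharacter D) :
    IsIrrCharacter G (starChar p D (θ : G → ℂ) (ζ : D → ℂ)) := by
  classical
  set f := starChar p D (θ : G → ℂ) (ζ : D → ℂ) with hfdef
  have hf : IsClassFunction G f := starChar_isClassFunction h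
    (IsCharacter.isClassFunction (isCharacter_irr θ))
    (IsCharacter.isClassFunction (isCharacter_irr ζ))
  choose n hn using exists_int_classInner hM h hD hker hdeg ζ
  have hexp := classFunction_expand hf
  have h1 : classInner f f = 1 := by
    rw [hfdef, classInner_starChar hM h hD hker hdeg, classInner_irr, if_pos rfl]
  have hsum : (∑ χ : IrrCharacter G, n χ * n χ) = 1 := by
    apply Int.cast_injective (α := ℂ)
    push_cast
    rw [← h1]
    conv_rhs => arg 1; ext g; rw [hexp g]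
    rw [classInner_sum]
    refine Finset.sum_congr rfl fun χ _ => ?_
    rw [hn, classInner_symm (χ : G → ℂ) f, hn, map_intCast]
  obtain ⟨χ₀, hχ₀⟩ : ∃ χ₀, n χ₀ ≠ 0 := by
    by_contra hne
    push Not at hne
    simp [hne] at hsum
  have hsplit := Finset.add_sum_erase Finset.univ (fun χ => n χ * n χ) (Finset.mem_univ χ₀)
  have hrest0 : 0 ≤ ∑ χ ∈ Finset.univ.erase χ₀, n χ * n χ :=
    Finset.sum_nonneg fun χ _ => mul_self_nonneg _
  have hpos : 0 < n χ₀ * n χ₀ := mul_self_pos.mpr hχ₀
  have hz0 : ∑ χ ∈ Finset.univ.erase χ₀, n χ * n χ = 0 := by omega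
  have hrest : ∀ χ, χ ≠ χ₀ → n χ = 0 := fun χ hne => mul_self_eq_zero.mp
    ((Finset.sum_eq_zero_iff_of_nonneg fun χ _ => mul_self_nonneg (n χ)).mp
      hz0 χ (by simp [hne]))
  have hsq : n χ₀ * n χ₀ = 1 := by omega
  have hfe : ∀ g, f g = (n χ₀ : ℂ) * (χ₀ : G → ℂ) g := fun g => by
    rw [hexp g, Finset.sum_eq_single χ₀ (fun χ _ hne => by rw [hn, hrest χ hne]; simp) (by simp), hn]
  rcases mul_self_eq_one_iff.mp hsq with e | e
  · rw [show f = (χ₀ : G → ℂ) from funext fun g => by rw [hfe g, e]; simp]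
    exact χ₀.2
  · exfalso
    have e1 := hfe 1
    rw [hfdef, starChar_one h hD hM.1, e, irr_apply_one, irr_apply_one, irr_apply_one] at e1
    have e2 : ((charDegree (ζ : D → ℂ) * charDegree (θ : G → ℂ) : ℕ) : ℤ) =
        -(charDegree (χ₀ : G → ℂ) : ℤ) := by
      apply Int.cast_injective (α := ℂ)
      push_cast
      rw [e1]
      simp
    have := charDegree_pos χ₀
    omega

/-- The character `f_ζ`. -/
noncomputable def starIrr (ζ : IrrCharacter D) : IrrCharacter G :=
  ⟨starChar p D (θ : G → ℂ) (ζ : D → ℂ), isIrr_starChar hM h hD hker hdeg ζ⟩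

include hM h hD hker hdeg in
theorem starIrr_injective : Function.Injective (starIrr hM h hD hker hdeg) := by
  classical
  intro ζ η e
  by_contra hne
  have h1 := classInner_starChar hM h hD hker hdeg (ζ : D → ℂ) (η : D → ℂ)
  rw [classInner_irr, if_neg hne, show starChar p D (θ : G → ℂ) (ζ : D → ℂ) =
    starChar p D (θ : G → ℂ) (η : D → ℂ) from congrArg Subtype.val e,
    classInner_starChar hM h hD hker hdeg, classInner_irr, if_pos rfl] at h1
  exact one_ne_zero h1

include hM h hD hker hdeg in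
theorem starIrr_charDegree (ζ : IrrCharacter D) :
    charDegree (starIrr hM h hD hker hdeg ζ : G → ℂ) =
      charDegree (ζ : D → ℂ) * charDegree (θ : G → ℂ) := by
  apply Nat.cast_injective (R := ℂ)
  rw [← irr_apply_one, Nat.cast_mul, ← irr_apply_one, ← irr_apply_one]
  exact starChar_one h hD hM.1 _ _

open Classical in
include hM h hD hker hdeg in
theorem mem_block_iff {B : Set (IrrCharacter G)} (hB : IsPBlock M B)
    (hBd : Nat.card D = p ^ blockDefect p B) (hθ : θ ∈ B) (ψ : IrrCharacter G) :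
    ψ ∈ B ↔ ∃ ζ : IrrCharacter D, ψ = starIrr hM h hD hker hdeg ζ := by
  have hreg : ∀ ζ : IrrCharacter D,
      regInner p (starIrr hM h hD hker hdeg ζ : G → ℂ) (θ : G → ℂ) =
        (charDegree (ζ : D → ℂ) : ℂ) * regInner p (θ : G → ℂ) (θ : G → ℂ) := by
    intro ζ
    rw [regInner_eq, regInner_eq, mul_left_comm (charDegree (ζ : D → ℂ) : ℂ)]
    rw [Finset.mul_sum (a := (charDegree (ζ : D → ℂ) : ℂ))]
    congr 1
    refine Finset.sum_congr rfl fun x hx => ?_
    have := starChar_apply h hD hM.1 (θ : G → ℂ) (ζ : D → ℂ) 1 (Finset.mem_filter.mp hx).2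
    rw [OneMemClass.coe_one, one_mul, irr_apply_one] at this
    change starChar p D (θ : G → ℂ) (ζ : D → ℂ) x * _ = _
    rw [this]
    ring
  have hθθ : regInner p (θ : G → ℂ) (θ : G → ℂ) ≠ 0 := regInner_self_ne_zero hM.1 θ
  have hstar : ∀ ζ, starIrr hM h hD hker hdeg ζ ∈ B := by
    intro ζ
    refine IsPBlock.mem_of_sameBlock hM hB hθ (sameBlock_symm ?_)
    by_contra hs
    have h0 := regInner_eq_zero hM hs
    rw [hreg, mul_eq_zero] at h0
    exact h0.elim (Nat.cast_ne_zero.mpr (charDegree_pos ζ).ne') hθθ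
  refine ⟨fun hψ => ?_, fun ⟨ζ, hζ⟩ => hζ ▸ hstar ζ⟩
  by_contra hne
  push Not at hne
  have horth : ∀ ζ : IrrCharacter D, classInner (starChar p D (θ : G → ℂ) (ζ : D → ℂ)) (ψ : G → ℂ) = 0 :=
    fun ζ => by
      have := classInner_irr (starIrr hM h hD hker hdeg ζ) ψ
      rwa [if_neg (Ne.symm (hne ζ))] at this
  let Φ : D → ℂ := fun y => ∑ x ∈ Finset.univ.filter (fun x : G => ¬ p ∣ orderOf x),
    conj ((θ : G → ℂ) x) * (ψ : G → ℂ) ((y : G) * x)
  have hΦ : IsClassFunction D Φ := fun y k => by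
    simp only [Φ]
    refine Finset.sum_congr rfl fun x hx => ?_
    congr 1
    rw [← IsCharacter.isClassFunction (isCharacter_irr ψ) ((y : G) * x) (k : G)]
    congr 1
    have hk := (commute_of_mem k.2 (h.regular_mem hD hM.1 (Finset.mem_filter.mp hx).2)).inv_left.eq
    simp only [Subgroup.coe_mul, InvMemClass.coe_inv]
    rw [mul_assoc _ _ x, hk]
    group
  have hΦζ : ∀ ζ : IrrCharacter D, classInner Φ (ζ : D → ℂ) = 0 := by
    intro ζ
    have h0 := congrArg conj (horth ζ)
    rw [classInner, sum_starChar_mul] at h0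
    simp only [map_mul, map_inv₀, map_natCast, map_sum, Complex.conj_conj, map_zero,
      mul_eq_zero, inv_eq_zero, natCast_card_ne_zero, false_or] at h0
    rw [classInner]
    simp only [Φ, Finset.sum_mul]
    rw [show (∑ y : D, ∑ x ∈ Finset.univ.filter (fun x : G => ¬ p ∣ orderOf x),
      conj ((θ : G → ℂ) x) * (ψ : G → ℂ) ((y : G) * x) * conj ((ζ : D → ℂ) y)) = 0 by
        rw [← h0]
        exact Finset.sum_congr rfl fun y _ => Finset.sum_congr rfl fun x _ => by ring, mul_zero]
  have hΦ1 : Φ 1 = 0 := by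
    rw [classFunction_expand hΦ 1]
    simp [hΦζ]
  obtain ⟨φ, hφ, hφ0⟩ := exists_minExp hM hB
  have hθ0 : blockHeight p B (θ : G → ℂ) = 0 := by
    rw [blockHeight_eq, hdeg]
    have h1 := minExp_add_defect (p := p) hθ
    have h2 := factorization_card_eq (p := p) D
    rw [hBd, hM.1.factorization_pow, Finsupp.single_eq_same] at h2
    omega
  refine regMat_not_dvd hM hB hθ hθ0 hψ ?_
  have hz : regMat hM.1 ψ θ = 0 := by
    have h1 := regMat_spec hM.1 ψ θ
    have h2 : regInner p (ψ : G → ℂ) (θ : G → ℂ) = 0 := by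
      rw [regInner_eq]
      refine mul_eq_zero_of_right _ (Eq.trans (Finset.sum_congr rfl fun x _ => ?_) hΦ1)
      rw [OneMemClass.coe_one, one_mul]
      ring
    rw [h2, mul_zero] at h1
    exact_mod_cast h1.symm
  rw [hz]
  exact dvd_zero _

end theta

open Classical in
omit [Fintype D] in
/-- The canonical character exists. -/
theorem exists_canonical (hM : IsPModular p M) (h : IsDC D) (hD : IsPGroup p D)
    {B : Set (IrrCharacter G)} (hB : IsPBlock M B) (hBd : Nat.card D = p ^ blockDefect p B) :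
    ∃ θ ∈ B, (∀ y ∈ D, (θ : G → ℂ) y = (θ : G → ℂ) 1) := by
  haveI := h.normal
  exact exists_trivial_on_pgroup hM D hD hB

omit [Fintype D] in
theorem canonical_degree (hM : IsPModular p M) (h : IsDC D) (hD : IsPGroup p D)
    {B : Set (IrrCharacter G)} (hBd : Nat.card D = p ^ blockDefect p B) {θ : IrrCharacter G}
    (hθ : θ ∈ B) (hker : ∀ y ∈ D, (θ : G → ℂ) y = (θ : G → ℂ) 1) :
    (charDegree (θ : G → ℂ)).factorization p = D.index.factorization p := by
  haveI := h.normal
  haveI : Fintype (G ⧸ D) := Fintype.ofFinite _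
  obtain ⟨ψ, hψ⟩ := exists_deflate D θ hker
  have h1 := factorization_charDegree_le ψ p
  rw [← Subgroup.index_eq_card, show charDegree (ψ : G ⧸ D → ℂ) = charDegree (θ : G → ℂ) by
    rw [hψ]; rfl] at h1
  have h2 := factorization_card_eq (p := p) D
  rw [hBd, hM.1.factorization_pow, Finsupp.single_eq_same] at h2
  have h3 := minExp_add_defect (p := p) hθ
  have h4 := minExp_le (p := p) hθ
  omega

end CfsgLib.Blocks.DC
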