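import Cfsg.Agent.Lib.Blocks.BrauerPairsConj
import Cfsg.Agent.Lib.Blocks.BrauerInduce
import Cfsg.Agent.Lib.Blocks.DefectClass

/-!
Brauer's first main theorem, and maximal Brauer pairs.
-/

namespace CfsgLib.Blocks

set_option linter.style.haveILetI false

open scoped ComplexConjugate
open Cfsg CfsgLib.Chars

universe u

variable {G : Type u} [Group G] [Fintype G] {p : ℕ} {M : Ideal AlgInt}

/-- `n` centralizes `P`, and no `p`-subgroup of `C(n)` is larger than `P`. -/
def SylowCentralized (p : ℕ) (P : Subgroup G) (n : G) : Prop :=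
  n ∈ Subgroup.centralizer (P : Set G) ∧
    ∀ S : Subgroup G, IsPGroup p S → S ≤ Subgroup.centralizer ({n} : Set G) →
      Nat.card S ≤ Nat.card P

omit [Fintype G] in
theorem le_centralizer_singleton {P : Subgroup G} {n : G}
    (hn : n ∈ Subgroup.centralizer (P : Set G)) : P ≤ Subgroup.centralizer ({n} : Set G) :=
  fun q hq => Subgroup.mem_centralizer_singleton_iff.mpr (Subgroup.mem_centralizer_iff.mp hn q hq)

omit [Fintype G] in
/-- Conjugate elements of this kind are conjugate under the normalizer. -/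
theorem sylowCentralized_fusion [Finite G] [Fact p.Prime] {P : Subgroup G} (hP : IsPGroup p P)
    {n k : G} (hn : SylowCentralized p P n) (hk : k ∈ Subgroup.centralizer (P : Set G))
    (h : IsConj n k) : ∃ m ∈ Subgroup.normalizer (P : Set G), m * n * m⁻¹ = k := by
  obtain ⟨x, rfl⟩ := isConj_iff.mp h
  set Ck := Subgroup.centralizer ({x * n * x⁻¹} : Set G) with hCk
  have hPk : P ≤ Ck := le_centralizer_singleton hk
  obtain ⟨T, hT⟩ := (hP.of_equiv (Subgroup.subgroupOfEquivOfLe hPk).symm).exists_le_sylow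
  set T₀ := (T : Subgroup Ck).map Ck.subtype with hT₀
  have hT₀p : IsPGroup p T₀ := T.isPGroup'.map _
  have hPT : P ≤ T₀ := fun q hq => ⟨⟨q, hPk hq⟩, hT hq, rfl⟩
  have hTn : T₀.map (MulAut.conj x⁻¹).toMonoidHom ≤ Subgroup.centralizer ({n} : Set G) := by
    rintro _ ⟨_, ⟨t, -, rfl⟩, rfl⟩
    have ht := Subgroup.mem_centralizer_singleton_iff.mp t.2
    rw [Subgroup.mem_centralizer_singleton_iff]
    show x⁻¹ * (t : G) * x⁻¹⁻¹ * n = n * (x⁻¹ * (t : G) * x⁻¹⁻¹)
    rw [inv_inv]
    calc x⁻¹ * (t : G) * x * n = x⁻¹ * ((t : G) * (x * n * x⁻¹)) * x := by group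
      _ = x⁻¹ * (x * n * x⁻¹ * (t : G)) * x := by rw [ht]
      _ = _ := by group
  have hcard : Nat.card T₀ ≤ Nat.card P := by
    have := hn.2 _ (hT₀p.map _) hTn
    rwa [card_map_conj] at this
  have hPT' : P = T₀ := Subgroup.eq_of_le_of_card_ge hPT hcard
  have hxP : P.map (MulAut.conj x).toMonoidHom ≤ Ck := by
    rintro _ ⟨q, hq, rfl⟩
    have hqn := Subgroup.mem_centralizer_iff.mp hn.1 q hq
    rw [hCk, Subgroup.mem_centralizer_singleton_iff]
    show x * q * x⁻¹ * (x * n * x⁻¹) = x * n * x⁻¹ * (x * q * x⁻¹)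
    calc x * q * x⁻¹ * (x * n * x⁻¹) = x * (q * n) * x⁻¹ := by group
      _ = x * (n * q) * x⁻¹ := by rw [hqn]
      _ = _ := by group
  obtain ⟨T', hT'⟩ := ((hP.map (MulAut.conj x).toMonoidHom).of_equiv
    (Subgroup.subgroupOfEquivOfLe hxP).symm).exists_le_sylow
  obtain ⟨c, hc⟩ := MulAction.exists_smul_eq Ck T' T
  refine ⟨(c : G) * x, ?_, ?_⟩
  · have hsub : P.map (MulAut.conj ((c : G) * x)).toMonoidHom ≤ P := by
      conv_rhs => rw [hPT']
      rintro _ ⟨q, hq, rfl⟩
      refine ⟨c * ⟨x * q * x⁻¹, hxP ⟨q, hq, rfl⟩⟩ * c⁻¹, ?_, ?_⟩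
      · rw [← hc]
        exact Subgroup.smul_mem_pointwise_smul (⟨x * q * x⁻¹, hxP ⟨q, hq, rfl⟩⟩ : Ck)
          (MulAut.conj c) (T' : Subgroup Ck) (hT' (show (⟨x * q * x⁻¹, hxP ⟨q, hq, rfl⟩⟩ : Ck) ∈
            (P.map (MulAut.conj x).toMonoidHom).subgroupOf Ck from ⟨q, hq, rfl⟩))
      · simp [mul_assoc]
    have he : P.map (MulAut.conj ((c : G) * x)).toMonoidHom = P :=
      Subgroup.eq_of_le_of_card_ge hsub (card_map_conj P _).ge
    refine Subgroup.mem_normalizer_iff.mpr fun g => ?_
    conv_rhs => rw [← he]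
    exact ⟨fun hg => ⟨g, hg, rfl⟩, fun ⟨q, hq, e⟩ => (MulAut.conj ((c : G) * x)).injective e ▸ hq⟩
  · have hc' := Subgroup.mem_centralizer_singleton_iff.mp c.2
    calc (c : G) * x * n * ((c : G) * x)⁻¹ = (c : G) * (x * n * x⁻¹) * (c : G)⁻¹ := by group
      _ = _ := by rw [hc', mul_inv_cancel_right]

/-- A normal `p`-subgroup of `H` centralizes the support of every block of `H`. -/
theorem mem_centralizer_of_blockCoeff (hM : IsPModular p M) {P H : Subgroup G} [Fintype H]
    (hP : IsPGroup p P) (hPH : P ≤ H) (hN : H ≤ Subgroup.normalizer (P : Set G))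
    {b : Set (IrrCharacter H)} (hb : IsPBlock M b) {n : H} (hn : blockCoeff b n ≠ 0) :
    (n : G) ∈ Subgroup.centralizer (P : Set G) := by
  haveI : (P.subgroupOf H).Normal := (Subgroup.normal_subgroupOf_iff_le_normalizer hPH).mpr hN
  by_contra h
  refine hn (blockCoeff_eq_zero_of_notMem hM (P.subgroupOf H)
    (hP.of_equiv (Subgroup.subgroupOfEquivOfLe hPH).symm) hb fun hc => h ?_)
  rw [Subgroup.mem_centralizer_iff] at hc ⊢
  exact fun q hq => congrArg Subtype.val (hc ⟨q, hPH hq⟩ hq)

/-- The unit classes of a block of the normalizer with defect group `P`. -/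
theorem sylowCentralized_of_unit (hM : IsPModular p M) {P : Subgroup G} (hP : IsPGroup p P)
    [Fintype (Subgroup.normalizer (P : Set G))]
    {b : Set (IrrCharacter (Subgroup.normalizer (P : Set G)))} (hb : IsPBlock M b)
    (hD : IsDefectGroup p M b (P.subgroupOf (Subgroup.normalizer (P : Set G))))
    {n : Subgroup.normalizer (P : Set G)} (hn : ¬ MemLocalIdeal M (blockCoeff b n)) :
    SylowCentralized p P (n : G) := by
  haveI : Fact p.Prime := ⟨hM.1⟩
  have hnC := mem_centralizer_of_blockCoeff hM hP Subgroup.le_normalizer le_rfl hb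
    (fun h => hn (h ▸ mli_zero hM))
  refine ⟨hnC, fun S hS hSC => ?_⟩
  by_contra hlt
  push Not at hlt
  obtain ⟨T, hT⟩ : ∃ T : Subgroup G, P ≤ T ∧ IsPGroup p T ∧
      T ≤ Subgroup.centralizer ({(n : G)} : Set G) ∧ Nat.card S ≤ Nat.card T := by
    set Cn := Subgroup.centralizer ({(n : G)} : Set G)
    obtain ⟨T, hT⟩ := (hP.of_equiv (Subgroup.subgroupOfEquivOfLe
      (le_centralizer_singleton hnC : P ≤ Cn)).symm).exists_le_sylow
    refine ⟨(T : Subgroup Cn).map Cn.subtype, fun q hq => ⟨⟨q, le_centralizer_singleton hnC hq⟩,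
      hT hq, rfl⟩, T.isPGroup'.map _, Subgroup.map_subtype_le _, ?_⟩
    obtain ⟨S', hS'⟩ := (hS.of_equiv (Subgroup.subgroupOfEquivOfLe hSC).symm).exists_le_sylow
    rw [Subgroup.card_map_of_injective (Subgroup.subtype_injective _), T.card_eq_multiplicity,
      ← S'.card_eq_multiplicity, ← Nat.card_congr (Subgroup.subgroupOfEquivOfLe hSC).toEquiv]
    exact Subgroup.card_le_of_le hS'
  obtain ⟨hPT, hTp, hTC, hTS⟩ := hT
  have hPT' : P < T := lt_of_le_of_ne hPT fun e => by rw [← e] at hTS; omega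
  have hgt := lt_inf_normalizer hTp hPT'
  set R := T ⊓ Subgroup.normalizer (P : Set G)
  have hRp : IsPGroup p (R.subgroupOf (Subgroup.normalizer (P : Set G))) :=
    (hTp.to_le inf_le_left).of_equiv (Subgroup.subgroupOfEquivOfLe (inf_le_right : R ≤ _)).symm
  have hRn : R.subgroupOf (Subgroup.normalizer (P : Set G)) ≤ Subgroup.centralizer ({n} : Set _) :=
    fun r hr => Subgroup.mem_centralizer_singleton_iff.mpr (Subtype.ext
      (Subgroup.mem_centralizer_singleton_iff.mp (hTC (hr : (r : G) ∈ R).1)))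
  obtain ⟨x, hx⟩ := pGroup_le_defectGroup hM hb hD hn hRp hRn
  have hc := Subgroup.card_le_of_le hx
  rw [card_map_conj, Nat.card_congr (Subgroup.subgroupOfEquivOfLe (inf_le_right : R ≤ _)).toEquiv,
    Nat.card_congr (Subgroup.subgroupOfEquivOfLe
      (Subgroup.le_normalizer : P ≤ Subgroup.normalizer (P : Set G))).toEquiv] at hc
  exact hgt.ne (Subgroup.eq_of_le_of_card_ge hgt.le hc)

/-- The lift to `G` of the idempotent of a block of the normalizer with defect group `P`. -/
theorem exists_classFunction_lift (hM : IsPModular p M) {P : Subgroup G} (hP : IsPGroup p P)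
    [Fintype (Subgroup.normalizer (P : Set G))]
    {b : Set (IrrCharacter (Subgroup.normalizer (P : Set G)))} (hb : IsPBlock M b)
    (hD : IsDefectGroup p M b (P.subgroupOf (Subgroup.normalizer (P : Set G)))) :
    ∃ F : G → ℂ, IsClassFunction G F ∧ (∀ x, MemLocalRing M (F x)) ∧
      (∀ x, F x ≠ 0 → ∃ n : G, IsConj n x ∧ SylowCentralized p P n) ∧
      ∀ k : Subgroup.normalizer (P : Set G), MemLocalIdeal M
        (brTrunc P (Subgroup.normalizer (P : Set G)) F k - blockCoeff b k) := by
  classical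
  haveI : Fact p.Prime := ⟨hM.1⟩
  have hS := fun n => sylowCentralized_of_unit hM hP hb hD (n := n)
  have hval : ∀ n n' : Subgroup.normalizer (P : Set G), ¬ MemLocalIdeal M (blockCoeff b n) →
      (n' : G) ∈ Subgroup.centralizer (P : Set G) → IsConj (n : G) (n' : G) →
        blockCoeff b n = blockCoeff b n' := by
    intro n n' h hn' hc
    obtain ⟨m, hm, hmn⟩ := sylowCentralized_fusion hP (hS n h) hn' hc
    rw [← blockCoeff_isClassFunction b n ⟨m, hm⟩]
    exact congrArg _ (Subtype.ext hmn)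
  let F : G → ℂ := fun x =>
    if h : ∃ n : Subgroup.normalizer (P : Set G), ¬ MemLocalIdeal M (blockCoeff b n) ∧ IsConj (n : G) x then
      blockCoeff b h.choose else 0
  refine ⟨F, fun x g => ?_, fun x => ?_, fun x hx => ?_, fun k => ?_⟩
  · have hc : IsConj x (g * x * g⁻¹) := isConj_iff.mpr ⟨g, rfl⟩
    simp only [F]
    by_cases h : ∃ n : Subgroup.normalizer (P : Set G), ¬ MemLocalIdeal M (blockCoeff b n) ∧ IsConj (n : G) x
    · have h' : ∃ n : Subgroup.normalizer (P : Set G), ¬ MemLocalIdeal M (blockCoeff b n) ∧ IsConj (n : G) (g * x * g⁻¹) :=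
        ⟨h.choose, h.choose_spec.1, h.choose_spec.2.trans hc⟩
      rw [dif_pos h, dif_pos h']
      exact hval _ _ h'.choose_spec.1 (hS _ h.choose_spec.1).1
        (h'.choose_spec.2.trans (h.choose_spec.2.trans hc).symm)
    · rw [dif_neg h, dif_neg fun h' => h ⟨h'.choose, h'.choose_spec.1,
        h'.choose_spec.2.trans hc.symm⟩]
  · simp only [F]
    split_ifs with h
    · exact mlr_blockCoeff hM hb _
    · exact mlr_zero hM
  · simp only [F] at hx
    split_ifs at hx with h
    · exact ⟨_, h.choose_spec.2, hS _ h.choose_spec.1⟩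
    · exact absurd rfl hx
  · rw [brTrunc]
    by_cases hkC : (k : G) ∈ Subgroup.centralizer (P : Set G)
    · rw [if_pos hkC]
      simp only [F]
      by_cases h : ∃ n : Subgroup.normalizer (P : Set G), ¬ MemLocalIdeal M (blockCoeff b n) ∧ IsConj (n : G) (k : G)
      · rw [dif_pos h, hval _ k h.choose_spec.1 hkC h.choose_spec.2, sub_self]
        exact mli_zero hM
      · rw [dif_neg h, zero_sub]
        refine mli_neg ?_
        by_contra hu
        exact h ⟨k, hu, IsConj.refl _⟩
    · rw [if_neg hkC, zero_sub]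
      refine mli_neg ?_
      by_contra hu
      exact hkC (hS k hu).1

/-- Congruence for the lift. -/
theorem brVal_lift (hM : IsPModular p M) {P : Subgroup G}
    [Fintype (Subgroup.normalizer (P : Set G))]
    {b : Set (IrrCharacter (Subgroup.normalizer (P : Set G)))} {F : G → ℂ}
    (hF : IsClassFunction G F)
    (hFt : ∀ k : Subgroup.normalizer (P : Set G), MemLocalIdeal M
        (brTrunc P (Subgroup.normalizer (P : Set G)) F k - blockCoeff b k))
    (θ : IrrCharacter (Subgroup.normalizer (P : Set G))) :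
    MemLocalIdeal M (brVal P (Subgroup.normalizer (P : Set G)) (θ : _ → ℂ) F - indic b θ) := by
  rw [← omega_blockCoeff b θ, brVal, ← omega_sub]
  refine mli_omega hM θ (fun a z => ?_) hFt
  simp only [Pi.sub_apply, brTrunc_isClassFunction le_rfl hF a z, blockCoeff_isClassFunction b a z]

/-- First main theorem: injectivity. -/
theorem firstMain_injective (hM : IsPModular p M) {P : Subgroup G} (hP : IsPGroup p P)
    [Fintype (Subgroup.normalizer (P : Set G))]
    {b b' : Set (IrrCharacter (Subgroup.normalizer (P : Set G)))} (hb : IsPBlock M b)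
    (hb' : IsPBlock M b')
    (hD' : IsDefectGroup p M b' (P.subgroupOf (Subgroup.normalizer (P : Set G))))
    {ξ ξ' : IrrCharacter (Subgroup.normalizer (P : Set G))} (hξ : ξ ∈ b) (hξ' : ξ' ∈ b')
    {B : Set (IrrCharacter G)} (hB : IsPBlock M B)
    (h : ¬ MemLocalIdeal M (brVal P (Subgroup.normalizer (P : Set G)) (ξ : _ → ℂ) (blockCoeff B)))
    (h' : ¬ MemLocalIdeal M (brVal P (Subgroup.normalizer (P : Set G)) (ξ' : _ → ℂ) (blockCoeff B))) :
    b = b' := by
  classical
  obtain ⟨χ, hχ⟩ := IsPBlock.nonempty hM hB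
  obtain ⟨F, hF, hFl, -, hFt⟩ := exists_classFunction_lift hM hP hb' hD'
  have hC := (Subgroup.centralizer_le_normalizer (P : Set G) :
    Subgroup.centralizer (P : Set G) ≤ Subgroup.normalizer (P : Set G))
  have k1 := mli_brVal_sub_omega hM hP hC le_rfl ξ hB hχ h hF hFl
  have k2 := mli_brVal_sub_omega hM hP hC le_rfl ξ' hB hχ h' hF hFl
  have k3 := brVal_lift hM hF hFt ξ
  have k4 := brVal_lift hM hF hFt ξ'
  rw [indic_of_mem hξ'] at k4
  refine IsPBlock.eq_of_mem hM hb hb' hξ ?_
  by_contra hn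
  rw [indic_of_notMem hn, sub_zero] at k3
  apply not_mli_one hM
  have := mli_sub hM (mli_sub hM k3 k1) (mli_sub hM k4 k2)
  convert this using 1
  ring

/-- First main theorem: the defect group. -/
theorem firstMain_defect (hM : IsPModular p M) {P : Subgroup G} (hP : IsPGroup p P)
    [Fintype (Subgroup.normalizer (P : Set G))]
    {b : Set (IrrCharacter (Subgroup.normalizer (P : Set G)))} (hb : IsPBlock M b)
    (hD : IsDefectGroup p M b (P.subgroupOf (Subgroup.normalizer (P : Set G))))
    {ξ : IrrCharacter (Subgroup.normalizer (P : Set G))} (hξ : ξ ∈ b)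
    {B : Set (IrrCharacter G)} (hB : IsPBlock M B)
    (h : ¬ MemLocalIdeal M (brVal P (Subgroup.normalizer (P : Set G)) (ξ : _ → ℂ) (blockCoeff B))) :
    IsDefectGroup p M B P := by
  classical
  haveI : Fact p.Prime := ⟨hM.1⟩
  obtain ⟨χ, hχ⟩ := IsPBlock.nonempty hM hB
  obtain ⟨F, hF, hFl, hFs, hFt⟩ := exists_classFunction_lift hM hP hb hD
  have hC := (Subgroup.centralizer_le_normalizer (P : Set G) :
    Subgroup.centralizer (P : Set G) ≤ Subgroup.normalizer (P : Set G))
  have k1 := mli_brVal_sub_omega hM hP hC le_rfl ξ hB hχ h hF hFl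
  have k3 := brVal_lift hM hF hFt ξ
  rw [indic_of_mem hξ] at k3
  obtain ⟨D, hDB⟩ := exists_isDefectGroup hM hB
  obtain ⟨y, hy⟩ : ∃ y : G, P.map (MulAut.conj y).toMonoidHom ≤ D := by
    obtain ⟨z, hzC, hz⟩ : ∃ z ∈ Subgroup.centralizer (P : Set G),
        ¬ MemLocalIdeal M (blockCoeff B z) := by
      by_contra hno
      push Not at hno
      refine h (mli_omega hM ξ (brTrunc_isClassFunction le_rfl (blockCoeff_isClassFunction B))
        fun k => ?_)
      rw [brTrunc]
      split_ifs with hk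
      · exact hno _ hk
      · exact mli_zero hM
    exact pGroup_le_defectGroup hM hB hDB hz hP (le_centralizer_singleton hzC)
  have hle : Nat.card D ≤ Nat.card P := by
    by_contra hlt
    apply not_mli_one hM
    have hω : MemLocalIdeal M (omega (χ : G → ℂ) F) := by
      haveI : Finite (ConjClasses G) := Finite.of_surjective _ ConjClasses.mk_surjective
      haveI : Fintype (ConjClasses G) := Fintype.ofFinite _
      rw [omega_eq_sum_centralChar (IsCharacter.isClassFunction (isCharacter_irr χ)) hF]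
      refine mli_sum hM _ fun c _ => ?_
      by_cases hc : F c.out = 0
      · rw [hc, zero_mul]; exact mli_zero hM
      refine mli_mul_left hM (hFl _) ?_
      by_contra hu
      obtain ⟨n, hn, hnS⟩ := hFs _ hc
      obtain ⟨x, hx⟩ := defectGroup_le_centralizer hM hB hDB hχ hu
      obtain ⟨w, hw⟩ := isConj_iff.mp hn
      apply hlt
      have hsub : (D.map (MulAut.conj x).toMonoidHom).map (MulAut.conj w⁻¹).toMonoidHom ≤
          Subgroup.centralizer ({n} : Set G) := by
        rintro _ ⟨_, ⟨d, hd, rfl⟩, rfl⟩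
        have hd' := Subgroup.mem_centralizer_singleton_iff.mp (hx ⟨d, hd, rfl⟩)
        rw [← hw] at hd'
        simp only [MulEquiv.coe_toMonoidHom, MulAut.conj_apply] at hd' ⊢
        rw [Subgroup.mem_centralizer_singleton_iff]
        calc w⁻¹ * (x * d * x⁻¹) * w⁻¹⁻¹ * n =
              w⁻¹ * (x * d * x⁻¹ * (w * n * w⁻¹)) * w := by group
          _ = w⁻¹ * (w * n * w⁻¹ * (x * d * x⁻¹)) * w := by rw [hd']
          _ = _ := by group
      have := hnS.2 _ (((defectGroup_isPGroup hDB).map _).map _) hsub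
      rwa [card_map_conj, card_map_conj] at this
    have := mli_sub hM (mli_add hM k1 hω) k3
    convert this using 1
    ring
  have e : P.map (MulAut.conj y).toMonoidHom = D :=
    Subgroup.eq_of_le_of_card_ge hy (by rw [card_map_conj]; exact hle)
  have := isDefectGroup_map_conj hM hDB y⁻¹
  rwa [← e, Subgroup.map_map, show ((MulAut.conj y⁻¹).toMonoidHom.comp
    (MulAut.conj y).toMonoidHom) = MonoidHom.id G from
      MonoidHom.ext fun g => by simp [mul_assoc], Subgroup.map_id] at this

end CfsgLib.Blocks
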