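import Cfsg.Agent.Lib.Blocks.LocalPairs
import Cfsg.Agent.Lib.Blocks.PPart

/-!
The inertial quotient of a maximal pair has order prime to `p`.
-/

namespace CfsgLib.Blocks

set_option linter.style.haveILetI false

open scoped ComplexConjugate
open Cfsg CfsgLib.Chars

universe u

variable {G : Type u} [Group G] [Fintype G] {p : ℕ} {M : Ideal AlgInt}

/-- A `p`-element of the stabilizer lies in `Q C(Q)`, when the block of the stabilizer has
defect group `Q`. -/
theorem pElement_mem_of_defect (hM : IsPModular p M) {Q T : Subgroup G} [Fintype T]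
    (hQ : IsPGroup p Q) {f : Set (IrrCharacter (Subgroup.centralizer (Q : Set G)))}
    (hf : IsPBlock M f) (hQT : Q ≤ T) (hCT : Subgroup.centralizer (Q : Set G) ≤ T)
    (hTN : T ≤ Subgroup.normalizer (Q : Set G))
    (hst : ∀ x ∈ T, StabilizesBlock (Subgroup.centralizer (Q : Set G)) f x)
    {F : Set (IrrCharacter T)} (hF : IsPBlock M F)
    (hcoef : ∀ t : T,
      blockCoeff F t = subgroupBlockCoeff (Subgroup.centralizer (Q : Set G)) f (t : G))
    (hD : IsDefectGroup p M F (Q.subgroupOf T)) {z : G} (hz : z ∈ T)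
    (hzp : ∃ k : ℕ, orderOf z = p ^ k) :
    z ∈ Q ⊔ Subgroup.centralizer (Q : Set G) := by
  classical
  haveI : Fact p.Prime := ⟨hM.1⟩
  obtain ⟨η, hη⟩ := IsPBlock.nonempty hM hf
  obtain ⟨m, hm⟩ := hzp
  have hnorm : ∀ y ∈ T, y ∈ Subgroup.normalizer ((Subgroup.centralizer (Q : Set G) : Subgroup G) : Set G) :=
    fun y hy => mem_normalizer_centralizer (hTN hy)
  -- the action of `z` on the classes of the centralizer
  set Z := Subgroup.zpowers z with hZ
  have hZp : IsPGroup p Z := IsPGroup.of_card (n := m) (by rw [hZ, Nat.card_zpowers, hm])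
  have hZT : Z ≤ T := (Subgroup.zpowers_le).mpr hz
  letI : MulAction Z (ConjClasses (Subgroup.centralizer (Q : Set G))) :=
    { smul := fun s q => ConjClasses.map
        (normConj _ (hnorm s (hZT s.2))).toMonoidHom q
      one_smul := fun q => by
        induction q using Quotient.inductionOn with
        | h a => exact congrArg ConjClasses.mk (Subtype.ext (by simp [normConj]))
      mul_smul := fun s t q => by
        induction q using Quotient.inductionOn with
        | h a => exact congrArg ConjClasses.mk (Subtype.ext (by simp [normConj, mul_assoc])) }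
  haveI : Finite (ConjClasses (Subgroup.centralizer (Q : Set G))) :=
    Finite.of_surjective _ ConjClasses.mk_surjective
  haveI : Fintype (ConjClasses (Subgroup.centralizer (Q : Set G))) := Fintype.ofFinite _
  set w : IrrCharacter (Subgroup.centralizer (Q : Set G)) →
      ConjClasses (Subgroup.centralizer (Q : Set G)) → ℂ :=
    fun θ q => centralChar (θ : Subgroup.centralizer (Q : Set G) → ℂ) q.out with hw
  set a : ConjClasses (Subgroup.centralizer (Q : Set G)) → ℂ := fun q => blockCoeff f q.out with ha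
  have hout : ∀ (b : Subgroup.centralizer (Q : Set G)) (φ : Subgroup.centralizer (Q : Set G) → ℂ),
      IsClassFunction _ φ → φ (ConjClasses.mk b).out = φ b := by
    intro b φ hφ
    obtain ⟨u, hu⟩ := isConj_iff.mp (ConjClasses.mk_eq_mk_iff_isConj.mp (Quotient.out_eq (ConjClasses.mk b)))
    rw [← hφ _ u]
    exact congrArg φ hu
  have hcc : ∀ θ : IrrCharacter (Subgroup.centralizer (Q : Set G)),
      IsClassFunction _ (fun c => centralChar (θ : Subgroup.centralizer (Q : Set G) → ℂ) c) := by
    intro θ c u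
    have hcl := IsCharacter.isClassFunction (isCharacter_irr θ)
    simp only [← omega_classInd hcl]
    congr 1
    funext y
    simp only [classInd]
    have hc : IsConj c (u * c * u⁻¹) := isConj_iff.mpr ⟨u, rfl⟩
    congr 1
    exact propext ⟨fun h => hc.trans h, fun h => hc.symm.trans h⟩
  have hequiv : ∀ (s : Z) (q : ConjClasses (Subgroup.centralizer (Q : Set G))),
      a (s • q) = a q ∧ MemLocalIdeal M (w η (s • q) - w η q) := by
    intro s q
    induction q using Quotient.inductionOn with
    | h b =>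
      set φ := normConj (Subgroup.centralizer (Q : Set G)) (hnorm s (hZT s.2))
      obtain ⟨hs', hfix⟩ := (stabilizesBlock_iff hM _ hf).mp (hst s (hZT s.2))
      have e : s • (ConjClasses.mk b) = ConjClasses.mk (φ b) := rfl
      show a (s • ConjClasses.mk b) = a (ConjClasses.mk b) ∧
        MemLocalIdeal M (w η (s • ConjClasses.mk b) - w η (ConjClasses.mk b))
      rw [e]
      simp only [ha, hw]
      rw [hout _ _ (blockCoeff_isClassFunction f), hout _ _ (blockCoeff_isClassFunction f),
        hout _ _ (hcc η), hout _ _ (hcc η)]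
      refine ⟨?_, ?_⟩
      · conv_lhs => rw [← hfix]
        exact blockCoeff_mapBlock φ f b
      · have hη' : pullIrr φ η ∈ f := by
          have : η ∈ mapBlock φ f := by rw [hfix]; exact hη
          exact this
        rw [← show centralChar (pullIrr φ η : Subgroup.centralizer (Q : Set G) → ℂ) b =
          centralChar (η : Subgroup.centralizer (Q : Set G) → ℂ) (φ b) from
            centralChar_comp_equiv φ.symm η b]
        exact (IsPBlock.sameBlock hM hf hη' hη) b
  obtain ⟨q, hfix, hne⟩ : ∃ q : ConjClasses (Subgroup.centralizer (Q : Set G)),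
      (∀ s : Z, s • q = q) ∧ ¬ MemLocalIdeal M (a q) := by
    by_contra hno
    push Not at hno
    apply not_mli_one hM
    have h1 : ∑ q, a q * w η q = 1 := by
      rw [← indic_of_mem hη, ← omega_blockCoeff f η,
        omega_eq_sum_centralChar (IsCharacter.isClassFunction (isCharacter_irr η))
          (blockCoeff_isClassFunction f)]
    let rep : ConjClasses (Subgroup.centralizer (Q : Set G)) →
        ConjClasses (Subgroup.centralizer (Q : Set G)) :=
      fun q => (Quotient.mk (MulAction.orbitRel Z (ConjClasses (Subgroup.centralizer (Q : Set G)))) q).out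
    have hl : ∀ q, MemLocalRing M (a q) := fun q => mlr_blockCoeff hM hf _
    have hlw : ∀ q, MemLocalRing M (w η q) := fun q => mlr_centralChar hM η _
    have hdiff : ∀ q, MemLocalIdeal M (a q * w η q - a q * w η (rep q)) := by
      intro q
      rw [← mul_sub]
      refine mli_mul_left hM (hl q) ?_
      obtain ⟨s, hs⟩ : rep q ∈ MulAction.orbit Z q :=
        MulAction.orbitRel_apply.mp (Quotient.exact (Quotient.out_eq _))
      have := mli_neg ((hequiv s q).2)
      rw [show s • q = rep q from hs, neg_sub] at this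
      exact this
    have h2 : MemLocalIdeal M (∑ q, a q * w η (rep q)) := by
      refine mli_sum_of_no_fixed hM hZp (fun s q => ?_) (fun q => mlr_mul hM (hl q) (hlw _))
        fun q hq => mli_mul_right hM (hno q hq) (hlw _)
      rw [(hequiv s q).1, show rep (s • q) = rep q from
        congrArg Quotient.out (Quotient.sound (MulAction.orbitRel_apply.mpr ⟨s, rfl⟩))]
    have h3 := mli_add hM (mli_sum hM Finset.univ (f := fun q => a q * w η q - a q * w η (rep q))
      fun q _ => hdiff q) h2
    rwa [Finset.sum_sub_distrib, sub_add_cancel, h1] at h3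
  obtain ⟨c, rfl⟩ := ConjClasses.mk_surjective q
  simp only [ha] at hne
  rw [hout _ _ (blockCoeff_isClassFunction f)] at hne
  obtain ⟨k, hk⟩ := isConj_iff.mp (ConjClasses.mk_eq_mk_iff_isConj.mp
    (hfix ⟨z, Subgroup.mem_zpowers z⟩))
  -- `k z` centralizes `c`
  have hcent : ((k : G) * z) * (c : G) = (c : G) * ((k : G) * z) := by
    have h1 : (k : G) * (z * (c : G) * z⁻¹) * (k : G)⁻¹ = (c : G) := congrArg Subtype.val hk
    calc (k : G) * z * (c : G) = (k : G) * (z * (c : G) * z⁻¹) * (k : G)⁻¹ * ((k : G) * z) := by group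
      _ = _ := by rw [h1]
  set t : T := ⟨(k : G) * z, mul_mem (hCT k.2) hz⟩
  obtain ⟨u, v, huv, hcomm, ⟨j, hu⟩, hv⟩ :=
    exists_pPart hM.1 (⟨t, Subgroup.mem_centralizer_singleton_iff.mpr (Subtype.ext hcent)⟩ :
      Subgroup.centralizer ({(⟨(c : G), hCT c.2⟩ : T)} : Set T))
  -- the `p`-part lies in `Q`
  haveI : (Q.subgroupOf T).Normal := (Subgroup.normal_subgroupOf_iff_le_normalizer hQT).mpr hTN
  have hvals : (((u : Subgroup.centralizer ({(⟨(c : G), hCT c.2⟩ : T)} : Set T)) : T) : G) ∈ Q := by
    have hUp : IsPGroup p (Subgroup.zpowers ((u : Subgroup.centralizer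
        ({(⟨(c : G), hCT c.2⟩ : T)} : Set T)) : T)) :=
      IsPGroup.of_card (n := j) (by rw [Nat.card_zpowers, Subgroup.orderOf_coe, hu])
    have hF1 : ¬ MemLocalIdeal M (blockCoeff F ⟨(c : G), hCT c.2⟩) := by
      rw [hcoef, sbc_apply]; exact hne
    obtain ⟨x, hx⟩ := pGroup_le_defectGroup hM hF hD hF1 hUp (by
      rw [Subgroup.zpowers_le]; exact u.2)
    have h1 := hx ⟨_, Subgroup.mem_zpowers _, rfl⟩
    have h2 : x⁻¹ * (x * ((u : Subgroup.centralizer ({(⟨(c : G), hCT c.2⟩ : T)} : Set T)) : T) * x⁻¹) *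
        x⁻¹⁻¹ ∈ Q.subgroupOf T := Subgroup.Normal.conj_mem inferInstance _ h1 x⁻¹
    exact Subgroup.mem_subgroupOf.mp (by simpa [mul_assoc] using h2)
  -- the regular part lies in `Q C(Q)`
  set L := Q ⊔ Subgroup.centralizer (Q : Set G) with hL
  have hLT : L ≤ T := sup_le hQT hCT
  haveI : (L.subgroupOf T).Normal := by
    refine (Subgroup.normal_subgroupOf_iff_le_normalizer hLT).mpr fun y hy => ?_
    have hmap : ∀ A : Subgroup G, y ∈ Subgroup.normalizer (A : Set G) →
        A.map (MulAut.conj y).toMonoidHom = A := fun A hA => by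
      ext g
      constructor
      · rintro ⟨q, hq, rfl⟩; exact (Subgroup.mem_normalizer_iff.mp hA q).mp hq
      · intro hg
        refine ⟨y⁻¹ * g * y, ?_, by simp [mul_assoc]⟩
        have := (Subgroup.mem_normalizer_iff.mp (inv_mem hA) g).mp hg
        simpa using this
    have hLm : L.map (MulAut.conj y).toMonoidHom = L := by
      rw [hL, Subgroup.map_sup, hmap Q (hTN hy), hmap _ (hnorm y hy)]
    refine Subgroup.mem_normalizer_iff.mpr fun g => ?_
    conv_rhs => rw [← hLm]
    exact ⟨fun hg => ⟨g, hg, rfl⟩, fun ⟨q, hq, e⟩ => (MulAut.conj y).injective e ▸ hq⟩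
  let π := QuotientGroup.mk' (L.subgroupOf T)
  have hkL : π ⟨(k : G), hCT k.2⟩ = 1 :=
    (QuotientGroup.eq_one_iff _).mpr (le_sup_right (a := Q) k.2 : (k : G) ∈ L)
  have huL : π ((u : Subgroup.centralizer ({(⟨(c : G), hCT c.2⟩ : T)} : Set T)) : T) = 1 :=
    (QuotientGroup.eq_one_iff _).mpr ((le_sup_left : Q ≤ L) hvals)
  have hzv : π ⟨z, hz⟩ = π ((v : Subgroup.centralizer ({(⟨(c : G), hCT c.2⟩ : T)} : Set T)) : T) := by
    have e := congrArg (fun y : Subgroup.centralizer ({(⟨(c : G), hCT c.2⟩ : T)} : Set T) => π (y : T)) huv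
    simp only [Subgroup.coe_mul, map_mul, huL, one_mul] at e
    rw [e, show t = ⟨(k : G), hCT k.2⟩ * ⟨z, hz⟩ from rfl, map_mul, hkL, one_mul]
  have h1 : orderOf (π ⟨z, hz⟩) ∣ p ^ m := by
    rw [← hm]
    exact (orderOf_map_dvd π _).trans (by rw [← Subgroup.orderOf_coe])
  have h2 : orderOf (π ⟨z, hz⟩) ∣ orderOf v := by
    rw [hzv]
    exact (orderOf_map_dvd π _).trans (by rw [Subgroup.orderOf_coe])
  have h3 : π ⟨z, hz⟩ = 1 := orderOf_eq_one_iff.mp (Nat.eq_one_of_dvd_coprimes
    (Nat.Coprime.pow_left m (hM.1.coprime_iff_not_dvd.mpr hv)) h1 h2)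
  exact ((QuotientGroup.eq_one_iff (N := L.subgroupOf T) (⟨z, hz⟩ : T)).mp h3 : z ∈ L)

/-- The block of the stabilizer of a maximal pair has that pair's subgroup as defect group. -/
theorem maximal_stab_defect (hM : IsPModular p M) {B : Set (IrrCharacter G)} {P T : Subgroup G}
    [Fintype T] {e : Set (IrrCharacter (Subgroup.centralizer (P : Set G)))}
    (hmax : IsMaximalBrauerPair p M B P e)
    (hT : ∀ y, y ∈ T ↔ y ∈ Subgroup.normalizer (P : Set G) ∧
      StabilizesBlock (Subgroup.centralizer (P : Set G)) e y)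
    {F : Set (IrrCharacter T)} (hF : IsPBlock M F)
    (hcoef : ∀ t : T,
      blockCoeff F t = subgroupBlockCoeff (Subgroup.centralizer (P : Set G)) e (t : G)) :
    IsDefectGroup p M F (P.subgroupOf T) := by
  classical
  obtain ⟨D, hD, hge⟩ := stab_defect_ge hM hmax.1.1 Relation.ReflTransGen.refl hT hF hcoef
  rw [inf_eq_left.mpr (Subgroup.le_normalizer : P ≤ _)] at hge
  obtain ⟨c, hc, S, hS⟩ := id hD
  set R := D.map T.subtype with hR
  have hPR : P ≤ R := fun q hq =>
    ⟨⟨q, (hT q).mpr (le_pairStab hM hmax.1.1.2 hq)⟩, hge hq, rfl⟩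
  have hcC : (c : G) ∈ Subgroup.centralizer (R : Set G) := by
    rw [Subgroup.mem_centralizer_iff]
    rintro _ ⟨d, hd, rfl⟩
    exact congrArg Subtype.val (Subgroup.mem_centralizer_singleton_iff.mp
      ((hS ▸ Subgroup.map_subtype_le _ : D ≤ _) hd))
  obtain ⟨g, hg⟩ := exists_pair_above_of_unit hM hmax.1.1.2
    ((defectGroup_isPGroup hD).map T.subtype) hPR
    (fun y hy => ((hT y).mp (Subgroup.map_subtype_le _ hy)).1)
    (fun y hy => ((hT y).mp (Subgroup.map_subtype_le _ hy)).2) hcC (by rw [← hcoef]; exact hc.2.1)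
  have hRP : R = P := hmax.2 R g ((brauerPairOf_iff_normal hM hg hmax.1.2.1).mpr hmax.1)
    (Relation.ReflTransGen.single hg)
  have : D = P.subgroupOf T := by
    refine le_antisymm (fun d hd => ?_) hge
    exact hRP.le (show (d : G) ∈ R from ⟨d, hd, rfl⟩)
  rwa [← this]

/-- A `p`-element stabilizing a maximal pair lies in `P C(P)`. -/
theorem maximal_pElement_mem (hM : IsPModular p M) {B : Set (IrrCharacter G)} {P : Subgroup G}
    {e : Set (IrrCharacter (Subgroup.centralizer (P : Set G)))}
    (hmax : IsMaximalBrauerPair p M B P e) {z : G} (hzN : z ∈ Subgroup.normalizer (P : Set G))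
    (hze : StabilizesBlock (Subgroup.centralizer (P : Set G)) e z)
    (hzp : ∃ k : ℕ, orderOf z = p ^ k) : z ∈ P ⊔ Subgroup.centralizer (P : Set G) := by
  classical
  have he := hmax.1.1.2
  set T := pairStab hM he with hTdef
  haveI : Fintype T := Fintype.ofFinite _
  have hQT : P ≤ T := le_pairStab hM he
  have hCT : Subgroup.centralizer (P : Set G) ≤ T := centralizer_le_pairStab hM he
  obtain ⟨F, hF, hcoef⟩ := exists_stab_block hM hmax.1.1.1 he hQT hCT (fun y hy => hy.1)
    (fun y hy => hy.2)
  exact pElement_mem_of_defect hM hmax.1.1.1 he hQT hCT (fun y hy => hy.1) (fun y hy => hy.2) hF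
    hcoef (maximal_stab_defect hM hmax (fun y => Iff.rfl) hF hcoef) ⟨hzN, hze⟩ hzp

end CfsgLib.Blocks
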