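import Cfsg.Agent.Lib.Blocks.StabBlock

/-!
Defect groups of the blocks in pairs below a maximal pair.
-/

namespace CfsgLib.Blocks

set_option linter.style.haveILetI false

open scoped ComplexConjugate
open Cfsg CfsgLib.Chars

universe u

variable {G : Type u} [Group G] [Fintype G] {p : ℕ} {M : Ideal AlgInt}

theorem mem_pairStab_iff (hM : IsPModular p M) {Q : Subgroup G}
    {f : Set (IrrCharacter (Subgroup.centralizer (Q : Set G)))} (hf : IsPBlock M f) {y : G} :
    y ∈ pairStab hM hf ↔ pairConj y ⟨Q, f⟩ = (⟨Q, f⟩ : BrauerPairIdx G) := by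
  constructor
  · exact fun h => (stabilizesBlock_iff_pairConj hM hf h.1).mp h.2
  · intro h
    have hQ : Q.map (MulAut.conj y).toMonoidHom = Q := congrArg Sigma.fst h
    have hy : y ∈ Subgroup.normalizer (Q : Set G) := by
      refine Subgroup.mem_normalizer_iff.mpr fun g => ?_
      conv_rhs => rw [← hQ]
      exact ⟨fun hg => ⟨g, hg, rfl⟩, fun ⟨q, hq, e⟩ => (MulAut.conj y).injective e ▸ hq⟩
    exact ⟨hy, (stabilizesBlock_iff_pairConj hM hf hy).mpr h⟩

/-- Stabilizers of conjugate pairs are conjugate. -/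
theorem mem_pairStab_conj_iff (hM : IsPModular p M) {Q : Subgroup G}
    {f : Set (IrrCharacter (Subgroup.centralizer (Q : Set G)))} (hf : IsPBlock M f) (x y : G)
    (hf' : IsPBlock M (conjBlock Q x f)) :
    x * y * x⁻¹ ∈ pairStab hM hf' ↔ y ∈ pairStab hM hf := by
  rw [mem_pairStab_iff, mem_pairStab_iff]
  show pairConj (x * y * x⁻¹) (pairConj x ⟨Q, f⟩) = pairConj x ⟨Q, f⟩ ↔ _
  rw [← pairConj_mul, inv_mul_cancel_right, pairConj_mul]
  exact ⟨fun h => by
    have := congrArg (pairConj x⁻¹) h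
    rwa [← pairConj_mul, ← pairConj_mul, ← pairConj_mul, inv_mul_cancel, one_mul, pairConj_one] at this,
    fun h => by rw [h]⟩

omit [Fintype G] in
theorem exists_defect_ge {H : Type u} [Group H] [Fintype H] (hM : IsPModular p M)
    {b : Set (IrrCharacter H)} (hb : IsPBlock M b) {S : Subgroup H} (hS : IsPGroup p S) {z : H}
    (hzS : z ∈ Subgroup.centralizer (S : Set H)) (hz : ¬ MemLocalIdeal M (blockCoeff b z)) :
    ∃ D : Subgroup H, IsDefectGroup p M b D ∧ S ≤ D := by
  obtain ⟨D₀, hD₀⟩ := exists_isDefectGroup hM hb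
  obtain ⟨x, hx⟩ := pGroup_le_defectGroup hM hb hD₀ hz hS (le_centralizer_singleton hzS)
  refine ⟨_, isDefectGroup_map_conj hM hD₀ x⁻¹, fun s hs => ?_⟩
  exact ⟨x * s * x⁻¹, hx ⟨s, hs, rfl⟩, by simp [mul_assoc]⟩

/-- The defect groups of the block of a pair below a pair on `P` reach `P ∩ C(Q)`. -/
theorem defect_ge_of_le (hM : IsPModular p M) {P Q : Subgroup G}
    {e : Set (IrrCharacter (Subgroup.centralizer (P : Set G)))}
    (hPe : IsBrauerPair p M P e)
    {f : Set (IrrCharacter (Subgroup.centralizer (Q : Set G)))} (hle : SubpairLE p M Q f P e) :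
    ∃ D : Subgroup (Subgroup.centralizer (Q : Set G)), IsDefectGroup p M f D ∧
      (P ⊓ Subgroup.centralizer (Q : Set G)).subgroupOf (Subgroup.centralizer (Q : Set G)) ≤ D := by
  classical
  have hQP : Q ≤ P := SubpairLE.le hle
  set S := P ⊓ Subgroup.centralizer (Q : Set G) with hS
  have hRP : Q ⊔ S ≤ P := sup_le hQP inf_le_left
  have hRN : Q ⊔ S ≤ Subgroup.normalizer (Q : Set G) :=
    sup_le Subgroup.le_normalizer (inf_le_right.trans (Subgroup.centralizer_le_normalizer (Q : Set G)))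
  obtain ⟨g, hg⟩ := exists_subpair_below hM hPe _ hRP
  have hN := normalSubpair_of_le hM hPe hle hg le_sup_left hRN
  obtain ⟨z, hzC, hz⟩ := exists_unit_of_normalSubpair hM hN
  have hzK : z ∈ Subgroup.centralizer (Q : Set G) := Subgroup.centralizer_le (show (Q : Set G) ⊆ ((Q ⊔ S : Subgroup G) : Set G) from (le_sup_left : Q ≤ Q ⊔ S)) hzC
  rw [show z = ((⟨z, hzK⟩ : Subgroup.centralizer (Q : Set G)) : G) from rfl, sbc_apply] at hz
  refine exists_defect_ge hM (SubpairLE.left_block hle hPe).2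
    ((hPe.1.to_le inf_le_left).of_equiv (Subgroup.subgroupOfEquivOfLe inf_le_right).symm) ?_ hz
  rw [Subgroup.mem_centralizer_iff]
  intro s hs
  exact Subtype.ext (Subgroup.mem_centralizer_iff.mp hzC (s : G)
    (show (s : G) ∈ Q ⊔ S from (le_sup_right : S ≤ Q ⊔ S) hs))

/-- Some conjugate of a pair below a maximal one is fully centralized. -/
theorem exists_fullyCentralized (hM : IsPModular p M) {B : Set (IrrCharacter G)} {P Q : Subgroup G}
    {e : Set (IrrCharacter (Subgroup.centralizer (P : Set G)))}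
    (hmax : IsMaximalBrauerPair p M B P e)
    {f : Set (IrrCharacter (Subgroup.centralizer (Q : Set G)))} (hQf : IsBrauerPairOf p M B Q f) :
    ∃ x : G, SubpairLE p M (Q.map (MulAut.conj x).toMonoidHom) (conjBlock Q x f) P e ∧
      IsDefectGroup p M (conjBlock Q x f)
        ((P ⊓ Subgroup.centralizer ((Q.map (MulAut.conj x).toMonoidHom) : Set G)).subgroupOf
          (Subgroup.centralizer ((Q.map (MulAut.conj x).toMonoidHom) : Set G))) := by
  classical
  haveI : Fact p.Prime := ⟨hM.1⟩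
  obtain ⟨⟨hQ, hf⟩, hB, -⟩ := id hQf
  obtain ⟨D, hD⟩ := exists_isDefectGroup hM hf
  obtain ⟨c, hc, T, hT⟩ := id hD
  set DG := D.map (Subgroup.centralizer (Q : Set G)).subtype with hDG
  have hRN : Q ⊔ DG ≤ Subgroup.normalizer (Q : Set G) :=
    sup_le Subgroup.le_normalizer
      ((Subgroup.map_subtype_le _).trans (Subgroup.centralizer_le_normalizer (Q : Set G)))
  have hRp : IsPGroup p (Q ⊔ DG : Subgroup G) :=
    hQ.to_sup_of_normal_left' ((defectGroup_isPGroup hD).map _)
      ((Subgroup.map_subtype_le _).trans (Subgroup.centralizer_le_normalizer (Q : Set G)))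
  have hst : ∀ x ∈ Q ⊔ DG, StabilizesBlock (Subgroup.centralizer (Q : Set G)) f x := fun x hx =>
    ((sup_le (le_pairStab hM hf) ((Subgroup.map_subtype_le _).trans
      (centralizer_le_pairStab hM hf)) : Q ⊔ DG ≤ pairStab hM hf) hx).2
  have hcC : (c : G) ∈ Subgroup.centralizer ((Q ⊔ DG : Subgroup G) : Set G) := by
    refine Subgroup.le_centralizer_iff.mp (sup_le ?_ ?_) (Subgroup.mem_zpowers (c : G))
    · intro q hq
      rw [Subgroup.mem_centralizer_iff]
      rintro _ ⟨k, rfl⟩
      exact ((show Commute q (c : G) from Subgroup.mem_centralizer_iff.mp c.2 q hq).zpow_right k).symm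
    · rintro _ ⟨d, hd, rfl⟩
      rw [Subgroup.mem_centralizer_iff]
      rintro _ ⟨k, rfl⟩
      have hdc : d * c = c * d := Subgroup.mem_centralizer_singleton_iff.mp
        ((hT ▸ Subgroup.map_subtype_le _ : D ≤ _) hd)
      exact ((show Commute (d : G) (c : G) from congrArg Subtype.val hdc).zpow_right k).symm
  obtain ⟨g, hg⟩ := exists_pair_above_of_unit hM hf hRp le_sup_left hRN hst hcC
    (by rw [sbc_apply]; exact hc.2.1)
  obtain ⟨x, hx⟩ := exists_conj_le_maximal hM hmax ((brauerPairOf_iff_normal hM hg hB).mpr hQf)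
  have hQx : SubpairLE p M (Q.map (MulAut.conj x).toMonoidHom) (conjBlock Q x f) P e :=
    Relation.ReflTransGen.head (show NormalSubpairRel p M
      ⟨_, conjBlock Q x f⟩ ⟨_, conjBlock _ x g⟩ from isNormalSubpair_conj hM hg x) hx
  refine ⟨x, hQx, ?_⟩
  have hf' := (SubpairLE.left_block hQx hmax.1.1).2
  have hD' : IsDefectGroup p M (conjBlock Q x f)
      (D.map (cEquiv (centralizer_conj_iff Q x)).toMonoidHom) := by
    rw [conjBlock_eq_map]; exact isDefectGroup_mapBlock _ hD
  obtain ⟨D', hD₂, hge⟩ := defect_ge_of_le hM hmax.1.1 hQx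
  have hle : D.map (cEquiv (centralizer_conj_iff Q x)).toMonoidHom ≤
      (P ⊓ Subgroup.centralizer ((Q.map (MulAut.conj x).toMonoidHom) : Set G)).subgroupOf
        (Subgroup.centralizer ((Q.map (MulAut.conj x).toMonoidHom) : Set G)) := by
    rintro _ ⟨d, hd, rfl⟩
    refine ⟨SubpairLE.le hx ⟨(d : G), (le_sup_right : DG ≤ Q ⊔ DG) ⟨d, hd, rfl⟩, rfl⟩, ?_⟩
    exact (cEquiv (centralizer_conj_iff Q x) d).2
  have hcard : Nat.card D' ≤ Nat.card (D.map (cEquiv (centralizer_conj_iff Q x)).toMonoidHom) :=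
    ((card_defectGroup hM hf' hD₂).trans (card_defectGroup hM hf' hD').symm).le
  rwa [← Subgroup.eq_of_le_of_card_ge hle ((Subgroup.card_le_of_le hge).trans hcard)]

/-- The defect groups of the block of the stabilizer of a pair reach `P ∩ N(Q)`. -/
theorem stab_defect_ge (hM : IsPModular p M) {P Q T : Subgroup G} [Fintype T]
    {e : Set (IrrCharacter (Subgroup.centralizer (P : Set G)))}
    (hPe : IsBrauerPair p M P e)
    {f : Set (IrrCharacter (Subgroup.centralizer (Q : Set G)))} (hle : SubpairLE p M Q f P e)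
    (hT : ∀ y, y ∈ T ↔ y ∈ Subgroup.normalizer (Q : Set G) ∧
      StabilizesBlock (Subgroup.centralizer (Q : Set G)) f y)
    {F : Set (IrrCharacter T)} (hF : IsPBlock M F)
    (hcoef : ∀ t : T,
      blockCoeff F t = subgroupBlockCoeff (Subgroup.centralizer (Q : Set G)) f (t : G)) :
    ∃ D : Subgroup T, IsDefectGroup p M F D ∧
      (P ⊓ Subgroup.normalizer (Q : Set G)).subgroupOf T ≤ D := by
  classical
  set R := P ⊓ Subgroup.normalizer (Q : Set G) with hR
  obtain ⟨g, hg⟩ := exists_subpair_below hM hPe R inf_le_left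
  have hQR : Q ≤ R := le_inf (SubpairLE.le hle) Subgroup.le_normalizer
  have hN := normalSubpair_of_le hM hPe hle hg hQR inf_le_right
  have hRT : R ≤ T := fun y hy => (hT y).mpr ⟨hy.2, hN.2.2.2.2.1 y hy⟩
  obtain ⟨z, hzC, hz⟩ := exists_unit_of_normalSubpair hM hN
  have hzK : z ∈ Subgroup.centralizer (Q : Set G) := Subgroup.centralizer_le hQR hzC
  have hf := (SubpairLE.left_block hle hPe).2
  have hzT : z ∈ T := (hT z).mpr (centralizer_le_pairStab hM hf hzK)
  refine exists_defect_ge hM hF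
    ((hPe.1.to_le inf_le_left).of_equiv (Subgroup.subgroupOfEquivOfLe hRT).symm)
    (z := ⟨z, hzT⟩) ?_ (by rw [hcoef]; exact hz)
  rw [Subgroup.mem_centralizer_iff]
  intro s hs
  exact Subtype.ext (Subgroup.mem_centralizer_iff.mp hzC (s : G) hs)

/-- Some conjugate of a pair below a maximal one is fully normalized. -/
theorem exists_fullyNormalized (hM : IsPModular p M) {B : Set (IrrCharacter G)}
    {P Q T : Subgroup G} [Fintype T]
    {e : Set (IrrCharacter (Subgroup.centralizer (P : Set G)))}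
    (hmax : IsMaximalBrauerPair p M B P e)
    {f : Set (IrrCharacter (Subgroup.centralizer (Q : Set G)))} (hQf : IsBrauerPairOf p M B Q f)
    (hT : ∀ y, y ∈ T ↔ y ∈ Subgroup.normalizer (Q : Set G) ∧
      StabilizesBlock (Subgroup.centralizer (Q : Set G)) f y)
    {F : Set (IrrCharacter T)} (hF : IsPBlock M F)
    (hcoef : ∀ t : T,
      blockCoeff F t = subgroupBlockCoeff (Subgroup.centralizer (Q : Set G)) f (t : G)) :
    ∃ x : G, SubpairLE p M (Q.map (MulAut.conj x).toMonoidHom) (conjBlock Q x f) P e ∧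
      ∀ T' : Subgroup G,
        (∀ y : G, y ∈ T' ↔ y ∈ Subgroup.normalizer ((Q.map (MulAut.conj x).toMonoidHom) : Set G) ∧
          StabilizesBlock (Subgroup.centralizer ((Q.map (MulAut.conj x).toMonoidHom) : Set G))
            (conjBlock Q x f) y) →
        ∃ F' : Set (IrrCharacter T'), IsPBlock M F' ∧
          (∀ t : T', blockCoeff F' t = subgroupBlockCoeff
            (Subgroup.centralizer ((Q.map (MulAut.conj x).toMonoidHom) : Set G))
            (conjBlock Q x f) (t : G)) ∧
          IsDefectGroup p M F'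
            ((P ⊓ Subgroup.normalizer ((Q.map (MulAut.conj x).toMonoidHom) : Set G)).subgroupOf T') := by
  classical
  haveI : Fact p.Prime := ⟨hM.1⟩
  obtain ⟨⟨hQ, hf⟩, hB, -⟩ := id hQf
  have hQT : Q ≤ T := fun q hq => (hT q).mpr (le_pairStab hM hf hq)
  obtain ⟨D, hD⟩ := exists_isDefectGroup hM hF
  haveI : (Q.subgroupOf T).Normal :=
    (Subgroup.normal_subgroupOf_iff_le_normalizer hQT).mpr fun y hy => ((hT y).mp hy).1
  have hQD := normal_pGroup_le_defectGroup hM (Q.subgroupOf T)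
    (hQ.of_equiv (Subgroup.subgroupOfEquivOfLe hQT).symm) hF hD
  obtain ⟨c, hc, S, hS⟩ := id hD
  set R := D.map T.subtype with hR
  have hQR : Q ≤ R := fun q hq => ⟨⟨q, hQT hq⟩, hQD hq, rfl⟩
  have hcC : (c : G) ∈ Subgroup.centralizer (R : Set G) := by
    rw [Subgroup.mem_centralizer_iff]
    rintro _ ⟨d, hd, rfl⟩
    exact congrArg Subtype.val (Subgroup.mem_centralizer_singleton_iff.mp
      ((hS ▸ Subgroup.map_subtype_le _ : D ≤ _) hd))
  obtain ⟨g, hg⟩ := exists_pair_above_of_unit hM hf ((defectGroup_isPGroup hD).map T.subtype) hQR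
    (fun y hy => ((hT y).mp (Subgroup.map_subtype_le _ hy)).1)
    (fun y hy => ((hT y).mp (Subgroup.map_subtype_le _ hy)).2) hcC (by rw [← hcoef]; exact hc.2.1)
  obtain ⟨x, hx⟩ := exists_conj_le_maximal hM hmax ((brauerPairOf_iff_normal hM hg hB).mpr hQf)
  have hQx : SubpairLE p M (Q.map (MulAut.conj x).toMonoidHom) (conjBlock Q x f) P e :=
    Relation.ReflTransGen.head (show NormalSubpairRel p M
      ⟨_, conjBlock Q x f⟩ ⟨_, conjBlock _ x g⟩ from isNormalSubpair_conj hM hg x) hx
  refine ⟨x, hQx, fun T' hT' => ?_⟩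
  haveI : Fintype T' := Fintype.ofFinite _
  have hf' := (SubpairLE.left_block hQx hmax.1.1).2
  have hiff : ∀ y, x * y * x⁻¹ ∈ T' ↔ y ∈ T := fun y => by
    rw [hT', hT]
    exact mem_pairStab_conj_iff hM hf x y hf'
  have hF' := isPBlock_mapBlock hM (cEquiv hiff) hF
  have hcoef' : ∀ t : T', blockCoeff (mapBlock (cEquiv hiff) F) t = subgroupBlockCoeff
      (Subgroup.centralizer ((Q.map (MulAut.conj x).toMonoidHom) : Set G))
      (conjBlock Q x f) (t : G) := by
    intro t
    obtain ⟨s, rfl⟩ := (cEquiv hiff).surjective t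
    rw [blockCoeff_mapBlock, hcoef]
    exact (sbc_conjBlock Q x f (s : G)).symm
  refine ⟨_, hF', hcoef', ?_⟩
  have hD' := isDefectGroup_mapBlock (cEquiv hiff) hD
  obtain ⟨D', hD₂, hge⟩ := stab_defect_ge hM hmax.1.1 hQx hT' hF' hcoef'
  have hle : D.map (cEquiv hiff).toMonoidHom ≤
      (P ⊓ Subgroup.normalizer ((Q.map (MulAut.conj x).toMonoidHom) : Set G)).subgroupOf T' := by
    rintro _ ⟨d, hd, rfl⟩
    exact ⟨SubpairLE.le hx ⟨(d : G), ⟨d, hd, rfl⟩, rfl⟩, ((hT' _).mp (cEquiv hiff d).2).1⟩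
  have hcard : Nat.card D' ≤ Nat.card (D.map (cEquiv hiff).toMonoidHom) :=
    ((card_defectGroup hM hF' hD₂).trans (card_defectGroup hM hF' hD').symm).le
  rwa [← Subgroup.eq_of_le_of_card_ge hle ((Subgroup.card_le_of_le hge).trans hcard)]

end CfsgLib.Blocks
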