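import Cfsg.Agent.Lib.Blocks.FirstMainTheorem

/-!
Maximal Brauer pairs: defect groups and conjugacy.
-/

namespace CfsgLib.Blocks

set_option linter.style.haveILetI false

open scoped ComplexConjugate
open Cfsg CfsgLib.Chars

universe u

variable {G : Type u} [Group G] [Fintype G] {p : ℕ} {M : Ideal AlgInt}

theorem pairConj_normalizer (P : Subgroup G) {x : G} (hx : x ∈ Subgroup.normalizer (P : Set G))
    (f : Set (IrrCharacter (Subgroup.centralizer (P : Set G)))) :
    pairConj x ⟨P, f⟩ =
      (⟨P, mapBlock (normConj _ (mem_normalizer_centralizer hx)) f⟩ : BrauerPairIdx G) := by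
  have e : P.map (MulAut.conj x).toMonoidHom = P := by
    ext g
    constructor
    · rintro ⟨q, hq, rfl⟩; exact (Subgroup.mem_normalizer_iff.mp hx q).mp hq
    · intro hg
      refine ⟨x⁻¹ * g * x, ?_, by simp [mul_assoc]⟩
      have := (Subgroup.mem_normalizer_iff.mp (inv_mem hx) g).mp hg
      simpa using this
  refine (pair_eq e _ x f).trans ?_
  rw [conjSet_eq (K := Subgroup.centralizer (P : Set G)) (K' := Subgroup.centralizer (P : Set G))
    (x := x) fun c => (Subgroup.mem_normalizer_iff.mp (mem_normalizer_centralizer hx) c).symm]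
  rfl

/-- Blocks of the centralizer, as a type. -/
abbrev CBlock (M : Ideal AlgInt) (P : Subgroup G) : Type u :=
  {f : Set (IrrCharacter (Subgroup.centralizer (P : Set G))) // IsPBlock M f}

/-- The action of the normalizer on the blocks of the centralizer. -/
@[instance_reducible]
noncomputable def cBlockAction (hM : IsPModular p M) (P : Subgroup G) :
    MulAction (Subgroup.normalizer (P : Set G)) (CBlock M P) :=
  blockAction hM _ fun _ hx => mem_normalizer_centralizer hx

/-- The sum of the idempotents of the conjugates of a block of the centralizer. -/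
noncomputable def orbE (hM : IsPModular p M) (P : Subgroup G) (f : CBlock M P) : G → ℂ := fun x =>
  letI := cBlockAction hM P
  ∑ᶠ h ∈ MulAction.orbit (Subgroup.normalizer (P : Set G)) f,
    subgroupBlockCoeff (Subgroup.centralizer (P : Set G)) h.1 x

theorem orbE_conj (hM : IsPModular p M) (P : Subgroup G) (f : CBlock M P) {m : G}
    (hm : m ∈ Subgroup.normalizer (P : Set G)) (x : G) :
    orbE hM P f (m * x * m⁻¹) = orbE hM P f x := by
  classical
  letI := cBlockAction hM P
  simp only [orbE]
  set mm : Subgroup.normalizer (P : Set G) := ⟨m, hm⟩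
  refine (finsum_mem_eq_of_bijOn (fun h => mm • h)
    ⟨fun h hh => MulAction.mapsTo_smul_orbit mm f hh, fun a _ b _ e => MulAction.injective mm e,
      fun h hh => ⟨mm⁻¹ • h, MulAction.mapsTo_smul_orbit mm⁻¹ f hh, smul_inv_smul mm h⟩⟩
    fun h _ => ?_).symm
  exact (sbc_mapBlock_conj _ (mem_normalizer_centralizer hm) h.1 x).symm

theorem orbE_eq_sum (hM : IsPModular p M) (P : Subgroup G) (f : CBlock M P) :
    ∃ S : Finset (CBlock M P), (∀ h, h ∈ S ↔ ∃ m : Subgroup.normalizer (P : Set G),
        (letI := cBlockAction hM P; m • f) = h) ∧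
      orbE hM P f = fun x => ∑ h ∈ S, subgroupBlockCoeff (Subgroup.centralizer (P : Set G)) h.1 x := by
  classical
  letI := cBlockAction hM P
  haveI : Fintype (CBlock M P) := Fintype.ofFinite _
  refine ⟨(MulAction.orbit (Subgroup.normalizer (P : Set G)) f).toFinset, fun h => ?_, ?_⟩
  · rw [Set.mem_toFinset]; rfl
  · funext x
    rw [orbE, finsum_mem_eq_toFinset_sum]

theorem orbE_of_notMem (hM : IsPModular p M) (P : Subgroup G) (f : CBlock M P) {x : G}
    (hx : x ∉ Subgroup.centralizer (P : Set G)) : orbE hM P f x = 0 := by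
  obtain ⟨S, -, e⟩ := orbE_eq_sum hM P f
  rw [e]
  exact Finset.sum_eq_zero fun h _ => sbc_of_notMem _ _ hx

theorem mlr_orbE (hM : IsPModular p M) (P : Subgroup G) (f : CBlock M P) (x : G) :
    MemLocalRing M (orbE hM P f x) := by
  obtain ⟨S, -, e⟩ := orbE_eq_sum hM P f
  rw [e]
  exact mlr_sum hM _ fun h _ => sbc_mlr hM _ h.2 _

theorem conv_sum_left {ι : Type*} (S : Finset ι) (a : ι → G → ℂ) (b : G → ℂ) :
    Chars.conv (fun x => ∑ i ∈ S, a i x) b = fun x => ∑ i ∈ S, Chars.conv (a i) b x := by
  funext x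
  simp only [Chars.conv, Finset.sum_mul]
  exact Finset.sum_comm

theorem conv_sum_right {ι : Type*} (S : Finset ι) (a : G → ℂ) (b : ι → G → ℂ) :
    Chars.conv a (fun x => ∑ i ∈ S, b i x) = fun x => ∑ i ∈ S, Chars.conv a (b i) x := by
  funext x
  simp only [Chars.conv, Finset.mul_sum]
  exact Finset.sum_comm

theorem conv_sbc_orbE (hM : IsPModular p M) (P : Subgroup G) (f g : CBlock M P) :
    ((∃ m : Subgroup.normalizer (P : Set G), (letI := cBlockAction hM P; m • f) = g) →
      Chars.conv (subgroupBlockCoeff _ g.1) (orbE hM P f) = subgroupBlockCoeff _ g.1) ∧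
    (¬ (∃ m : Subgroup.normalizer (P : Set G), (letI := cBlockAction hM P; m • f) = g) →
      Chars.conv (subgroupBlockCoeff _ g.1) (orbE hM P f) = fun _ => 0) := by
  classical
  obtain ⟨S, hS, e⟩ := orbE_eq_sum hM P f
  rw [e, conv_sum_right]
  constructor
  · intro hg
    funext x
    rw [Finset.sum_eq_single_of_mem g ((hS g).mpr hg)]
    · rw [conv_sbc_self]
    · intro h _ hne
      rw [conv_sbc_ne hM _ g.2 h.2 fun e => hne (Subtype.ext e.symm)]
  · intro hg
    funext x
    refine Finset.sum_eq_zero fun h hh => ?_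
    rw [conv_sbc_ne hM _ g.2 h.2 fun e => hg ((hS g).mp (by rwa [Subtype.ext e]))]

theorem conv_orbE_self (hM : IsPModular p M) (P : Subgroup G) (f : CBlock M P) :
    Chars.conv (orbE hM P f) (orbE hM P f) = orbE hM P f := by
  obtain ⟨S, hS, e⟩ := orbE_eq_sum hM P f
  conv_lhs => arg 1; rw [e]
  rw [conv_sum_left]
  conv_rhs => rw [e]
  funext x
  exact Finset.sum_congr rfl fun h hh => by rw [(conv_sbc_orbE hM P f h).1 ((hS h).mp hh)]

theorem orbE_class (hM : IsPModular p M) (P : Subgroup G) (f : CBlock M P) :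
    IsClassFunction (Subgroup.normalizer (P : Set G))
      (fun n : Subgroup.normalizer (P : Set G) => orbE hM P f (n : G)) := fun a z =>
  orbE_conj hM P f z.2 (a : G)

variable {P : Subgroup G} [Fintype (Subgroup.normalizer (P : Set G))]

theorem conv_rest_orbE (hM : IsPModular p M) (f : CBlock M P) (b : G → ℂ)
    (n : Subgroup.normalizer (P : Set G)) :
    Chars.conv (orbE hM P f) b (n : G) =
      Chars.conv (fun k : Subgroup.normalizer (P : Set G) => orbE hM P f (k : G))
        (fun k : Subgroup.normalizer (P : Set G) => b (k : G)) n :=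
  conv_rest _ (fun _ hx => orbE_of_notMem hM P f fun h => hx
    ((Subgroup.centralizer_le_normalizer (P : Set G)) h)) b n

theorem omega_orbE_cases (hM : IsPModular p M) (f : CBlock M P)
    (ξ : IrrCharacter (Subgroup.normalizer (P : Set G))) :
    omega (ξ : Subgroup.normalizer (P : Set G) → ℂ) (fun n : Subgroup.normalizer (P : Set G) => orbE hM P f (n : G)) = 0 ∨
      omega (ξ : Subgroup.normalizer (P : Set G) → ℂ) (fun n : Subgroup.normalizer (P : Set G) => orbE hM P f (n : G)) = 1 := by
  have h := omega_conv ξ (orbE_class hM P f) (orbE_class hM P f)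
  rw [show Chars.conv (fun n : Subgroup.normalizer (P : Set G) => orbE hM P f (n : G))
      (fun n : Subgroup.normalizer (P : Set G) => orbE hM P f (n : G)) =
      fun n : Subgroup.normalizer (P : Set G) => orbE hM P f (n : G) from funext fun n => by
    rw [← conv_rest_orbE, conv_orbE_self]] at h
  exact IsIdempotentElem.iff_eq_zero_or_one.mp h.symm

theorem exists_over_pair (hM : IsPModular p M) (f : CBlock M P) :
    ∃ ξ : IrrCharacter (Subgroup.normalizer (P : Set G)),
      omega (ξ : Subgroup.normalizer (P : Set G) → ℂ) (fun n : Subgroup.normalizer (P : Set G) => orbE hM P f (n : G)) = 1 := by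
  classical
  by_contra hno
  push Not at hno
  have h0 : ∀ n : Subgroup.normalizer (P : Set G), orbE hM P f (n : G) = 0 := fun n => by
    have he := congrFun (coeffFun_omega (orbE_class hM P f)) n
    rw [← he]
    simp only [coeffFun]
    rw [Finset.sum_eq_zero, mul_zero]
    intro ξ _
    rw [(omega_orbE_cases hM f ξ).resolve_right (hno ξ), zero_mul, zero_mul]
  have h1 : orbE hM P f = fun _ => 0 := funext fun x => by
    by_cases hx : x ∈ Subgroup.normalizer (P : Set G)
    · exact h0 ⟨x, hx⟩
    · exact orbE_of_notMem hM P f fun h => hx (Subgroup.centralizer_le_normalizer (P : Set G) h)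
  have h2 := (conv_sbc_orbE hM P f f).1 ⟨1, (letI := cBlockAction hM P; one_smul _ f)⟩
  rw [h1] at h2
  obtain ⟨η, hη⟩ := IsPBlock.nonempty hM f.2
  have h3 : ∀ c : Subgroup.centralizer (P : Set G), blockCoeff f.1 c = 0 := fun c => by
    rw [← sbc_apply, ← h2]; simp [Chars.conv]
  have h4 := omega_blockCoeff f.1 η
  rw [indic_of_mem hη, funext h3] at h4
  simp [omega] at h4

/-- The truncated idempotent of a block acts as the identity on pairs of that block. -/
theorem brVal_of_over (hM : IsPModular p M) (hP : IsPGroup p P) {B : Set (IrrCharacter G)}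
    {e : CBlock M P} (he : IsBrauerPairOf p M B P e.1)
    {ξ : IrrCharacter (Subgroup.normalizer (P : Set G))}
    (hξ : omega (ξ : Subgroup.normalizer (P : Set G) → ℂ) (fun n : Subgroup.normalizer (P : Set G) => orbE hM P e (n : G)) = 1) :
    MemLocalIdeal M
      (brVal P (Subgroup.normalizer (P : Set G)) (ξ : Subgroup.normalizer (P : Set G) → ℂ) (blockCoeff B) - 1) := by
  classical
  letI := cBlockAction hM P
  have hB := he.2.1
  have hcl := blockCoeff_isClassFunction B
  have hl := mlr_blockCoeff hM hB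
  set E : Subgroup.normalizer (P : Set G) → ℂ :=
    fun n : Subgroup.normalizer (P : Set G) => orbE hM P e (n : G)
  set r := brTrunc P (Subgroup.normalizer (P : Set G)) (blockCoeff B) with hr'
  have hr : IsClassFunction _ r := brTrunc_isClassFunction le_rfl hcl
  have hE := orbE_class hM P e
  have key : ∀ n, MemLocalIdeal M (Chars.conv E r n - E n) := by
    intro n
    by_cases hn : (n : G) ∈ Subgroup.centralizer (P : Set G)
    · have e1 : Chars.conv E r n = Chars.conv (orbE hM P e) (blockCoeff B) (n : G) := by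
        rw [conv_rest_orbE]
        simp only [Chars.conv]
        refine Finset.sum_congr rfl fun y _ => ?_
        by_cases hy : (y : G) ∈ Subgroup.centralizer (P : Set G)
        · have : (y : G)⁻¹ * (n : G) ∈ Subgroup.centralizer (P : Set G) := mul_mem (inv_mem hy) hn
          simp [r, E, brTrunc, this]
        · simp [E, orbE_of_notMem hM P e hy]
      obtain ⟨S, hS, eS⟩ := orbE_eq_sum hM P e
      rw [e1, show E n = orbE hM P e (n : G) from rfl, eS, conv_sum_left, ← Finset.sum_sub_distrib]
      refine mli_sum hM _ fun h hh => ?_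
      obtain ⟨η, hη⟩ := IsPBlock.nonempty hM h.2
      rw [conv_rest _ (fun x hx => sbc_of_notMem _ h.1 hx) _ ⟨(n : G), hn⟩,
        show (fun x : Subgroup.centralizer (P : Set G) => subgroupBlockCoeff _ h.1 (x : G)) =
          blockCoeff h.1 from funext fun x => sbc_apply _ h.1 x,
        show subgroupBlockCoeff (Subgroup.centralizer (P : Set G)) h.1 (n : G) =
          blockCoeff h.1 ⟨(n : G), hn⟩ from sbc_apply _ h.1 ⟨(n : G), hn⟩]
      have h1 := mli_conv_block hM h.2 hη
        (rest_isClassFunction _ (ConjInv.of_isClassFunction hcl)) (fun x => hl x) (fun x => by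
          have := mli_conv_rest hM hP (ConjInv.of_isClassFunction (S := P) hcl)
            (ConjInv.of_isClassFunction hcl) hl hl x
          rw [conv_blockCoeff_self] at this
          have := mli_neg this
          rwa [neg_sub] at this) ⟨(n : G), hn⟩
      obtain ⟨m, hm⟩ := (hS h).mp hh
      have hpair : IsBrauerPairOf p M B P h.1 := by
        have h2 := isBrauerPairOf_conj hM he (m : G)
        have h3 := pairConj_normalizer P m.2 e.1
        have key : ∀ a b : BrauerPairIdx G, a = b → IsBrauerPairOf p M B a.1 a.2 →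
            IsBrauerPairOf p M B b.1 b.2 := fun a b h => h ▸ id
        have h4 := key _ _ h3 h2
        rw [← hm]
        exact h4
      have h2 := mli_mul_right hM (hpair.2.2 η hη) (mlr_blockCoeff hM h.2 ⟨(n : G), hn⟩)
      rw [brauerOmega_eq_omega] at h2
      convert mli_add hM h1 h2 using 1
      ring
    · have h0 : Chars.conv E r n = 0 := by
        simp only [Chars.conv]
        refine Finset.sum_eq_zero fun y _ => ?_
        by_cases hy : (y : G) ∈ Subgroup.centralizer (P : Set G)
        · have : (y : G)⁻¹ * (n : G) ∉ Subgroup.centralizer (P : Set G) := fun h' =>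
            hn (by simpa using mul_mem hy h')
          simp [r, brTrunc, this]
        · simp [E, orbE_of_notMem hM P e hy]
      simp [h0, E, orbE_of_notMem hM P e hn, mli_zero hM]
  have h1 : MemLocalIdeal M (omega (ξ : Subgroup.normalizer (P : Set G) → ℂ) (Chars.conv E r) - omega (ξ : Subgroup.normalizer (P : Set G) → ℂ) E) := by
    rw [← omega_sub]
    refine mli_omega hM ξ (fun a z => ?_) key
    exact congrArg₂ (fun s t : ℂ => s - t) (IsClassFunction.conv hE hr a z) (hE a z)
  rw [omega_conv ξ hE hr, hξ, one_mul] at h1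
  exact h1

/-- A unit coefficient on the centralizer gives a Brauer pair. -/
theorem exists_pair_at (hM : IsPModular p M) {B : Set (IrrCharacter G)} (hB : IsPBlock M B)
    {Q : Subgroup G} (hQ : IsPGroup p Q) {z : G} (hzC : z ∈ Subgroup.centralizer (Q : Set G))
    (hz : ¬ MemLocalIdeal M (blockCoeff B z)) : ∃ e, IsBrauerPairOf p M B Q e := by
  classical
  have hcl := blockCoeff_isClassFunction B
  have hl := mlr_blockCoeff hM hB
  obtain ⟨e, he, h⟩ := exists_block_omega_one hM
    (rest_isClassFunction (Subgroup.centralizer (Q : Set G)) (ConjInv.of_isClassFunction hcl))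
    (fun x => hl x) (fun x => by
      have := mli_conv_rest hM hQ (ConjInv.of_isClassFunction (S := Q) hcl)
        (ConjInv.of_isClassFunction hcl) hl hl x
      rw [conv_blockCoeff_self] at this
      have := mli_neg this
      rwa [neg_sub] at this) (z := ⟨z, hzC⟩) hz
  exact ⟨e, ⟨hQ, he⟩, hB, fun ξ hξ => by rw [brauerOmega_eq_omega]; exact h ξ hξ⟩

/-- The pairs of a block are below its defect groups. -/
theorem pair_le_defectGroup (hM : IsPModular p M) {B : Set (IrrCharacter G)} {Q : Subgroup G}
    {e : Set (IrrCharacter (Subgroup.centralizer (Q : Set G)))} (he : IsBrauerPairOf p M B Q e)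
    {D : Subgroup G} (hD : IsDefectGroup p M B D) :
    ∃ x : G, Q.map (MulAut.conj x).toMonoidHom ≤ D := by
  classical
  obtain ⟨z, hzC, hz⟩ : ∃ z ∈ Subgroup.centralizer (Q : Set G),
      ¬ MemLocalIdeal M (blockCoeff B z) := by
    by_contra hno
    push Not at hno
    obtain ⟨ξ, hξ⟩ := IsPBlock.nonempty hM he.1.2
    refine not_mli_of_sub_one hM (he.2.2 ξ hξ) ?_
    rw [brauerOmega_eq_omega]
    exact mli_omega hM ξ (rest_isClassFunction _
      (ConjInv.of_isClassFunction (blockCoeff_isClassFunction B))) fun c => hno c c.2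
  exact pGroup_le_defectGroup hM he.2.1 hD hz he.1.1 (le_centralizer_singleton hzC)

/-- A block over `e` with larger defect group gives a larger pair. -/
theorem exists_pair_above (hM : IsPModular p M) (hP : IsPGroup p P)
    (e : CBlock M P) {ξ : IrrCharacter (Subgroup.normalizer (P : Set G))}
    (hξ : omega (ξ : Subgroup.normalizer (P : Set G) → ℂ) (fun n : Subgroup.normalizer (P : Set G) => orbE hM P e (n : G)) = 1)
    {R : Subgroup (Subgroup.normalizer (P : Set G))}
    (hR : IsDefectGroup p M (blockOf M (ξ : Subgroup.normalizer (P : Set G) → ℂ)) R)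
    (hne : R ≠ P.subgroupOf (Subgroup.normalizer (P : Set G))) :
    ∃ (R' : Subgroup G) (g : Set (IrrCharacter (Subgroup.centralizer (R' : Set G)))),
      P < R' ∧ IsNormalSubpair p M P e.1 R' g := by
  classical
  haveI : Fact p.Prime := ⟨hM.1⟩
  have hb : IsPBlock M (blockOf M (ξ : Subgroup.normalizer (P : Set G) → ℂ)) := isPBlock_blockOf ξ
  haveI : (P.subgroupOf (Subgroup.normalizer (P : Set G))).Normal :=
    (Subgroup.normal_subgroupOf_iff_le_normalizer Subgroup.le_normalizer).mpr le_rfl
  have hPR : P.subgroupOf (Subgroup.normalizer (P : Set G)) ≤ R :=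
    normal_pGroup_le_defectGroup hM _
      (hP.of_equiv (Subgroup.subgroupOfEquivOfLe Subgroup.le_normalizer).symm) hb hR
  obtain ⟨c, hc, T, hT⟩ := id hR
  set RG := R.map (Subgroup.normalizer (P : Set G)).subtype with hRG
  have hPRG : P ≤ RG := fun q hq => ⟨⟨q, Subgroup.le_normalizer hq⟩, hPR hq, rfl⟩
  have hlt : P < RG := lt_of_le_of_ne hPRG fun h => hne (le_antisymm (fun r hr => by
    exact h.ge ⟨r, hr, rfl⟩) hPR)
  have hRGp : IsPGroup p RG := (defectGroup_isPGroup hR).map _
  have hRc : R ≤ Subgroup.centralizer ({c} : Set (Subgroup.normalizer (P : Set G))) :=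
    hT ▸ Subgroup.map_subtype_le _
  set E : Subgroup.normalizer (P : Set G) → ℂ :=
    fun n : Subgroup.normalizer (P : Set G) => orbE hM P e (n : G)
  have hE := orbE_class hM P e
  have hbE : Chars.conv (blockCoeff (blockOf M (ξ : Subgroup.normalizer (P : Set G) → ℂ))) E = blockCoeff (blockOf M (ξ : Subgroup.normalizer (P : Set G) → ℂ)) := by
    rw [funext (blockCoeff_eq_coeffFun (blockOf M (ξ : Subgroup.normalizer (P : Set G) → ℂ))),
      show E = coeffFun (fun θ : IrrCharacter (Subgroup.normalizer (P : Set G)) =>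
        omega (θ : Subgroup.normalizer (P : Set G) → ℂ) E) from funext fun n => (congrFun (coeffFun_omega hE) n).symm,
      ← coeffFun_mul]
    congr 1
    funext θ
    by_cases hθ : θ ∈ blockOf M (ξ : Subgroup.normalizer (P : Set G) → ℂ)
    · have h1 : omega (θ : Subgroup.normalizer (P : Set G) → ℂ) E = 1 := by
        refine (omega_orbE_cases hM e θ).resolve_left fun h0 => not_mli_one hM ?_
        have := mli_omega_sub hM (IsPBlock.sameBlock hM hb (self_mem_blockOf hM ξ) hθ) hE
          (fun n => mlr_orbE hM P e n)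
        rwa [hξ, h0, sub_zero] at this
      rw [Pi.mul_apply, h1, mul_one]
    · rw [Pi.mul_apply, indic_of_notMem hθ, zero_mul]
  obtain ⟨z, hzR, hz⟩ : ∃ z : Subgroup.normalizer (P : Set G),
      z ∈ Subgroup.centralizer (R : Set _) ∧ ¬ MemLocalIdeal M (E z) := by
    by_contra hno
    push Not at hno
    apply hc.2.1
    have key := mli_conv_sub_trunc hM (defectGroup_isPGroup hR)
      (fun q _ g => blockCoeff_isClassFunction (blockOf M (ξ : Subgroup.normalizer (P : Set G) → ℂ)) g q) (fun q _ g => hE g q)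
      (mlr_blockCoeff hM hb) (fun n => mlr_orbE hM P e n)
      (c := c) (fun r hr => Subgroup.mem_centralizer_singleton_iff.mp (hRc hr))
    rw [hbE] at key
    have h2 := mli_sum hM Finset.univ (f := fun g : Subgroup.normalizer (P : Set G) =>
        if g ∈ Subgroup.centralizer (R : Set _) then
          blockCoeff (blockOf M (ξ : Subgroup.normalizer (P : Set G) → ℂ)) g * E (g⁻¹ * c) else 0) fun g _ => by
      split_ifs with hg
      · exact mli_mul_left hM (mlr_blockCoeff hM hb _) (hno _ (mul_mem (inv_mem hg)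
          fun r hr => Subgroup.mem_centralizer_singleton_iff.mp (hRc hr)))
      · exact mli_zero hM
    have := mli_add hM key h2
    rwa [sub_add_cancel] at this
  letI := cBlockAction hM P
  obtain ⟨S, hS, eS⟩ := orbE_eq_sum hM P e
  have hzG : (z : G) ∈ Subgroup.centralizer (RG : Set G) := by
    rw [Subgroup.mem_centralizer_iff]
    rintro _ ⟨r, hr, rfl⟩
    exact congrArg Subtype.val (Subgroup.mem_centralizer_iff.mp hzR r hr)
  obtain ⟨⟨f, hfS⟩, hfix, hfu⟩ : ∃ f : MulAction.orbit (Subgroup.normalizer (P : Set G)) e,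
      (∀ r : R, r • f = f) ∧
        ¬ MemLocalIdeal M (subgroupBlockCoeff (Subgroup.centralizer (P : Set G)) f.1.1 (z : G)) := by
    haveI : Fintype (MulAction.orbit (Subgroup.normalizer (P : Set G)) e) := Fintype.ofFinite _
    by_contra hno
    push Not at hno
    apply hz
    have hsum : E z = ∑ f : MulAction.orbit (Subgroup.normalizer (P : Set G)) e,
        subgroupBlockCoeff (Subgroup.centralizer (P : Set G)) f.1.1 (z : G) := by
      show orbE hM P e (z : G) = _
      rw [eS]
      exact Finset.sum_subtype S (fun h => by rw [hS]; rfl)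
        (fun h : CBlock M P => subgroupBlockCoeff (Subgroup.centralizer (P : Set G)) h.1 (z : G))
    rw [hsum]
    refine mli_sum_of_no_fixed hM (defectGroup_isPGroup hR) (fun r f => ?_)
      (fun f => sbc_mlr hM _ f.1.2 _) hno
    have hrz : ((r : Subgroup.normalizer (P : Set G)) : G) * (z : G) *
        ((r : Subgroup.normalizer (P : Set G)) : G)⁻¹ = (z : G) := by
      rw [show ((r : Subgroup.normalizer (P : Set G)) : G) * (z : G) =
          (z : G) * ((r : Subgroup.normalizer (P : Set G)) : G) from
        Subgroup.mem_centralizer_iff.mp hzG _ ⟨r, r.2, rfl⟩, mul_inv_cancel_right]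
    conv_lhs => rw [← hrz]
    exact sbc_mapBlock_conj _ (mem_normalizer_centralizer (r : Subgroup.normalizer (P : Set G)).2)
      f.1.1 (z : G)
  have hCR : Subgroup.centralizer (RG : Set G) ≤ Subgroup.centralizer (P : Set G) :=
    Subgroup.centralizer_le hPRG
  have hst : ∀ x ∈ RG, StabilizesBlock (Subgroup.centralizer (P : Set G)) f.1 x := by
    rintro _ ⟨r, hr, rfl⟩
    refine (stabilizesBlock_iff hM _ f.2).mpr ⟨mem_normalizer_centralizer r.2, ?_⟩
    exact congrArg (fun f : MulAction.orbit (Subgroup.normalizer (P : Set G)) e => f.1.1)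
      (hfix ⟨r, hr⟩)
  obtain ⟨g, hg, h1⟩ := exists_block_omega_one hM
    (rest_isClassFunction (Subgroup.centralizer (RG : Set G))
      ((sbc_conjInv_self _ f.1).mono hCR)) (fun x => sbc_mlr hM _ f.2 _) (fun x => by
      have := mli_conv_rest hM hRGp (sbc_conjInv_of_stabilizes hM _ f.2 hst)
        (sbc_conjInv_of_stabilizes hM _ f.2 hst) (sbc_mlr hM _ f.2) (sbc_mlr hM _ f.2) x
      rw [conv_sbc_self] at this
      have := mli_neg this
      rwa [neg_sub] at this) (z := ⟨(z : G), hzG⟩) hfu
  have hsub : IsNormalSubpair p M P f.1 RG g :=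
    ⟨⟨hP, f.2⟩, ⟨hRGp, hg⟩, hPRG, fun x hx => Subgroup.map_subtype_le _ hx, hst,
      fun η hη => by rw [brauerOmega_eq_omega]; exact h1 η hη⟩
  obtain ⟨m, hm⟩ := hfS
  have h3 := isNormalSubpair_conj hM hsub (m⁻¹ : Subgroup.normalizer (P : Set G))
  have h4 : pairConj ((m⁻¹ : Subgroup.normalizer (P : Set G)) : G) ⟨P, f.1⟩ =
      (⟨P, e.1⟩ : BrauerPairIdx G) := by
    rw [pairConj_normalizer P (m⁻¹).2]
    exact congrArg (fun f : CBlock M P => (⟨P, f.1⟩ : BrauerPairIdx G))
      (inv_smul_eq_iff.mpr hm.symm)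
  have key : ∀ a b : BrauerPairIdx G, a = b →
      ∀ (R' : Subgroup G) (g' : Set (IrrCharacter (Subgroup.centralizer (R' : Set G)))),
        IsNormalSubpair p M a.1 a.2 R' g' → IsNormalSubpair p M b.1 b.2 R' g' :=
    fun a b h => h ▸ fun _ _ => id
  refine ⟨_, _, ?_, key _ _ h4 _ _ h3⟩
  have hP' : P.map (MulAut.conj ((m⁻¹ : Subgroup.normalizer (P : Set G)) : G)).toMonoidHom = P :=
    congrArg Sigma.fst h4
  conv_lhs => rw [← hP']
  exact (Subgroup.map_lt_map_iff_of_injective (MulEquiv.injective _)).mpr hlt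

/-- A maximal pair lies under a block of the normalizer with defect group `P`. -/
theorem maximal_block (hM : IsPModular p M) {B : Set (IrrCharacter G)}
    {e : CBlock M P} (hmax : IsMaximalBrauerPair p M B P e.1) :
    ∃ ξ : IrrCharacter (Subgroup.normalizer (P : Set G)),
      omega (ξ : Subgroup.normalizer (P : Set G) → ℂ) (fun n : Subgroup.normalizer (P : Set G) => orbE hM P e (n : G)) = 1 ∧
      ¬ MemLocalIdeal M (brVal P (Subgroup.normalizer (P : Set G)) (ξ : Subgroup.normalizer (P : Set G) → ℂ) (blockCoeff B)) ∧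
      IsDefectGroup p M (blockOf M (ξ : Subgroup.normalizer (P : Set G) → ℂ)) (P.subgroupOf (Subgroup.normalizer (P : Set G))) := by
  classical
  obtain ⟨ξ, hξ⟩ := exists_over_pair hM e
  have hP := hmax.1.1.1
  refine ⟨ξ, hξ, not_mli_of_sub_one hM (brVal_of_over hM hP hmax.1 hξ), ?_⟩
  obtain ⟨R, hR⟩ := exists_isDefectGroup hM (isPBlock_blockOf (M := M) ξ)
  by_contra hn
  obtain ⟨R', g, hlt, hsub⟩ := exists_pair_above hM hP e hξ hR fun h => hn (h ▸ hR)
  exact hlt.ne (hmax.2 R' g ((brauerPairOf_iff_normal hM hsub hmax.1.2.1).mpr hmax.1)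
    (Relation.ReflTransGen.single hsub)).symm

omit [Fintype (Subgroup.normalizer (P : Set G))] in
/-- Maximal pairs sit at defect groups. -/
theorem maximal_isDefectGroup (hM : IsPModular p M) {B : Set (IrrCharacter G)}
    {e : Set (IrrCharacter (Subgroup.centralizer (P : Set G)))}
    (hmax : IsMaximalBrauerPair p M B P e) : IsDefectGroup p M B P := by
  classical
  haveI : Fintype (Subgroup.normalizer (P : Set G)) := Fintype.ofFinite _
  obtain ⟨ξ, -, hne, hD⟩ := maximal_block hM (e := ⟨e, hmax.1.1.2⟩) hmax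
  exact firstMain_defect hM hmax.1.1.1 (isPBlock_blockOf ξ) hD (self_mem_blockOf hM ξ) hmax.1.2.1
    hne

omit [Fintype (Subgroup.normalizer (P : Set G))] in
/-- Pairs at defect groups are maximal. -/
theorem maximal_of_defectGroup (hM : IsPModular p M) {B : Set (IrrCharacter G)}
    {e : Set (IrrCharacter (Subgroup.centralizer (P : Set G)))} (he : IsBrauerPairOf p M B P e)
    (hD : IsDefectGroup p M B P) : IsMaximalBrauerPair p M B P e := by
  refine ⟨he, fun R g hg hle => ?_⟩
  obtain ⟨x, hx⟩ := pair_le_defectGroup hM hg hD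
  have h1 := Subgroup.card_le_of_le hx
  rw [card_map_conj] at h1
  exact (Subgroup.eq_of_le_of_card_ge (SubpairLE.le hle) h1).symm

/-- Above every pair of a block there is a maximal one. -/
theorem exists_maximal_above (hM : IsPModular p M) {B : Set (IrrCharacter G)} :
    ∀ (Q : Subgroup G) (f : Set (IrrCharacter (Subgroup.centralizer (Q : Set G)))),
      IsBrauerPairOf p M B Q f → ∃ (P : Subgroup G)
        (e : Set (IrrCharacter (Subgroup.centralizer (P : Set G)))),
        IsMaximalBrauerPair p M B P e ∧ SubpairLE p M Q f P e := by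
  intro Q
  induction Q using (wellFounded_gt (α := Subgroup G)).induction with
  | _ Q ih =>
    intro f hf
    by_cases hm : IsMaximalBrauerPair p M B Q f
    · exact ⟨Q, f, hm, Relation.ReflTransGen.refl⟩
    · simp only [IsMaximalBrauerPair, hf, true_and, not_forall] at hm
      obtain ⟨R, g, hg, hle, hne⟩ := hm
      obtain ⟨P, e, hP, hle'⟩ := ih R (lt_of_le_of_ne (SubpairLE.le hle) (Ne.symm hne)) g hg
      exact ⟨P, e, hP, Relation.ReflTransGen.trans hle hle'⟩

omit [Fintype (Subgroup.normalizer (P : Set G))] in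
/-- Maximal pairs on the same subgroup are conjugate under its normalizer. -/
theorem maximal_conj_normalizer (hM : IsPModular p M) {B : Set (IrrCharacter G)}
    {e e' : Set (IrrCharacter (Subgroup.centralizer (P : Set G)))}
    (hmax : IsMaximalBrauerPair p M B P e) (hmax' : IsMaximalBrauerPair p M B P e') :
    ∃ m ∈ Subgroup.normalizer (P : Set G),
      pairConj m ⟨P, e⟩ = (⟨P, e'⟩ : BrauerPairIdx G) := by
  classical
  haveI : Fintype (Subgroup.normalizer (P : Set G)) := Fintype.ofFinite _
  let f : CBlock M P := ⟨e, hmax.1.1.2⟩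
  let f' : CBlock M P := ⟨e', hmax'.1.1.2⟩
  obtain ⟨ξ, hξ, hne, hD⟩ := maximal_block hM (e := f) hmax
  obtain ⟨ξ', hξ', hne', hD'⟩ := maximal_block hM (e := f') hmax'
  have hbb := firstMain_injective hM hmax.1.1.1 (isPBlock_blockOf ξ) (isPBlock_blockOf ξ') hD'
    (self_mem_blockOf hM ξ) (self_mem_blockOf hM ξ') hmax.1.2.1 hne hne'
  by_contra hno
  push Not at hno
  letI := cBlockAction hM P
  set E : Subgroup.normalizer (P : Set G) → ℂ :=
    fun n : Subgroup.normalizer (P : Set G) => orbE hM P f (n : G)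
  set E' : Subgroup.normalizer (P : Set G) → ℂ :=
    fun n : Subgroup.normalizer (P : Set G) => orbE hM P f' (n : G)
  have hout : ∀ h : CBlock M P, (∃ m : Subgroup.normalizer (P : Set G), m • f' = h) →
      ¬ ∃ m : Subgroup.normalizer (P : Set G), m • f = h := by
    rintro h ⟨a, rfl⟩ ⟨c, hc⟩
    refine hno ((a⁻¹ * c : Subgroup.normalizer (P : Set G)) : G) (a⁻¹ * c).2 ?_
    rw [pairConj_normalizer P (a⁻¹ * c).2]
    exact congrArg (fun f : CBlock M P => (⟨P, f.1⟩ : BrauerPairIdx G))
      (show (a⁻¹ * c) • f = f' by rw [mul_smul, hc, inv_smul_smul])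
  have h0 : Chars.conv E' E = fun _ => 0 := by
    funext n
    rw [← conv_rest_orbE]
    obtain ⟨S, hS, eS⟩ := orbE_eq_sum hM P f'
    rw [eS, conv_sum_left]
    refine Finset.sum_eq_zero fun h hh => ?_
    rw [(conv_sbc_orbE hM P f h).2 (hout h ((hS h).mp hh))]
  have h1 := omega_conv ξ' (orbE_class hM P f') (orbE_class hM P f)
  rw [h0, hξ', one_mul] at h1
  have h2 : omega (ξ' : Subgroup.normalizer (P : Set G) → ℂ) E = 0 := by rw [← h1]; simp [omega]
  apply not_mli_one hM
  have h3 := mli_omega_sub hM (IsPBlock.sameBlock hM (isPBlock_blockOf ξ')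
    (show ξ ∈ blockOf M (ξ' : Subgroup.normalizer (P : Set G) → ℂ) from hbb ▸ self_mem_blockOf hM ξ) (self_mem_blockOf hM ξ'))
    (orbE_class hM P f) (fun n => mlr_orbE hM P f n)
  rwa [hξ, show omega (ξ' : Subgroup.normalizer (P : Set G) → ℂ) (fun n : Subgroup.normalizer (P : Set G) =>
    orbE hM P f (n : G)) = 0 from h2, sub_zero] at h3

omit [Fintype (Subgroup.normalizer (P : Set G))] in
/-- Every pair of a block is conjugate to one below a given maximal pair. -/
theorem exists_conj_le_maximal (hM : IsPModular p M) {B : Set (IrrCharacter G)}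
    {e : Set (IrrCharacter (Subgroup.centralizer (P : Set G)))}
    (hmax : IsMaximalBrauerPair p M B P e) {Q : Subgroup G}
    {f : Set (IrrCharacter (Subgroup.centralizer (Q : Set G)))}
    (hQf : IsBrauerPairOf p M B Q f) :
    ∃ x : G, SubpairLE p M (Q.map (MulAut.conj x).toMonoidHom) (conjBlock Q x f) P e := by
  obtain ⟨P', e', hmax', hle⟩ := exists_maximal_above hM Q f hQf
  obtain ⟨x, hx⟩ := defectGroup_conj hM hQf.2.1 (maximal_isDefectGroup hM hmax')
    (maximal_isDefectGroup hM hmax)
  subst hx
  have hpair := isBrauerPairOf_conj hM hmax'.1 x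
  have hm := maximal_of_defectGroup hM hpair (maximal_isDefectGroup hM hmax)
  obtain ⟨m, -, hme⟩ := maximal_conj_normalizer hM hm hmax
  refine ⟨m * x, ?_⟩
  have h1 := subpairLE_conj hM (subpairLE_conj hM hle x) m
  show Relation.ReflTransGen (NormalSubpairRel p M) (pairConj (m * x) ⟨Q, f⟩) _
  rw [pairConj_mul, ← hme]
  exact h1

end CfsgLib.Blocks
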