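import Cfsg.Agent.Lib.Blocks.MaximalPairs

/-!
The block of the stabilizer of a Brauer pair.
-/

namespace CfsgLib.Blocks

set_option linter.style.haveILetI false

open scoped ComplexConjugate
open Cfsg CfsgLib.Chars

universe u

variable {G : Type u} [Group G] [Fintype G] {p : ℕ} {M : Ideal AlgInt}

/-! ### Transport -/

section Transport

variable {H H' : Type u} [Group H] [Group H'] [Fintype H] [Fintype H']

theorem block_ext (hM : IsPModular p M) {b b' : Set (IrrCharacter H)} (hb : IsPBlock M b)
    (hb' : IsPBlock M b') (h : ∀ x, blockCoeff b x = blockCoeff b' x) : b = b' := by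
  obtain ⟨χ, hχ⟩ := IsPBlock.nonempty hM hb
  refine IsPBlock.eq_of_mem hM hb hb' hχ ?_
  by_contra hn
  have h1 := omega_blockCoeff b χ
  rw [funext h, omega_blockCoeff, indic_of_mem hχ, indic_of_notMem hn] at h1
  exact zero_ne_one h1

theorem isDefectGroup_mapBlock [Fact p.Prime] (φ : H ≃* H') {b : Set (IrrCharacter H)}
    {D : Subgroup H} (hD : IsDefectGroup p M b D) :
    IsDefectGroup p M (mapBlock φ b) (D.map φ.toMonoidHom) := by
  obtain ⟨g, hg, P, rfl⟩ := hD
  set C' := Subgroup.centralizer ({φ g} : Set H') with hC'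
  have hcls : IsDefectClass M (mapBlock φ b) (φ g) := by
    refine ⟨?_, ?_, fun χ hχ => ?_⟩
    · rw [blockCoeff_mapBlock]; exact hg.1
    · rw [blockCoeff_mapBlock]; exact hg.2.1
    · have h1 : centralChar (pullIrr φ χ : H → ℂ) g = centralChar (χ : H' → ℂ) (φ g) :=
        centralChar_comp_equiv φ.symm χ g
      rw [← h1]
      exact hg.2.2 _ hχ
  have hiff : ∀ c : H, φ c ∈ C' ↔ c ∈ Subgroup.centralizer ({g} : Set H) := fun c => by
    rw [hC', Subgroup.mem_centralizer_singleton_iff, Subgroup.mem_centralizer_singleton_iff,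
      ← map_mul, ← map_mul, φ.injective.eq_iff]
  set D' := ((P : Subgroup (Subgroup.centralizer ({g} : Set H))).map
    (Subgroup.centralizer ({g} : Set H)).subtype).map φ.toMonoidHom with hD'
  have hle : D' ≤ C' := by
    rintro _ ⟨_, ⟨c, -, rfl⟩, rfl⟩
    exact (hiff _).mpr c.2
  have hcard : Nat.card C' = Nat.card (Subgroup.centralizer ({g} : Set H)) :=
    (Nat.card_congr (φ.toEquiv.subtypeEquiv fun c => (hiff c).symm)).symm
  refine ⟨φ g, hcls, Sylow.ofCard (D'.subgroupOf C') ?_, ?_⟩
  · rw [Nat.card_congr (Subgroup.subgroupOfEquivOfLe hle).toEquiv, hD',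
      Subgroup.card_map_of_injective φ.injective,
      Subgroup.card_map_of_injective (Subgroup.subtype_injective _), hcard]
    exact P.card_eq_multiplicity
  · rw [Sylow.coe_ofCard, Subgroup.subgroupOf_map_subtype, inf_eq_left.mpr hle]

end Transport

/-! ### Stabilizers -/

/-- The stabilizer of a block of the centralizer, inside the normalizer. -/
def pairStab (hM : IsPModular p M) {Q : Subgroup G}
    {f : Set (IrrCharacter (Subgroup.centralizer (Q : Set G)))} (hf : IsPBlock M f) :
    Subgroup G where
  carrier := {x | x ∈ Subgroup.normalizer (Q : Set G) ∧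
    StabilizesBlock (Subgroup.centralizer (Q : Set G)) f x}
  one_mem' := ⟨one_mem _,
    (stabilizesBlock_iff_pairConj hM hf (one_mem _)).mpr (pairConj_one _)⟩
  mul_mem' := fun {x y} hx hy => ⟨mul_mem hx.1 hy.1,
    (stabilizesBlock_iff_pairConj hM hf (mul_mem hx.1 hy.1)).mpr (by
      rw [pairConj_mul, (stabilizesBlock_iff_pairConj hM hf hy.1).mp hy.2,
        (stabilizesBlock_iff_pairConj hM hf hx.1).mp hx.2])⟩
  inv_mem' := fun {x} hx => ⟨inv_mem hx.1,
    (stabilizesBlock_iff_pairConj hM hf (inv_mem hx.1)).mpr (by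
      conv_lhs => rw [← (stabilizesBlock_iff_pairConj hM hf hx.1).mp hx.2, ← pairConj_mul,
        inv_mul_cancel, pairConj_one])⟩

theorem centralizer_le_pairStab (hM : IsPModular p M) {Q : Subgroup G}
    {f : Set (IrrCharacter (Subgroup.centralizer (Q : Set G)))} (hf : IsPBlock M f) :
    Subgroup.centralizer (Q : Set G) ≤ pairStab hM hf := by
  classical
  intro x hx
  refine ⟨Subgroup.centralizer_le_normalizer (Q : Set G) hx,
    (stabilizesBlock_iff hM _ hf).mpr ⟨Subgroup.le_normalizer hx, ?_⟩⟩
  ext χ
  show pullIrr _ χ ∈ f ↔ χ ∈ f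
  have e : pullIrr (normConj (Subgroup.centralizer (Q : Set G)) (Subgroup.le_normalizer hx)) χ = χ :=
    Subtype.ext (funext fun k =>
      IsCharacter.isClassFunction (isCharacter_irr χ) k ⟨x, hx⟩)
  rw [e]

theorem le_pairStab (hM : IsPModular p M) {Q : Subgroup G}
    {f : Set (IrrCharacter (Subgroup.centralizer (Q : Set G)))} (hf : IsPBlock M f) :
    Q ≤ pairStab hM hf := by
  classical
  intro x hx
  refine ⟨Subgroup.le_normalizer hx, (stabilizesBlock_iff hM _ hf).mpr
    ⟨mem_normalizer_centralizer (Subgroup.le_normalizer hx), ?_⟩⟩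
  ext χ
  show pullIrr _ χ ∈ f ↔ χ ∈ f
  have e : pullIrr (normConj (Subgroup.centralizer (Q : Set G))
      (mem_normalizer_centralizer (Subgroup.le_normalizer hx))) χ = χ :=
    Subtype.ext (funext fun k => congrArg (χ : Subgroup.centralizer (Q : Set G) → ℂ)
      (Subtype.ext (show x * (k : G) * x⁻¹ = (k : G) by
        rw [Subgroup.mem_centralizer_iff.mp k.2 x hx, mul_inv_cancel_right])))
  rw [e]

/-! ### The block over a stable block -/

section Stab

variable {Q T : Subgroup G} {f : Set (IrrCharacter (Subgroup.centralizer (Q : Set G)))}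

theorem sbc_rest_class (hM : IsPModular p M) (hf : IsPBlock M f)
    (hst : ∀ x ∈ T, StabilizesBlock (Subgroup.centralizer (Q : Set G)) f x) :
    IsClassFunction T
      (fun t : T => subgroupBlockCoeff (Subgroup.centralizer (Q : Set G)) f (t : G)) :=
  rest_isClassFunction T (sbc_conjInv_of_stabilizes hM _ hf hst)

variable [Fintype T]

theorem conv_rest_supp {a : G → ℂ} (hCT : Subgroup.centralizer (Q : Set G) ≤ T)
    (hs : ∀ g, g ∉ Subgroup.centralizer (Q : Set G) → a g = 0) (b : G → ℂ) :
    Chars.conv (fun t : T => a (t : G)) (fun t : T => b (t : G)) =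
      fun t : T => Chars.conv a b (t : G) :=
  funext fun t => (conv_rest T (fun g hg => hs g fun h => hg (hCT h)) b t).symm

theorem blockCoeff_supp_ext0 (hM : IsPModular p M) (hQ : IsPGroup p Q) (hQT : Q ≤ T)
    (hTN : T ≤ Subgroup.normalizer (Q : Set G)) {b : Set (IrrCharacter T)} (hb : IsPBlock M b)
    {g : G} (hg : g ∉ Subgroup.centralizer (Q : Set G)) : ext0 T (blockCoeff b) g = 0 := by
  by_cases hgT : g ∈ T
  · by_contra h
    rw [ext0, dif_pos hgT] at h
    exact hg (mem_centralizer_of_blockCoeff hM hQ hQT hTN hb h)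
  · rw [ext0, dif_neg hgT]

theorem exists_stab_block (hM : IsPModular p M) (hQ : IsPGroup p Q) (hf : IsPBlock M f)
    (hQT : Q ≤ T) (hCT : Subgroup.centralizer (Q : Set G) ≤ T)
    (hTN : T ≤ Subgroup.normalizer (Q : Set G))
    (hst : ∀ x ∈ T, StabilizesBlock (Subgroup.centralizer (Q : Set G)) f x) :
    ∃ b : Set (IrrCharacter T), IsPBlock M b ∧ ∀ t : T,
      blockCoeff b t = subgroupBlockCoeff (Subgroup.centralizer (Q : Set G)) f (t : G) := by
  classical
  set E : T → ℂ := fun t => subgroupBlockCoeff (Subgroup.centralizer (Q : Set G)) f (t : G) with hEdef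
  have hEs : ∀ g, g ∉ (Subgroup.centralizer (Q : Set G)) → subgroupBlockCoeff (Subgroup.centralizer (Q : Set G)) f g = 0 := fun g hg => sbc_of_notMem _ f hg
  have hE : IsClassFunction T E := sbc_rest_class hM hf hst
  have hEl : ∀ t, MemLocalRing M (E t) := fun t => sbc_mlr hM _ hf _
  have hEE : Chars.conv E E = E := by
    rw [hEdef, conv_rest_supp hCT hEs, conv_sbc_self]
  have h01 : ∀ ξ : IrrCharacter T, omega (ξ : T → ℂ) E = 0 ∨ omega (ξ : T → ℂ) E = 1 := by
    intro ξ
    have h := omega_conv ξ hE hE
    rw [hEE] at h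
    exact IsIdempotentElem.iff_eq_zero_or_one.mp h.symm
  obtain ⟨η, hη⟩ := IsPBlock.nonempty hM hf
  have hne : ∃ k : (Subgroup.centralizer (Q : Set G)), blockCoeff f k ≠ 0 := by
    by_contra h
    push Not at h
    have h4 := omega_blockCoeff f η
    rw [indic_of_mem hη, funext h] at h4
    simp [omega] at h4
  obtain ⟨ξ, hξ⟩ : ∃ ξ : IrrCharacter T, omega (ξ : T → ℂ) E = 1 := by
    by_contra hno
    push Not at hno
    obtain ⟨k, hk⟩ := hne
    apply hk
    rw [← sbc_apply (Subgroup.centralizer (Q : Set G)) f k, show subgroupBlockCoeff (Subgroup.centralizer (Q : Set G)) f (k : G) = E ⟨(k : G), hCT k.2⟩ from rfl,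
      ← congrFun (coeffFun_omega hE) ⟨(k : G), hCT k.2⟩]
    simp only [coeffFun]
    rw [Finset.sum_eq_zero, mul_zero]
    intro ξ _
    rw [(h01 ξ).resolve_right (hno ξ), zero_mul, zero_mul]
  have hb : IsPBlock M (blockOf M (ξ : T → ℂ)) := isPBlock_blockOf ξ
  refine ⟨_, hb, fun t => ?_⟩
  set eb := blockCoeff (blockOf M (ξ : T → ℂ)) with hebdef
  have hebcl : IsClassFunction T eb := blockCoeff_isClassFunction _
  have heq : Chars.conv eb E = eb := by
    rw [hebdef, funext (blockCoeff_eq_coeffFun (blockOf M (ξ : T → ℂ))),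
      show E = coeffFun (fun θ : IrrCharacter T => omega (θ : T → ℂ) E) from
        funext fun n => (congrFun (coeffFun_omega hE) n).symm, ← coeffFun_mul]
    congr 1
    funext θ
    by_cases hθ : θ ∈ blockOf M (ξ : T → ℂ)
    · have h1 : omega (θ : T → ℂ) E = 1 := by
        refine (h01 θ).resolve_left fun h0 => not_mli_one hM ?_
        have := mli_omega_sub hM (IsPBlock.sameBlock hM hb (self_mem_blockOf hM ξ) hθ) hE hEl
        rwa [hξ, h0, sub_zero] at this
      rw [Pi.mul_apply, h1, mul_one]
    · rw [Pi.mul_apply, indic_of_notMem hθ, zero_mul]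
  -- the idempotent of `b`, seen on `G`
  set b' := ext0 T eb with hb'
  have hbs : ∀ g, g ∉ (Subgroup.centralizer (Q : Set G)) → b' g = 0 := fun g hg => blockCoeff_supp_ext0 hM hQ hQT hTN hb hg
  have hbrest : (fun t : T => b' (t : G)) = eb := funext fun t => ext0_apply T _ t
  have hbK : ConjInv (Subgroup.centralizer (Q : Set G)) b' := fun s hs g => ext0_conj T hebcl (hCT hs) g
  have hbb : Chars.conv b' b' = b' := by
    rw [hb', conv_ext0, hebdef, conv_blockCoeff_self]
  set r : (Subgroup.centralizer (Q : Set G)) → ℂ := fun k => b' (k : G)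
  have hr : IsClassFunction (Subgroup.centralizer (Q : Set G)) r := rest_isClassFunction (Subgroup.centralizer (Q : Set G)) hbK
  have hrr : Chars.conv r r = r := funext fun k => by
    rw [← conv_rest (Subgroup.centralizer (Q : Set G)) hbs b' k, hbb]
  have hrl : ∀ k, MemLocalRing M (r k) := fun k => by
    show MemLocalRing M (ext0 T eb (k : G))
    rw [ext0, dif_pos (hCT k.2)]
    exact mlr_blockCoeff hM hb _
  have hc01 : ∀ θ : IrrCharacter (Subgroup.centralizer (Q : Set G)), omega (θ : (Subgroup.centralizer (Q : Set G)) → ℂ) r = 0 ∨ omega (θ : (Subgroup.centralizer (Q : Set G)) → ℂ) r = 1 := by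
    intro θ
    have h := omega_conv θ hr hr
    rw [hrr] at h
    exact IsIdempotentElem.iff_eq_zero_or_one.mp h.symm
  have hconv : ∀ g, Chars.conv (subgroupBlockCoeff (Subgroup.centralizer (Q : Set G)) f) b' g =
      omega (η : (Subgroup.centralizer (Q : Set G)) → ℂ) r * subgroupBlockCoeff (Subgroup.centralizer (Q : Set G)) f g := by
    intro g
    by_cases hg : g ∈ (Subgroup.centralizer (Q : Set G))
    · rw [show g = ((⟨g, hg⟩ : (Subgroup.centralizer (Q : Set G))) : G) from rfl, conv_rest (Subgroup.centralizer (Q : Set G)) hEs, sbc_apply,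
        show (fun x : (Subgroup.centralizer (Q : Set G)) => subgroupBlockCoeff (Subgroup.centralizer (Q : Set G)) f (x : G)) = blockCoeff f from
          funext fun x => sbc_apply (Subgroup.centralizer (Q : Set G)) f x, funext (blockCoeff_eq_coeffFun f)]
      conv_lhs => rw [show (fun x : (Subgroup.centralizer (Q : Set G)) => b' (x : G)) = coeffFun (fun θ : IrrCharacter (Subgroup.centralizer (Q : Set G)) =>
          omega (θ : (Subgroup.centralizer (Q : Set G)) → ℂ) r) from funext fun n => (congrFun (coeffFun_omega hr) n).symm,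
        ← coeffFun_mul]
      simp only [coeffFun, Pi.mul_apply, Finset.mul_sum]
      refine Finset.sum_congr rfl fun θ _ => ?_
      by_cases hθ : θ ∈ f
      · have hval : omega (θ : (Subgroup.centralizer (Q : Set G)) → ℂ) r = omega (η : (Subgroup.centralizer (Q : Set G)) → ℂ) r := by
          have hs := mli_omega_sub hM (IsPBlock.sameBlock hM hf hθ hη) hr hrl
          rcases hc01 θ with h1 | h1 <;> rcases hc01 η with h2 | h2
          · rw [h1, h2]
          · exfalso
            rw [h1, h2] at hs
            exact not_mli_one hM (by simpa using mli_neg hs)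
          · exfalso
            rw [h1, h2] at hs
            exact not_mli_one hM (by simpa using hs)
          · rw [h1, h2]
        rw [hval]; ring
      · rw [indic_of_notMem hθ]; ring
    · rw [sbc_of_notMem (Subgroup.centralizer (Q : Set G)) f hg, mul_zero]
      simp only [Chars.conv]
      refine Finset.sum_eq_zero fun y _ => ?_
      by_cases hy : y ∈ (Subgroup.centralizer (Q : Set G))
      · rw [hbs _ fun h => hg (by simpa using mul_mem hy h), mul_zero]
      · rw [hEs y hy, zero_mul]
  have hkey : ∀ t : T, eb t = omega (η : (Subgroup.centralizer (Q : Set G)) → ℂ) r * E t := by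
    intro t
    rw [← congrFun heq t, conv_comm_classFunction hebcl, ← hbrest, hEdef,
      conv_rest_supp hCT hEs]
    exact hconv (t : G)
  rw [hkey t]
  rcases hc01 η with h0 | h1
  · exfalso
    obtain ⟨φ, hφ⟩ := IsPBlock.nonempty hM hb
    have h4 := omega_blockCoeff (blockOf M (ξ : T → ℂ)) φ
    rw [indic_of_mem hφ, show blockCoeff (blockOf M (ξ : T → ℂ)) = fun _ => (0 : ℂ) from
      funext fun t => by rw [← hebdef, hkey t, h0, zero_mul]] at h4
    simp [omega] at h4
  · rw [h1, one_mul]

/-- Brauer images seen in the block over a stable block. -/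
theorem omega_trunc_stab (hM : IsPModular p M) (hQ : IsPGroup p Q) (hf : IsPBlock M f)
    (hCT : Subgroup.centralizer (Q : Set G) ≤ T)
    (hTN : T ≤ Subgroup.normalizer (Q : Set G)) {b : Set (IrrCharacter T)}
    (hcoef : ∀ t : T,
      blockCoeff b t = subgroupBlockCoeff (Subgroup.centralizer (Q : Set G)) f (t : G))
    {ξ : IrrCharacter T} (hξ : ξ ∈ b) {η : IrrCharacter (Subgroup.centralizer (Q : Set G))}
    (hη : η ∈ f) {a : G → ℂ} (ha : IsClassFunction G a) (hl : ∀ g, MemLocalRing M (a g))
    (haa : Chars.conv a a = a) :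
    MemLocalIdeal M (brVal Q T (ξ : T → ℂ) a -
      brauerOmega Q a (η : Subgroup.centralizer (Q : Set G) → ℂ)) := by
  classical
  set r := brTrunc Q T a with hr'
  have hr : IsClassFunction T r := brTrunc_isClassFunction hTN ha
  set c := brauerOmega Q a (η : (Subgroup.centralizer (Q : Set G)) → ℂ) with hc
  set E := blockCoeff b
  have hEcl : IsClassFunction T E := blockCoeff_isClassFunction b
  have key : ∀ n : T, MemLocalIdeal M (Chars.conv E r n - c * E n) := by
    intro n
    by_cases hn : (n : G) ∈ (Subgroup.centralizer (Q : Set G))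
    · have e1 : Chars.conv E r n = Chars.conv (subgroupBlockCoeff (Subgroup.centralizer (Q : Set G)) f) a (n : G) := by
        rw [conv_rest T (fun g hg => sbc_of_notMem (Subgroup.centralizer (Q : Set G)) f fun h => hg (hCT h))]
        simp only [Chars.conv, E, hcoef]
        refine Finset.sum_congr rfl fun y _ => ?_
        by_cases hy : (y : G) ∈ (Subgroup.centralizer (Q : Set G))
        · have : (y : G)⁻¹ * (n : G) ∈ (Subgroup.centralizer (Q : Set G)) := mul_mem (inv_mem hy) hn
          simp only [r, brTrunc, Subgroup.coe_mul, InvMemClass.coe_inv]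
          rw [if_pos this]
        · simp [sbc_of_notMem (Subgroup.centralizer (Q : Set G)) f hy]
      rw [e1, show E n = subgroupBlockCoeff (Subgroup.centralizer (Q : Set G)) f (n : G) from hcoef n,
        conv_rest (Subgroup.centralizer (Q : Set G)) (fun g hg => sbc_of_notMem (Subgroup.centralizer (Q : Set G)) f hg) a ⟨(n : G), hn⟩,
        show (fun x : (Subgroup.centralizer (Q : Set G)) => subgroupBlockCoeff (Subgroup.centralizer (Q : Set G)) f (x : G)) = blockCoeff f from
          funext fun x => sbc_apply (Subgroup.centralizer (Q : Set G)) f x,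
        show subgroupBlockCoeff (Subgroup.centralizer (Q : Set G)) f (n : G) = blockCoeff f ⟨(n : G), hn⟩ from
          sbc_apply (Subgroup.centralizer (Q : Set G)) f ⟨(n : G), hn⟩, hc, brauerOmega_eq_omega]
      exact mli_conv_block hM hf hη (rest_isClassFunction _ (ConjInv.of_isClassFunction ha))
        (fun x => hl x) (fun x => by
          have := mli_conv_rest hM hQ (ConjInv.of_isClassFunction (S := Q) ha)
            (ConjInv.of_isClassFunction ha) hl hl x
          rw [haa] at this
          have := mli_neg this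
          rwa [neg_sub] at this) ⟨(n : G), hn⟩
    · have hE0 : E n = 0 := by rw [show E n = _ from hcoef n, sbc_of_notMem (Subgroup.centralizer (Q : Set G)) f hn]
      have h0 : Chars.conv E r n = 0 := by
        simp only [Chars.conv]
        refine Finset.sum_eq_zero fun y _ => ?_
        by_cases hy : (y : G) ∈ (Subgroup.centralizer (Q : Set G))
        · have : (y : G)⁻¹ * (n : G) ∉ (Subgroup.centralizer (Q : Set G)) := fun h' => hn (by simpa using mul_mem hy h')
          simp only [r, brTrunc, Subgroup.coe_mul, InvMemClass.coe_inv]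
          rw [if_neg this, mul_zero]
        · rw [show E y = _ from hcoef y, sbc_of_notMem (Subgroup.centralizer (Q : Set G)) f hy, zero_mul]
      simp [h0, hE0, mli_zero hM]
  have h1 : MemLocalIdeal M (omega (ξ : T → ℂ) (Chars.conv E r) -
      omega (ξ : T → ℂ) (fun n => c * E n)) := by
    rw [← omega_sub]
    refine mli_omega hM ξ (fun x z => ?_) key
    show Chars.conv E r (z * x * z⁻¹) - c * E (z * x * z⁻¹) = Chars.conv E r x - c * E x
    rw [IsClassFunction.conv hEcl hr x z, hEcl x z]
  rw [omega_conv ξ hEcl hr, omega_const_mul,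
    show omega (ξ : T → ℂ) E = 1 from by rw [omega_blockCoeff, indic_of_mem hξ], one_mul,
    mul_one] at h1
  exact h1

end Stab

/-- A unit coefficient on the centralizer of a larger group gives a pair above. -/
theorem exists_pair_above_of_unit (hM : IsPModular p M) {Q R : Subgroup G}
    {f : Set (IrrCharacter (Subgroup.centralizer (Q : Set G)))} (hf : IsPBlock M f)
    (hR : IsPGroup p R) (hQR : Q ≤ R) (hRN : R ≤ Subgroup.normalizer (Q : Set G))
    (hst : ∀ x ∈ R, StabilizesBlock (Subgroup.centralizer (Q : Set G)) f x) {z : G}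
    (hzC : z ∈ Subgroup.centralizer (R : Set G))
    (hz : ¬ MemLocalIdeal M (subgroupBlockCoeff (Subgroup.centralizer (Q : Set G)) f z)) :
    ∃ g : Set (IrrCharacter (Subgroup.centralizer (R : Set G))),
      IsNormalSubpair p M Q f R g := by
  classical
  have hCR : Subgroup.centralizer (R : Set G) ≤ Subgroup.centralizer (Q : Set G) :=
    Subgroup.centralizer_le hQR
  have hinv := sbc_conjInv_of_stabilizes hM _ hf hst
  obtain ⟨g, hg, h1⟩ := exists_block_omega_one hM
    (rest_isClassFunction (Subgroup.centralizer (R : Set G)) ((sbc_conjInv_self _ f).mono hCR))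
    (fun x => sbc_mlr hM _ hf _) (fun x => by
      have := mli_conv_rest hM hR hinv hinv (sbc_mlr hM _ hf) (sbc_mlr hM _ hf) x
      rw [conv_sbc_self] at this
      have := mli_neg this
      rwa [neg_sub] at this) (z := ⟨z, hzC⟩) hz
  exact ⟨g, ⟨hR.to_le hQR, hf⟩, ⟨hR, hg⟩, hQR, hRN, hst,
    fun η hη => by rw [brauerOmega_eq_omega]; exact h1 η hη⟩

/-- A normal inclusion gives a unit coefficient on the larger centralizer. -/
theorem exists_unit_of_normalSubpair (hM : IsPModular p M) {Q R : Subgroup G}
    {f : Set (IrrCharacter (Subgroup.centralizer (Q : Set G)))}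
    {g : Set (IrrCharacter (Subgroup.centralizer (R : Set G)))}
    (h : IsNormalSubpair p M Q f R g) :
    ∃ z ∈ Subgroup.centralizer (R : Set G),
      ¬ MemLocalIdeal M (subgroupBlockCoeff (Subgroup.centralizer (Q : Set G)) f z) := by
  classical
  by_contra hno
  push Not at hno
  obtain ⟨ξ, hξ⟩ := IsPBlock.nonempty hM h.2.1.2
  refine not_mli_of_sub_one hM (h.2.2.2.2.2 ξ hξ) ?_
  rw [brauerOmega_eq_omega]
  exact mli_omega hM ξ (rest_isClassFunction _
    ((sbc_conjInv_self _ f).mono (Subgroup.centralizer_le h.2.2.1))) fun c => hno c c.2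

/-- Pairs between `Q` and a pair above it, on subgroups normalizing `Q`, contain it normally. -/
theorem normalSubpair_of_le (hM : IsPModular p M) {Q R P : Subgroup G}
    {f : Set (IrrCharacter (Subgroup.centralizer (Q : Set G)))}
    {g : Set (IrrCharacter (Subgroup.centralizer (R : Set G)))}
    {e : Set (IrrCharacter (Subgroup.centralizer (P : Set G)))}
    (hPe : IsBrauerPair p M P e) (hf : SubpairLE p M Q f P e) (hg : SubpairLE p M R g P e)
    (hQR : Q ≤ R) (hRN : R ≤ Subgroup.normalizer (Q : Set G)) :
    IsNormalSubpair p M Q f R g := by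
  obtain ⟨f', hf', -⟩ := existsUnique_normal_below hM (SubpairLE.left_block hg hPe) hQR hRN
  obtain rfl := subpair_below_unique hM hPe Q f' f
    (Relation.ReflTransGen.head (show NormalSubpairRel p M ⟨Q, f'⟩ ⟨R, g⟩ from hf') hg) hf
  exact hf'

end CfsgLib.Blocks
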