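import Cfsg.Agent.Lib.Blocks.MaximalPairs
import Cfsg.Agent.Lib.Blocks.StabBlock
import Mathlib.GroupTheory.GroupAction.Quotient

/-!
A block over a normal `p`-subgroup is the trace of a block of the centralizer.
-/

namespace CfsgLib.Blocks

set_option linter.style.haveILetI false

open scoped ComplexConjugate
open Cfsg CfsgLib.Chars

universe u

variable {G : Type u} [Group G] [Fintype G] {p : ℕ} {M : Ideal AlgInt}

omit [Fintype G] in
theorem sum_smul_eq_card_mul {A α : Type*} [Group A] [Fintype A] [MulAction A α] [Fintype α]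
    [DecidableEq α] (a : α) (F : α → ℂ) [Fintype (MulAction.orbit A a)] :
    ∑ x : A, F (x • a) = (Nat.card (MulAction.stabilizer A a) : ℂ) *
      ∑ b ∈ (MulAction.orbit A a).toFinset, F b := by
  rw [← Finset.sum_fiberwise_of_maps_to (s := Finset.univ)
    (t := (MulAction.orbit A a).toFinset) (g := fun x : A => x • a)
    (fun x _ => Set.mem_toFinset.mpr ⟨x, rfl⟩) (fun x => F (x • a)), Finset.mul_sum]
  refine Finset.sum_congr rfl fun b hb => ?_
  obtain ⟨y, rfl⟩ := Set.mem_toFinset.mp hb
  rw [Finset.sum_congr rfl (g := fun _ => F (y • a)) fun x hx => by rw [(Finset.mem_filter.mp hx).2],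
    Finset.sum_const, nsmul_eq_mul]
  congr 2
  rw [← Fintype.card_subtype, ← Nat.card_eq_fintype_card]
  refine Nat.card_congr
    { toFun := fun x => ⟨y⁻¹ * x.1, by rw [MulAction.mem_stabilizer_iff, mul_smul, x.2, inv_smul_smul]⟩
      invFun := fun s => ⟨y * s.1, by rw [mul_smul, MulAction.mem_stabilizer_iff.mp s.2]⟩
      left_inv := fun x => Subtype.ext (mul_inv_cancel_left _ _)
      right_inv := fun s => Subtype.ext (inv_mul_cancel_left _ _) }

variable {P : Subgroup G} {B : Set (IrrCharacter G)}

/-- Over a normal `p`-subgroup the idempotent of a block is the orbit sum of that of a pair. -/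
theorem blockCoeff_eq_orbE (hM : IsPModular p M) [hn : P.Normal] (hP : IsPGroup p P) (e : CBlock M P)
    (hBe : IsBrauerPairOf p M B P e.1) (g : G) : blockCoeff B g = orbE hM P e g := by
  classical
  have hB := hBe.2.1
  have hcl := blockCoeff_isClassFunction B
  have hsupp : ∀ x, x ∉ Subgroup.centralizer (P : Set G) → blockCoeff B x = 0 :=
    fun x hx => blockCoeff_eq_zero_of_notMem hM P hP hB hx
  have hall : ∀ x : G, x ∈ Subgroup.normalizer (P : Set G) := fun x => by
    rw [Subgroup.normalizer_eq_top]; exact Subgroup.mem_top x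
  have hEc : IsClassFunction G (orbE hM P e) := fun x y => orbE_conj hM P e (hall y) x
  -- each conjugate of `e` is fixed by the idempotent
  obtain ⟨S, hS, eS⟩ := orbE_eq_sum hM P e
  have hfix : ∀ h ∈ S, Chars.conv (subgroupBlockCoeff (Subgroup.centralizer (P : Set G)) h.1) (blockCoeff B) =
      subgroupBlockCoeff (Subgroup.centralizer (P : Set G)) h.1 := by
    intro h hh
    letI := cBlockAction hM P
    obtain ⟨m, hm⟩ := (hS h).mp hh
    have hpair : IsBrauerPairOf p M B P h.1 := by
      have h2 := isBrauerPairOf_conj hM hBe (m : G)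
      have key : ∀ a b : BrauerPairIdx G, a = b → IsBrauerPairOf p M B a.1 a.2 →
          IsBrauerPairOf p M B b.1 b.2 := fun a b h => h ▸ id
      rw [← hm]
      exact key _ _ (pairConj_normalizer P m.2 e.1) h2
    funext x
    by_cases hx : x ∈ Subgroup.centralizer (P : Set G)
    · set r : Subgroup.centralizer (P : Set G) → ℂ := fun k => blockCoeff B (k : G) with hr
      have hrc : IsClassFunction _ r := rest_isClassFunction _ (ConjInv.of_isClassFunction hcl)
      have hrr : Chars.conv r r = r := funext fun k => by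
        rw [← conv_rest _ hsupp (blockCoeff B) k, conv_blockCoeff_self]
      have hone : ∀ θ ∈ h.1, omega (θ : Subgroup.centralizer (P : Set G) → ℂ) r = 1 := by
        intro θ hθ
        have h' := omega_conv θ hrc hrc
        rw [hrr] at h'
        refine (IsIdempotentElem.iff_eq_zero_or_one.mp h'.symm).resolve_left fun h0 => ?_
        have h1 := hpair.2.2 θ hθ
        rw [brauerOmega_eq_omega, show omega (θ : Subgroup.centralizer (P : Set G) → ℂ)
          (fun c : Subgroup.centralizer (P : Set G) => blockCoeff B (c : G)) = 0 from h0] at h1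
        exact not_mli_of_sub_one hM h1 (mli_zero hM)
      rw [show x = ((⟨x, hx⟩ : Subgroup.centralizer (P : Set G)) : G) from rfl,
        conv_rest _ (fun y hy => sbc_of_notMem _ h.1 hy),
        show (fun y : Subgroup.centralizer (P : Set G) => subgroupBlockCoeff _ h.1 (y : G)) =
          blockCoeff h.1 from funext fun y => sbc_apply _ h.1 y, sbc_apply,
        funext (blockCoeff_eq_coeffFun h.1)]
      conv_lhs => rw [show (fun y : Subgroup.centralizer (P : Set G) => blockCoeff B (y : G)) =
        coeffFun (fun θ : IrrCharacter (Subgroup.centralizer (P : Set G)) =>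
          omega (θ : Subgroup.centralizer (P : Set G) → ℂ) r) from (coeffFun_omega hrc).symm,
        ← coeffFun_mul]
      congr 1
      funext θ
      by_cases hθ : θ ∈ h.1
      · rw [Pi.mul_apply, hone θ hθ, mul_one]
      · rw [Pi.mul_apply, indic_of_notMem hθ, zero_mul]
    · rw [sbc_of_notMem _ _ hx]
      refine Finset.sum_eq_zero fun y _ => ?_
      by_cases hy : y ∈ Subgroup.centralizer (P : Set G)
      · rw [hsupp _ fun h' => hx (by simpa using mul_mem hy h'), mul_zero]
      · rw [sbc_of_notMem _ _ hy, zero_mul]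
  have hEB : Chars.conv (orbE hM P e) (blockCoeff B) = orbE hM P e := by
    rw [eS, conv_sum_left]
    funext x
    exact Finset.sum_congr rfl fun h hh => congrFun (hfix h hh) x
  have h01 : ∀ χ : IrrCharacter G,
      omega (χ : G → ℂ) (orbE hM P e) = 0 ∨ omega (χ : G → ℂ) (orbE hM P e) = 1 := fun χ => by
    have h := omega_conv χ hEc hEc
    rw [conv_orbE_self] at h
    exact IsIdempotentElem.iff_eq_zero_or_one.mp h.symm
  have hprod : ∀ χ : IrrCharacter G,
      omega (χ : G → ℂ) (orbE hM P e) = omega (χ : G → ℂ) (orbE hM P e) * indic B χ := fun χ => by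
    conv_lhs => rw [← hEB, omega_conv χ hEc hcl, omega_blockCoeff]
  obtain ⟨χ₁, hχ₁⟩ : ∃ χ : IrrCharacter G, omega (χ : G → ℂ) (orbE hM P e) = 1 := by
    by_contra hno
    push Not at hno
    have h0 : orbE hM P e = fun _ => 0 := by
      rw [← coeffFun_omega hEc]
      funext x
      simp [coeffFun, fun χ => (h01 χ).resolve_right (hno χ)]
    obtain ⟨η, hη⟩ := IsPBlock.nonempty hM e.2
    letI := cBlockAction hM P
    have h2 := (conv_sbc_orbE hM P e e).1 ⟨1, one_smul _ e⟩
    rw [h0] at h2
    have h3 : ∀ c : Subgroup.centralizer (P : Set G), blockCoeff e.1 c = 0 := fun c => by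
      rw [← sbc_apply, ← h2]; simp [Chars.conv]
    have h4 := omega_blockCoeff e.1 η
    rw [indic_of_mem hη, funext h3] at h4
    simp [omega] at h4
  have hχ₁B : χ₁ ∈ B := by
    by_contra h
    have := hprod χ₁
    rw [hχ₁, indic_of_notMem h, mul_zero] at this
    exact one_ne_zero this
  rw [blockCoeff_eq_coeffFun, ← congrFun (coeffFun_omega hEc) g]
  congr 1
  funext χ
  by_cases hχ : χ ∈ B
  · rw [indic_of_mem hχ]
    refine ((h01 χ).resolve_left fun h0 => not_mli_one hM ?_).symm
    have := mli_omega_sub hM (IsPBlock.sameBlock hM hB hχ₁B hχ) hEc fun x => mlr_orbE hM P e x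
    rwa [hχ₁, h0, sub_zero] at this
  · rw [hprod χ, indic_of_notMem hχ, mul_zero]

theorem orbE_eq_trace (hM : IsPModular p M) [hn : P.Normal] (e : CBlock M P) {T : Subgroup G}
    (hT : ∀ x : G, x ∈ T ↔ StabilizesBlock (Subgroup.centralizer (P : Set G)) e.1 x) (g : G) :
    orbE hM P e g = (Nat.card T : ℂ)⁻¹ *
      ∑ x : G, subgroupBlockCoeff (Subgroup.centralizer (P : Set G)) e.1 (x⁻¹ * g * x) := by
  classical
  letI := cBlockAction hM P
  haveI : Fintype (CBlock M P) := Fintype.ofFinite _
  haveI : Fintype (Subgroup.normalizer (P : Set G)) := Fintype.ofFinite _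
  have hall : ∀ x : G, x ∈ Subgroup.normalizer (P : Set G) := fun x => by
    rw [Subgroup.normalizer_eq_top]; exact Subgroup.mem_top x
  have h1 : ∑ x : G, subgroupBlockCoeff (Subgroup.centralizer (P : Set G)) e.1 (x⁻¹ * g * x) =
      ∑ m : Subgroup.normalizer (P : Set G),
        subgroupBlockCoeff (Subgroup.centralizer (P : Set G)) (m • e : CBlock M P).1 g := by
    refine (Fintype.sum_bijective (fun m : Subgroup.normalizer (P : Set G) => (m : G))
      ⟨Subtype.val_injective, fun x => ⟨⟨x, hall x⟩, rfl⟩⟩ _ _ fun m => ?_).symm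
    conv_lhs => rw [show g = (m : G) * ((m : G)⁻¹ * g * (m : G)) * (m : G)⁻¹ by group]
    exact sbc_mapBlock_conj _ (mem_normalizer_centralizer m.2) e.1 _
  have h2 : Nat.card (MulAction.stabilizer (Subgroup.normalizer (P : Set G)) e) = Nat.card T := by
    refine Nat.card_congr
      { toFun := fun m => ⟨(m.1 : G), (hT _).mpr ((stabilizesBlock_iff hM _ e.2).mpr
          ⟨mem_normalizer_centralizer m.1.2,
            congrArg Subtype.val (MulAction.mem_stabilizer_iff.mp m.2)⟩)⟩
        invFun := fun t => ⟨⟨(t : G), hall t⟩, MulAction.mem_stabilizer_iff.mpr (Subtype.ext (by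
          obtain ⟨_, h⟩ := (stabilizesBlock_iff hM _ e.2).mp ((hT _).mp t.2)
          exact h))⟩
        left_inv := fun m => Subtype.ext (Subtype.ext rfl)
        right_inv := fun t => Subtype.ext rfl }
  rw [h1, sum_smul_eq_card_mul e (fun h : CBlock M P => subgroupBlockCoeff _ h.1 g), h2,
    inv_mul_cancel_left₀ (Nat.cast_ne_zero.mpr Nat.card_pos.ne')]
  simp only [orbE]
  rw [finsum_mem_eq_toFinset_sum]

theorem normal_trace (hM : IsPModular p M) [hn : P.Normal] (hP : IsPGroup p P)
    {e : Set (IrrCharacter (Subgroup.centralizer (P : Set G)))}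
    (hBe : IsBrauerPairOf p M B P e) {T : Subgroup G}
    (hT : ∀ x : G, x ∈ T ↔ StabilizesBlock (Subgroup.centralizer (P : Set G)) e x) :
    (∃ E : Set (IrrCharacter T), IsPBlock M E ∧ ∀ t : T,
      blockCoeff E t = subgroupBlockCoeff (Subgroup.centralizer (P : Set G)) e (t : G)) ∧
    ∀ g : G, blockCoeff B g = (Nat.card T : ℂ)⁻¹ *
      ∑ x : G, subgroupBlockCoeff (Subgroup.centralizer (P : Set G)) e (x⁻¹ * g * x) := by
  classical
  refine ⟨?_, fun g => ?_⟩
  · haveI : Fintype T := Fintype.ofFinite _
    exact exists_stab_block hM hP hBe.1.2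
      (fun x hx => (hT x).mpr (le_pairStab hM hBe.1.2 hx).2)
      (fun x hx => (hT x).mpr (centralizer_le_pairStab hM hBe.1.2 hx).2)
      (fun x _ => by rw [Subgroup.normalizer_eq_top]; exact Subgroup.mem_top x)
      fun x hx => (hT x).mp hx
  · rw [blockCoeff_eq_orbE hM hP ⟨e, hBe.1.2⟩ hBe, orbE_eq_trace hM ⟨e, hBe.1.2⟩ hT]

end CfsgLib.Blocks
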