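import Cfsg.Agent.Lib.Blocks.DefectClass
import Cfsg.Agent.Lib.Chars.Clifford
import Cfsg.Agent.Lib.Chars.Kernel

/-!
Blocks and inflation from a quotient, in particular by a normal `p`-subgroup.
-/

namespace CfsgLib.Blocks

open scoped ComplexConjugate
open Cfsg CfsgLib.Chars

universe u

variable {G : Type u} [Group G] [Fintype G] {p : ℕ} {M : Ideal AlgInt}

/-- Every block has a member trivial on a given normal `p`-subgroup. -/
theorem exists_trivial_on_pgroup (hM : IsPModular p M) (Q : Subgroup G) [Q.Normal]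
    (hQ : IsPGroup p Q) {B : Set (IrrCharacter G)} (hB : IsPBlock M B) :
    ∃ χ ∈ B, ∀ q ∈ Q, (χ : G → ℂ) q = (χ : G → ℂ) 1 := by
  classical
  haveI : Fact p.Prime := ⟨hM.1⟩
  haveI : Fintype Q := Fintype.ofFinite Q
  by_contra hn
  push Not at hn
  have h0 : ∀ χ ∈ B, ∑ q : Q, conj ((χ : G → ℂ) q) = 0 := by
    intro χ hχ
    by_contra hne
    have hin : classInner (fun n : Q => (χ : G → ℂ) n) (trivIrr Q : Q → ℂ) ≠ 0 := by
      simp only [classInner, trivIrr, map_one, mul_one]
      refine mul_ne_zero (inv_ne_zero (natCast_card_ne_zero Q)) fun h => hne ?_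
      rw [← map_sum, h, map_zero]
    obtain ⟨e, -, -, hval, -⟩ := clifford Q χ (trivIrr Q) hin
    obtain ⟨q, hq, hqne⟩ := hn χ hχ
    have horb : ∀ φ ∈ orbit Q (trivIrr Q), ∀ m : Q, (φ : Q → ℂ) m = 1 := by
      intro φ hφ m
      obtain ⟨g, rfl⟩ := (mem_orbit Q).mp hφ
      rw [conjIrr_apply]; rfl
    have e1 := hval ⟨q, hq⟩
    have e2 := hval 1
    rw [Finset.sum_congr rfl fun φ hφ => horb φ hφ _] at e1 e2
    exact hqne (e1.trans e2.symm)
  obtain ⟨φ, hφ⟩ := IsPBlock.nonempty hM hB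
  have h1 : ∑ χ ∈ Finset.univ.filter (· ∈ B), (χ : G → ℂ) 1 * ∑ q : Q, conj ((χ : G → ℂ) q) = 0 :=
    Finset.sum_eq_zero fun χ hχ => by rw [h0 χ (Finset.mem_filter.mp hχ).2, mul_zero]
  simp only [Finset.mul_sum] at h1
  rw [Finset.sum_comm, Finset.sum_eq_single (1 : Q)] at h1
  · have h2 : ∀ χ ∈ Finset.univ.filter (· ∈ B), (χ : G → ℂ) 1 * conj ((χ : G → ℂ) ((1 : Q) : G)) =
        ((charDegree (χ : G → ℂ) ^ 2 : ℕ) : ℂ) := fun χ _ => by
      rw [OneMemClass.coe_one, irr_apply_one, map_natCast, Nat.cast_pow, sq]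
    rw [Finset.sum_congr rfl h2, ← Nat.cast_sum, Nat.cast_eq_zero, Finset.sum_eq_zero_iff] at h1
    exact pow_ne_zero 2 (charDegree_pos φ).ne'
      (h1 φ (Finset.mem_filter.mpr ⟨Finset.mem_univ _, hφ⟩))
  · intro q _ hq
    refine weak_orthogonality hM hB (not_dvd_orderOf_one hM) ?_
    rw [Subgroup.orderOf_coe]
    exact IsPGroup.dvd_orderOf hQ hq
  · simp

/-- Every block contains an inflation from the quotient by a normal `p`-subgroup. -/
theorem exists_inflate_mem (hM : IsPModular p M) (Q : Subgroup G) [Q.Normal] (hQ : IsPGroup p Q)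
    {B : Set (IrrCharacter G)} (hB : IsPBlock M B) :
    ∃ χ : IrrCharacter (G ⧸ Q), ∃ θ ∈ B, (θ : G → ℂ) = (χ : G ⧸ Q → ℂ) ∘ QuotientGroup.mk := by
  obtain ⟨θ, hθ, h⟩ := exists_trivial_on_pgroup hM Q hQ hB
  obtain ⟨χ, hχ⟩ := exists_deflate Q θ h
  exact ⟨χ, θ, hθ, hχ⟩

omit [Fintype G] in
theorem centralizer_le_comap (N : Subgroup G) [N.Normal] (g : G) :
    Subgroup.centralizer ({g} : Set G) ≤
      (Subgroup.centralizer ({(g : G ⧸ N)} : Set (G ⧸ N))).comap (QuotientGroup.mk' N) := fun y hy =>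
  Subgroup.mem_centralizer_singleton_iff.mpr (by
    have h := congrArg (QuotientGroup.mk' N) (Subgroup.mem_centralizer_singleton_iff.mp hy)
    simpa using h)

/-- The central character of an inflation. -/
theorem centralChar_inflate (N : Subgroup G) [N.Normal] (φ : G ⧸ N → ℂ) (g : G) :
    centralChar (φ ∘ QuotientGroup.mk) g =
      ((Subgroup.centralizer ({g} : Set G)).relIndex
        ((Subgroup.centralizer ({(g : G ⧸ N)} : Set (G ⧸ N))).comap (QuotientGroup.mk' N)) : ℂ) *
        centralChar φ (g : G ⧸ N) := by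
  rw [centralChar, centralChar, Function.comp_apply, Function.comp_apply, QuotientGroup.mk_one,
    ← Subgroup.relIndex_mul_index (centralizer_le_comap N g),
    Subgroup.index_comap_of_surjective _ (QuotientGroup.mk'_surjective N)]
  push_cast
  ring

/-- Characters in one block of a quotient inflate into one block. -/
theorem sameBlock_inflate (hM : IsPModular p M) (N : Subgroup G) [N.Normal] {φ ψ : G ⧸ N → ℂ}
    (h : SameBlock M φ ψ) :
    SameBlock M (φ ∘ QuotientGroup.mk) (ψ ∘ QuotientGroup.mk) := fun g => by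
  rw [centralChar_inflate, centralChar_inflate, ← mul_sub]
  exact mli_mul_left hM (mlr_natCast hM _) (h _)

/-- Descending equality of blocks to a quotient, when the regular classes lift well. -/
theorem sameBlock_deflate_of_lift (hM : IsPModular p M) (N : Subgroup G) [N.Normal]
    {φ ψ : IrrCharacter (G ⧸ N)}
    (h : SameBlock M ((φ : G ⧸ N → ℂ) ∘ QuotientGroup.mk) ((ψ : G ⧸ N → ℂ) ∘ QuotientGroup.mk))
    (hlift : ∀ q : G ⧸ N, ¬ p ∣ orderOf q →
      (∃ g : G, (g : G ⧸ N) = q ∧ ¬ p ∣ (Subgroup.centralizer ({g} : Set G)).relIndex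
        ((Subgroup.centralizer ({(g : G ⧸ N)} : Set (G ⧸ N))).comap (QuotientGroup.mk' N))) ∨
      ∀ θ : IrrCharacter (G ⧸ N), MemLocalIdeal M (centralChar (θ : G ⧸ N → ℂ) q)) :
    SameBlock M (φ : G ⧸ N → ℂ) (ψ : G ⧸ N → ℂ) := by
  classical
  haveI : Fintype (G ⧸ N) := Fintype.ofFinite _
  set B := blockOf M (φ : G ⧸ N → ℂ) with hBd
  have hB : IsPBlock M B := isPBlock_blockOf φ
  haveI : Finite (ConjClasses (G ⧸ N)) := Finite.of_surjective _ ConjClasses.mk_surjective
  haveI : Fintype (ConjClasses (G ⧸ N)) := Fintype.ofFinite _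
  have hterm : ∀ c : G ⧸ N, MemLocalIdeal M (blockCoeff B c * centralChar (φ : G ⧸ N → ℂ) c -
      blockCoeff B c * centralChar (ψ : G ⧸ N → ℂ) c) := by
    intro c
    rw [← mul_sub]
    by_cases hc : p ∣ orderOf c
    · rw [blockCoeff_eq_zero_of_singular hM hB hc, zero_mul]
      exact mli_zero hM
    refine mli_mul_left hM (mlr_blockCoeff hM hB _) ?_
    rcases hlift c hc with ⟨g, rfl, hk⟩ | hz
    · have h1 := h g
      rw [centralChar_inflate, centralChar_inflate, ← mul_sub] at h1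
      exact (mli_mul_cases hM (mlr_natCast hM _)
        (mlr_sub hM (mlr_centralChar hM φ _) (mlr_centralChar hM ψ _)) h1).resolve_left
          fun h2 => hk ((mli_natCast_iff hM _).mp h2)
    · exact mli_sub hM (hz φ) (hz ψ)
  have h1 := mli_sum hM Finset.univ (f := fun q : ConjClasses (G ⧸ N) =>
      blockCoeff B q.out * centralChar (φ : G ⧸ N → ℂ) q.out -
        blockCoeff B q.out * centralChar (ψ : G ⧸ N → ℂ) q.out) fun q _ => hterm _
  rw [Finset.sum_sub_distrib,
    ← omega_eq_sum_centralChar (IsCharacter.isClassFunction (isCharacter_irr φ))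
      (blockCoeff_isClassFunction B),
    ← omega_eq_sum_centralChar (IsCharacter.isClassFunction (isCharacter_irr ψ))
      (blockCoeff_isClassFunction B),
    omega_blockCoeff, omega_blockCoeff, indic_of_mem (self_mem_blockOf hM φ)] at h1
  by_contra hne
  have hnot : ψ ∉ B := hne
  rw [indic_of_notMem hnot, sub_zero] at h1
  exact not_mli_one hM h1

omit [Fintype G] in
/-- A regular element of a quotient has a regular lift. -/
theorem exists_regular_lift [Finite G] (hp : p.Prime) (N : Subgroup G) [N.Normal] {q : G ⧸ N}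
    (hq : ¬ p ∣ orderOf q) : ∃ g : G, (g : G ⧸ N) = q ∧ ¬ p ∣ orderOf g := by
  obtain ⟨x, rfl⟩ := QuotientGroup.mk_surjective q
  obtain ⟨z, v, rfl, hzv, ⟨k, hk⟩, hv⟩ := exists_pPart hp x
  refine ⟨v, ?_, hv⟩
  have hd : orderOf ((z : G) : G ⧸ N) ∣ p ^ k :=
    hk ▸ orderOf_map_dvd (QuotientGroup.mk' N) z
  have hcomm : Commute ((z : G) : G ⧸ N) ((v : G) : G ⧸ N) := hzv.map (QuotientGroup.mk' N)
  obtain ⟨j, -, hj⟩ := (Nat.dvd_prime_pow hp).mp hd
  rcases Nat.eq_zero_or_pos j with rfl | hj0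
  · rw [pow_zero] at hj
    rw [QuotientGroup.mk_mul, orderOf_eq_one_iff.mp hj, one_mul]
  · refine absurd ?_ hq
    rw [QuotientGroup.mk_mul, hcomm.orderOf_mul_eq_mul_orderOf_of_coprime, hj]
    · exact dvd_mul_of_dvd_left (dvd_pow_self p hj0.ne') _
    · rw [hj]
      exact Nat.Coprime.pow_left _ (hp.coprime_iff_not_dvd.mpr fun h' =>
        hv (h'.trans (orderOf_map_dvd (QuotientGroup.mk' N) v)))

/-- A regular element centralizing a normal `p`-subgroup is the only regular element in its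
coset, so its centralizer fills the preimage. -/
theorem relIndex_eq_one_of_centralizes (hM : IsPModular p M) (Q : Subgroup G) [Q.Normal]
    (hQ : IsPGroup p Q) {g : G} (hg : ¬ p ∣ orderOf g)
    (hc : g ∈ Subgroup.centralizer (Q : Set G)) :
    (Subgroup.centralizer ({g} : Set G)).relIndex
      ((Subgroup.centralizer ({(g : G ⧸ Q)} : Set (G ⧸ Q))).comap (QuotientGroup.mk' Q)) = 1 := by
  refine Subgroup.relIndex_eq_one.mpr fun y hy => ?_
  have h1 : ((y * g * y⁻¹ : G) : G ⧸ Q) = (g : G ⧸ Q) := by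
    have h := Subgroup.mem_centralizer_singleton_iff.mp (Subgroup.mem_comap.mp hy)
    rw [QuotientGroup.mk'_apply] at h
    rw [QuotientGroup.mk_mul, QuotientGroup.mk_mul, h, QuotientGroup.mk_inv, mul_inv_cancel_right]
  set u := g⁻¹ * (y * g * y⁻¹) with hu
  have huQ : u ∈ Q := QuotientGroup.eq.mp h1.symm
  have hgu : Commute g u := (Subgroup.mem_centralizer_iff.mp hc u huQ).symm
  obtain ⟨k, hk⟩ := hQ ⟨u, huQ⟩
  have huk : u ^ p ^ k = 1 := by simpa using congrArg Subtype.val hk
  have hord : orderOf (g * u) = orderOf g := by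
    rw [hu, mul_inv_cancel_left]
    exact orderOf_injective (MulAut.conj y).toMonoidHom (MulEquiv.injective _) g
  have hu' : u ^ orderOf g = 1 := by
    have h2 := pow_orderOf_eq_one (g * u)
    rw [hord, hgu.mul_pow, pow_orderOf_eq_one, one_mul] at h2
    exact h2
  have hu1 : u = 1 := orderOf_eq_one_iff.mp (Nat.eq_one_of_dvd_coprimes
    (Nat.Coprime.pow_left k (hM.1.coprime_iff_not_dvd.mpr hg))
    (orderOf_dvd_of_pow_eq_one huk) (orderOf_dvd_of_pow_eq_one hu'))
  rw [hu, inv_mul_eq_one] at hu1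
  refine Subgroup.mem_centralizer_singleton_iff.mpr ?_
  calc y * g = y * g * y⁻¹ * y := by group
    _ = g * y := by rw [← hu1]

end CfsgLib.Blocks
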