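import Cfsg.Agent.Lib.Blocks.Cover
import Cfsg.Agent.Lib.Blocks.Orth
import Cfsg.Agent.Lib.Blocks.Contribution
import Cfsg.Agent.Lib.Blocks.PrincipalSection
import Cfsg.Agent.Lib.Chars.GaloisTwist
import Cfsg.Agent.Lib.Chars.Linear
import Cfsg.Agent.Lib.DetParity.Basic
import Cfsg.Agent.Lib.PResidual
import Cfsg.Agent.Lib.Core
import Cfsg.Agent.S0867
import Mathlib.GroupTheory.PGroup

/-!
# Fixed nonlinear p'-degree characters in the principal block of O^p(G), and their extensions
-/

set_option autoImplicit false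

namespace CfsgLib.Blocks.PrincipalFixed

open Cfsg CfsgLib.Chars CfsgLib.Blocks
open scoped ComplexConjugate

universe u

variable {G : Type u} [Group G] [Fintype G] {p : ℕ} {M : Ideal AlgInt}

theorem centralChar_hom (f : G →* ℂˣ) (g : G) :
    centralChar (homIrr f : G → ℂ) g =
      ((Subgroup.centralizer ({g} : Set G)).index : ℂ) * (f g : ℂ) := by
  simp [centralChar, homIrr]

theorem hom_mem_iff (f : G →* ℂˣ) :
    homIrr f ∈ principalBlock M G ↔ ∀ g : G, MemLocalIdeal M
      (((Subgroup.centralizer ({g} : Set G)).index : ℂ) -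
        ((Subgroup.centralizer ({g} : Set G)).index : ℂ) * (f g : ℂ)) := by
  rw [principalBlock_eq, mem_blockOf]
  refine forall_congr' fun g => ?_
  rw [centralChar_hom]
  simp [centralChar, trivIrr]

/-- The linear characters of the principal block form a group. -/
def linGroup (hM : IsPModular p M) : Subgroup (G →* ℂˣ) :=
  haveI : Finite (G →* ℂˣ) := Finite.of_injective homIrr homIrr_injective (α := G →* ℂˣ)
  have hmul : ∀ a b : G →* ℂˣ, homIrr a ∈ principalBlock M G → homIrr b ∈ principalBlock M G →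
      homIrr (a * b) ∈ principalBlock M G := fun a b ha hb => by
    rw [hom_mem_iff] at ha hb ⊢
    intro g
    have h1 : MemLocalRing M (a g : ℂ) := mlr_of_isIntegral hM
      (isIntegral_of_pow_eq_one (orderOf_pos g) (by
        rw [← Units.val_pow_eq_pow_val, ← map_pow, pow_orderOf_eq_one, map_one, Units.val_one]))
    have := mli_add hM (mli_mul_left hM h1 (hb g)) (ha g)
    rw [MonoidHom.mul_apply, Units.val_mul]
    convert this using 1
    ring
  have hone : homIrr (1 : G →* ℂˣ) ∈ principalBlock M G := by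
    rw [hom_mem_iff]
    intro g
    simpa using mli_zero hM
  { carrier := {f | homIrr f ∈ principalBlock M G}
    one_mem' := hone
    mul_mem' := fun {a b} ha hb => hmul a b ha hb
    inv_mem' := fun {a} ha => by
      have hfin : IsOfFinOrder a := isOfFinOrder_of_finite a
      have hpow : ∀ n : ℕ, homIrr (a ^ n) ∈ principalBlock M G := by
        intro n
        induction n with
        | zero =>
          rw [show a ^ 0 = 1 from MonoidHom.ext fun g => by simp]
          exact hone
        | succ n ih =>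
          rw [show a ^ (n + 1) = a ^ n * a from MonoidHom.ext fun g => by simp [pow_succ]]
          exact hmul _ _ ih ha
      obtain ⟨n, hn⟩ := (hfin.mem_powers_iff_mem_zpowers).mpr (Subgroup.inv_mem _ (Subgroup.mem_zpowers a))
      show homIrr a⁻¹ ∈ principalBlock M G
      rw [← hn]
      exact hpow n }

/-- The squares of the degrees in the principal block sum to zero modulo `p`. -/
theorem sum_sq_zero (hM : IsPModular p M) (hp : p ∣ Nat.card G)
    [DecidablePred (· ∈ principalBlock M G)] :
    ∑ χ ∈ Finset.univ.filter (· ∈ principalBlock M G),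
      ((charDegree (χ : G → ℂ) : ℕ) : ZMod p) ^ 2 = 0 := by
  haveI := Fact.mk hM.1
  obtain ⟨g, hg⟩ := exists_prime_orderOf_dvd_card' p hp
  have hw := weak_orthogonality hM (isPBlock_principalBlock (M := M) (G := G))
    (not_dvd_orderOf_one (G := G) hM) (y := g) (by rw [hg])
  have hmem : MemLocalIdeal M ((∑ χ ∈ Finset.univ.filter (· ∈ principalBlock M G),
      charDegree (χ : G → ℂ) ^ 2 : ℕ) : ℂ) := by
    push_cast
    have h2 : ∑ χ ∈ Finset.univ.filter (· ∈ principalBlock M G),
        ((charDegree (χ : G → ℂ) : ℂ) ^ 2 - (χ : G → ℂ) 1 * conj ((χ : G → ℂ) g)) =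
        ∑ χ ∈ Finset.univ.filter (· ∈ principalBlock M G), (charDegree (χ : G → ℂ) : ℂ) ^ 2 := by
      rw [Finset.sum_sub_distrib, hw, sub_zero]
    rw [← h2]
    refine mli_sum hM _ fun χ _ => ?_
    have h3 : MemLocalIdeal M ((χ : G → ℂ) (g⁻¹ * 1) - (χ : G → ℂ) 1) :=
      mli_char_pElt_mul hM (isCharacter_irr χ) (k := 1) (by rw [orderOf_inv, hg, pow_one])
        (Commute.one_right _) (not_dvd_orderOf_one hM)
    rw [mul_one, IsCharacter.map_inv (isCharacter_irr χ)] at h3
    have h4 := mli_mul_left hM (mlr_natCast hM (charDegree (χ : G → ℂ))) (mli_neg h3)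
    rw [irr_apply_one] at h4 ⊢
    convert h4 using 1
    ring
  have := (CharP.cast_eq_zero_iff (ZMod p) p _).mpr ((mli_natCast_iff hM _).mp hmem)
  simpa using this

/-- Some degree prime to `p`, other than `1`, occurs a number of times prime to `p`. -/
theorem exists_degree (hM : IsPModular p M) (hp : p ∣ Nat.card G)
    (hnop : ∀ f : G →* ℂˣ, ¬ p ∣ orderOf f) :
    ∃ d : ℕ, d ≠ 1 ∧ ¬ p ∣ d ∧ ¬ p ∣ Nat.card
      {χ : IrrCharacter G // χ ∈ principalBlock M G ∧ charDegree (χ : G → ℂ) = d} := by
  classical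
  by_contra hcon
  push Not at hcon
  haveI := Fact.mk hM.1
  haveI : Finite (G →* ℂˣ) := Finite.of_injective homIrr homIrr_injective (α := G →* ℂˣ)
  haveI := Fintype.ofFinite (linGroup (G := G) hM)
  set S := Finset.univ.filter fun χ : IrrCharacter G => χ ∈ principalBlock M G with hS
  have hsum := sum_sq_zero hM hp
  rw [← Finset.sum_fiberwise_of_maps_to (g := fun χ : IrrCharacter G => charDegree (χ : G → ℂ))
    (fun χ hχ => Finset.mem_image_of_mem (fun χ : IrrCharacter G => charDegree (χ : G → ℂ)) hχ)] at hsum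
  have hrest : ∀ d, d ≠ 1 → ∑ χ ∈ S.filter (fun χ : IrrCharacter G => charDegree (χ : G → ℂ) = d),
      ((charDegree (χ : G → ℂ) : ℕ) : ZMod p) ^ 2 = 0 := by
    intro d hd
    rw [Finset.sum_congr rfl (g := fun _ => (d : ZMod p) ^ 2)
      (fun χ hχ => by rw [(Finset.mem_filter.mp hχ).2]), Finset.sum_const, nsmul_eq_mul]
    by_cases hpd : p ∣ d
    · rw [(CharP.cast_eq_zero_iff (ZMod p) p d).mpr hpd, zero_pow two_ne_zero, mul_zero]
    · have hc := hcon d hd hpd
      rw [show Nat.card {χ : IrrCharacter G // χ ∈ principalBlock M G ∧ charDegree (χ : G → ℂ) = d}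
          = (S.filter (fun χ : IrrCharacter G => charDegree (χ : G → ℂ) = d)).card by
        rw [← Nat.card_eq_finsetCard]
        exact Nat.card_congr (Equiv.subtypeEquivRight fun χ => by simp [S])] at hc
      rw [(CharP.cast_eq_zero_iff (ZMod p) p _).mpr hc, zero_mul]
  have himg : S.filter (fun χ : IrrCharacter G => charDegree (χ : G → ℂ) = 1) =
      (Finset.univ : Finset (linGroup (G := G) hM)).image fun f : linGroup (G := G) hM => homIrr (f : G →* ℂˣ) := by
    ext χ
    simp only [Finset.mem_filter, S, Finset.mem_univ, true_and, Finset.mem_image]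
    constructor
    · rintro ⟨h1, h2⟩
      obtain ⟨f, rfl⟩ := exists_homIrr χ h2
      exact ⟨⟨f, h1⟩, rfl⟩
    · rintro ⟨f, rfl⟩
      exact ⟨f.2, charDegree_hom _⟩
  have h1mem : 1 ∈ S.image fun χ : IrrCharacter G => charDegree (χ : G → ℂ) :=
    Finset.mem_image.mpr ⟨trivIrr G, Finset.mem_filter.mpr ⟨Finset.mem_univ _,
      self_mem_blockOf hM (trivIrr G)⟩, by simp [charDegree, trivIrr]⟩
  rw [Finset.sum_eq_single_of_mem 1 h1mem (fun d _ hd => hrest d hd),
    Finset.sum_congr rfl (g := fun _ => (1 : ZMod p))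
      (fun χ hχ => by rw [(Finset.mem_filter.mp hχ).2, Nat.cast_one, one_pow]),
    Finset.sum_const, nsmul_one, himg,
    Finset.card_image_of_injective _ fun a b h => Subtype.ext (homIrr_injective h),
    Finset.card_univ, ← Nat.card_eq_fintype_card, CharP.cast_eq_zero_iff (ZMod p) p] at hsum
  obtain ⟨a, ha⟩ := exists_prime_orderOf_dvd_card' p hsum
  exact hnop a (by rw [Subgroup.orderOf_coe, ha])

variable {k : ℕ}

theorem centralizer_pow (hk : k.Coprime (Nat.card G)) (g : G) :
    Subgroup.centralizer ({g ^ k} : Set G) = Subgroup.centralizer ({g} : Set G) := by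
  ext x
  rw [Subgroup.mem_centralizer_singleton_iff, Subgroup.mem_centralizer_singleton_iff]
  constructor
  · intro h
    obtain ⟨m, hm⟩ := exists_pow_eq_self_of_coprime
      (Nat.Coprime.coprime_dvd_right (orderOf_dvd_natCard g) hk)
    have h' : Commute x ((g ^ k) ^ m) := (show Commute x (g ^ k) from h).pow_right m
    rw [hm] at h'
    exact h'
  · intro h
    exact (show Commute x g from h).pow_right k

theorem powIrr_mem (hk : k.Coprime (Nat.card G)) {χ : IrrCharacter G}
    (hχ : χ ∈ principalBlock M G) : powIrr hk χ ∈ principalBlock M G := fun g => by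
  have h := hχ (g ^ k)
  simp only [centralChar, centralizer_pow hk] at h
  simpa [centralChar, powIrr] using h

theorem charDegree_powIrr (hk : k.Coprime (Nat.card G)) (χ : IrrCharacter G) :
    charDegree (powIrr hk χ : G → ℂ) = charDegree (χ : G → ℂ) := by
  simp [charDegree, powIrr]

theorem count_eq_of_sums {q : ℕ} (hq : 0 < q) {l l' : List ℂ} (hl : ∀ μ ∈ l, μ ^ q = 1)
    (hl' : ∀ μ ∈ l', μ ^ q = 1)
    (h : ∀ j : ℕ, (l.map (fun μ => μ ^ j)).sum = (l'.map (fun μ => μ ^ j)).sum) (ν : ℂ) :
    l.count ν = l'.count ν := by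
  by_cases hν : ν ^ q = 1
  · have hν0 : ν ≠ 0 := by rintro rfl; simp [zero_pow hq.ne'] at hν
    have h1 := DetParity.sum_list_root hν hν0 hl
    simp only [h, DetParity.sum_list_root hν hν0 hl'] at h1
    have hq' : (q : ℂ) ≠ 0 := Nat.cast_ne_zero.mpr hq.ne'
    exact_mod_cast (mul_left_cancel₀ hq' h1).symm
  · rw [List.count_eq_zero_of_not_mem fun hm => hν (hl ν hm),
      List.count_eq_zero_of_not_mem fun hm => hν (hl' ν hm)]

/-- The determinant commutes with the Galois power maps. -/
theorem detChar_powIrr (hk : k.Coprime (Nat.card G)) (χ : IrrCharacter G) (g : G) :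
    detChar (powIrr hk χ : G → ℂ) g = detChar (χ : G → ℂ) g ^ k := by
  obtain ⟨d, ρ, hρ, hc⟩ := χ.2
  obtain ⟨e, τ, hτ, hτc⟩ := (powIrr hk χ).2
  obtain ⟨l, hl, hls, hld⟩ := DetParity.exists_list_det ρ g
  obtain ⟨l', hl', hls', hld'⟩ := DetParity.exists_list_det τ g
  rw [Extendible.detChar_eq τ hτ hτc, Extendible.detChar_eq ρ hρ hc, hld, hld']
  have hperm : l'.Perm (l.map (· ^ k)) := by
    classical
    refine List.perm_iff_count.mpr fun ν => count_eq_of_sums (orderOf_pos g) hl' ?_ (fun j => ?_) ν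
    · intro μ hμ
      obtain ⟨a, ha, rfl⟩ := List.mem_map.mp hμ
      rw [← pow_mul, mul_comm, pow_mul, hl a ha, one_pow]
    · rw [← hls' j, hτc, List.map_map]
      have : (χ : G → ℂ) ((g ^ j) ^ k) = (l.map fun μ => μ ^ (j * k)).sum := by
        rw [← pow_mul, ← hc]; exact hls _
      show (powIrr hk χ : G → ℂ) (g ^ j) = _
      change (χ : G → ℂ) ((g ^ j) ^ k) = _
      rw [this]
      refine congrArg List.sum (List.map_congr_left fun μ _ => ?_)
      show μ ^ (j * k) = (μ ^ k) ^ j
      rw [← pow_mul, mul_comm]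
  rw [hperm.prod_eq]
  clear hperm hls hld hls' hld' hl
  induction l with
  | nil => simp
  | cons a t ih => rw [List.map_cons, List.prod_cons, ih, List.prod_cons, mul_pow]

/-- A character restricting to a character of the principal block of a normal subgroup of
`p`-power index lies in the principal block. -/
theorem mem_principal_of_res (hM : IsPModular p M) (N : Subgroup G) [N.Normal] [Fintype N]
    (hN : ∀ g : G, ¬ p ∣ orderOf g → g ∈ N) (χ : IrrCharacter G) (θ : IrrCharacter N)
    (hres : ∀ n : N, (χ : G → ℂ) n = (θ : N → ℂ) n) (hθ : θ ∈ principalBlock M N) :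
    χ ∈ principalBlock M G := by
  classical
  by_contra hno
  set B := principalBlock M G
  have hf := blockCoeff_isClassFunction B
  have hsupp : ∀ g ∉ N, blockCoeff B g = 0 := fun g hg =>
    blockCoeff_eq_zero_of_singular hM isPBlock_principalBlock (not_not.mp fun h => hg (hN g h))
  have hcon : ∀ (ξ : IrrCharacter G) (η : IrrCharacter N),
      (∀ n : N, (ξ : G → ℂ) n = (η : N → ℂ) n) →
      omega (η : N → ℂ) (fun n : N => blockCoeff B (n : G)) = indic B ξ := fun ξ η h => by
    rw [← omega_res_constituent N (θ := η) (χ := ξ) ?_ hf hsupp, omega_blockCoeff]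
    rw [show (fun n : N => (ξ : G → ℂ) n) = (η : N → ℂ) from funext h, classInner_irr, if_pos rfl]
    exact one_ne_zero
  have h1 := mli_omega_sub hM (f := fun n : N => blockCoeff B (n : G))
    (show SameBlock M (trivIrr N : N → ℂ) (θ : N → ℂ) from hθ)
    (fun n m => hf (n : G) (m : G)) (fun n => mlr_blockCoeff hM isPBlock_principalBlock _)
  rw [hcon (trivIrr G) (trivIrr N) (fun n => rfl), hcon χ θ hres,
    indic_of_mem (show trivIrr G ∈ B from self_mem_blockOf hM (trivIrr G)), indic_of_notMem hno, sub_zero] at h1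
  exact not_mli_one hM h1

/-- Linear characters of `O^p(G)` have order prime to `p`. -/
theorem not_dvd_orderOf_hom [Fact p.Prime] (f : pResidual p G →* ℂˣ) : ¬ p ∣ orderOf f := by
  haveI : Finite (pResidual p G →* ℂˣ) :=
    Finite.of_injective homIrr homIrr_injective (α := pResidual p G →* ℂˣ)
  intro hdvd
  obtain ⟨m, hm⟩ := hdvd
  have hall : ∀ x : G, ∀ hx : x ∈ pResidual p G, f ⟨x, hx⟩ ^ m = 1 := by
    intro x hx
    induction hx using Subgroup.closure_induction with
    | mem y hy =>
      have h1 : (f ⟨y, Subgroup.subset_closure hy⟩ ^ m) ^ p = 1 := by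
        rw [← pow_mul, mul_comm, ← hm, ← MonoidHom.pow_apply, pow_orderOf_eq_one, MonoidHom.one_apply]
      have h2 : (f ⟨y, Subgroup.subset_closure hy⟩ ^ m) ^ orderOf y = 1 := by
        rw [← pow_mul, mul_comm, pow_mul, ← map_pow]
        have : (⟨y, Subgroup.subset_closure hy⟩ : ↥(pResidual p G)) ^ orderOf y = 1 :=
          Subtype.ext (pow_orderOf_eq_one y)
        rw [this, map_one, one_pow]
      exact orderOf_eq_one_iff.1 (Nat.eq_one_of_dvd_coprimes (Nat.Coprime.symm hy)
        (orderOf_dvd_of_pow_eq_one h1) (orderOf_dvd_of_pow_eq_one h2))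
    | one => rw [show (⟨1, _⟩ : ↥(pResidual p G)) = 1 from rfl, map_one, one_pow]
    | mul a b ha hb iha ihb =>
      rw [show (⟨a * b, _⟩ : ↥(pResidual p G)) = ⟨a, ha⟩ * ⟨b, hb⟩ from rfl, map_mul, mul_pow,
        iha, ihb, one_mul]
    | inv a ha iha =>
      rw [show (⟨a⁻¹, _⟩ : ↥(pResidual p G)) = (⟨a, ha⟩ : ↥(pResidual p G))⁻¹ from rfl, map_inv,
        inv_pow, iha, inv_one]
  have hzero : orderOf f ∣ m := orderOf_dvd_of_pow_eq_one
    (MonoidHom.ext fun n => by rw [MonoidHom.pow_apply]; exact hall n n.2)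
  have hmpos : 0 < m := Nat.pos_of_mul_pos_left (hm ▸ orderOf_pos f)
  have := Nat.le_of_dvd hmpos (hm ▸ hzero)
  have h2 := (Fact.out : p.Prime).two_le
  nlinarith

/-- If `p` divides the order of `O^p(G)`, the principal block has a nonlinear character of degree
prime to `p` fixed by a given Galois power map of `p`-power order. -/
theorem exists_fixed_char [Fact p.Prime] (hM : IsPModular p M) (hp : p ∣ Nat.card (pResidual p G))
    (hk : k.Coprime (Nat.card G)) {m : ℕ} (hper : ∀ g : G, g ^ k ^ p ^ m = g) :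
    ∃ χ : IrrCharacter G, χ ∈ principalBlock M G ∧ ¬ p ∣ charDegree (χ : G → ℂ) ∧
      charDegree (χ : G → ℂ) ≠ 1 ∧ ∀ g : G, (χ : G → ℂ) (g ^ k) = (χ : G → ℂ) g := by
  classical
  set N := pResidual p G with hN
  haveI hNn : N.Normal := by
    haveI := PResidual.pResidual_characteristic (p := p) (G := G)
    exact Subgroup.normal_of_characteristic _
  haveI : Fintype N := Fintype.ofFinite N
  obtain ⟨P⟩ : Nonempty (Sylow p G) := inferInstance
  have hkN : k.Coprime (Nat.card N) := hk.coprime_dvd_right (Subgroup.card_subgroup_dvd_card N)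
  obtain ⟨d, hd1, hdp, hcount⟩ := exists_degree hM hp not_dvd_orderOf_hom
  let X := {θ : IrrCharacter N // θ ∈ principalBlock M N ∧ charDegree (θ : N → ℂ) = d}
  have hconj : ∀ (g : G) (θ : IrrCharacter N), θ ∈ principalBlock M N →
      conjIrr N θ g ∈ principalBlock M N := fun g θ hθ => by
    have h := sameBlock_conjIrr N (θ := trivIrr N) (ψ := θ) hθ g
    rwa [show conjIrr N (trivIrr N) g = trivIrr N from Subtype.ext rfl] at h
  letI : MulAction (P : Subgroup G) X :=
    { smul := fun g θ => ⟨conjIrr N θ.1 (g : G)⁻¹, hconj _ _ θ.2.1,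
        (charDegree_conjIrr N _ _).trans θ.2.2⟩
      one_smul := fun θ => Subtype.ext (by
        show conjIrr N θ.1 ((1 : (P : Subgroup G)) : G)⁻¹ = θ.1
        rw [OneMemClass.coe_one, inv_one, conjIrr_one])
      mul_smul := fun g h θ => Subtype.ext (by
        show conjIrr N θ.1 ((g * h : (P : Subgroup G)) : G)⁻¹ =
          conjIrr N (conjIrr N θ.1 (h : G)⁻¹) (g : G)⁻¹
        rw [← conjIrr_mul, Subgroup.coe_mul, mul_inv_rev]) }
  haveI : Finite X := Subtype.finite
  have hfix1 := P.isPGroup'.card_modEq_card_fixedPoints X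
  have hY : ¬ p ∣ Nat.card (MulAction.fixedPoints (P : Subgroup G) X) := fun h =>
    hcount ((Nat.ModEq.dvd_iff hfix1 dvd_rfl).mpr h)
  have hinv : ∀ θ : X, θ ∈ MulAction.fixedPoints (P : Subgroup G) X ↔
      ∀ g : G, conjIrr N θ.1 g = θ.1 := by
    intro θ
    constructor
    · intro h g
      have hg : g ∈ (P : Subgroup G) ⊔ N :=
        (PResidual.sup_pResidual_eq_top P) ▸ Subgroup.mem_top g
      obtain ⟨x, hx, n, hn, rfl⟩ := Subgroup.mem_sup_of_normal_right.mp hg
      have hxθ : conjIrr N θ.1 x = θ.1 := by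
        have := congrArg Subtype.val (h ⟨x⁻¹, Subgroup.inv_mem _ hx⟩)
        simpa using (show conjIrr N θ.1 (x⁻¹)⁻¹ = θ.1 from this)
      rw [conjIrr_mul, hxθ]
      refine Subtype.ext (funext fun y => ?_)
      rw [conjIrr_apply]
      have := (IsCharacter.isClassFunction (isCharacter_irr θ.1)) y ⟨n, hn⟩
      rw [← this]
      exact congrArg _ (Subtype.ext (conjN_coe N n y))
    · exact fun h g => Subtype.ext (h _)
  let σ : MulAction.fixedPoints (P : Subgroup G) X → MulAction.fixedPoints (P : Subgroup G) X :=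
    fun θ => ⟨⟨powIrr hkN θ.1.1, powIrr_mem hkN θ.1.2.1, (charDegree_powIrr hkN _).trans θ.1.2.2⟩,
      (hinv _).mpr fun g => Subtype.ext (funext fun y => by
        have h := congrFun (congrArg Subtype.val ((hinv θ.1).mp θ.2 g)) (y ^ k)
        rw [conjIrr_apply, map_pow] at h
        exact h)⟩
  have hval : ∀ (j : ℕ) θ (y : N), ((σ^[j] θ).1.1 : N → ℂ) y = (θ.1.1 : N → ℂ) (y ^ k ^ j) := by
    intro j
    induction j with
    | zero => intro θ y; simp
    | succ j ih =>
      intro θ y
      rw [Function.iterate_succ_apply, ih]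
      show (θ.1.1 : N → ℂ) ((y ^ k ^ j) ^ k) = _
      rw [← pow_mul, pow_succ]
  have hσm : ∀ θ, σ^[p ^ m] θ = θ := fun θ => by
    refine Subtype.ext (Subtype.ext (Subtype.ext (funext fun y => ?_)))
    rw [hval]
    exact congrArg _ (Subtype.ext (by rw [SubgroupClass.coe_pow]; exact hper y))
  let e : Equiv.Perm (MulAction.fixedPoints (P : Subgroup G) X) := Equiv.ofBijective σ <| by
    have hb : Function.Bijective σ^[p ^ m] := by
      rw [show σ^[p ^ m] = id from funext hσm]; exact Function.bijective_id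
    obtain ⟨q, hq⟩ := Nat.exists_eq_succ_of_ne_zero (pow_ne_zero m (Fact.out : p.Prime).ne_zero)
    rw [hq] at hb
    exact ⟨(Function.iterate_succ σ q ▸ hb.1 : Function.Injective (σ^[q] ∘ σ)).of_comp,
      (Function.iterate_succ' σ q ▸ hb.2 : Function.Surjective (σ ∘ σ^[q])).of_comp⟩
  have he : e ^ p ^ m = 1 := by
    refine Equiv.ext fun θ => ?_
    rw [Equiv.Perm.coe_pow, Equiv.Perm.one_apply]
    exact hσm θ
  have hZ : IsPGroup p (Subgroup.zpowers e) := fun x => ⟨m, by
    obtain ⟨z, hz⟩ := Subgroup.mem_zpowers_iff.mp x.2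
    refine Subtype.ext ?_
    rw [SubgroupClass.coe_pow, ← hz, ← zpow_natCast, ← zpow_mul, mul_comm, zpow_mul,
      zpow_natCast, he, one_zpow, OneMemClass.coe_one]⟩
  haveI : Finite (MulAction.fixedPoints (P : Subgroup G) X) := Subtype.finite
  obtain ⟨θ, hθ⟩ := hZ.nonempty_fixed_point_of_prime_not_dvd_card _ hY
  have hfθ : σ θ = θ := hθ ⟨e, Subgroup.mem_zpowers e⟩
  obtain ⟨⟨θ, hB, hdeg⟩, hθP⟩ := θ
  have hinvθ := (hinv _).mp hθP
  have hidx : ∃ a, N.index = p ^ a := by
    obtain ⟨a, ha⟩ := IsPGroup.iff_card.mp (PResidual.isPGroup_quotient (p := p) (G := G))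
    exact ⟨a, ha⟩
  obtain ⟨a, ha⟩ := hidx
  obtain ⟨D, hD⟩ := Extendible.exists_detHom θ
  have hord : detOrder (θ : N → ℂ) = orderOf D := by
    let F : (N →* ℂˣ) →* (N → ℂ) :=
      { toFun := fun f n => (f n : ℂ), map_one' := rfl, map_mul' := fun a b => rfl }
    have hF : Function.Injective F := fun a b h => MonoidHom.ext fun n => Units.ext (congrFun h n)
    rw [← orderOf_injective F hF D]
    exact (congrArg orderOf (funext hD)).symm
  have hdo : ¬ p ∣ detOrder (θ : N → ℂ) := hord ▸ not_dvd_orderOf_hom D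
  have hpr : p.Prime := Fact.out
  obtain ⟨χ, ⟨hχ, hres, hdet⟩, huniq⟩ := Cfsg.Agent.S0867.result N (θ : N → ℂ) θ.2
    (fun g n => (conjIrr_apply' N θ g n).symm.trans
      (congrFun (congrArg Subtype.val (hinvθ g)) n)) d (by rw [irr_apply_one, hdeg])
    (ha ▸ ((hpr.coprime_iff_not_dvd).mpr (hpr.not_dvd_mul hdo hdp)).pow_left a)
  let χ' : IrrCharacter G := ⟨χ, hχ⟩
  have hdegχ : charDegree (χ' : G → ℂ) = d := by
    have h := hres 1
    rw [OneMemClass.coe_one, irr_apply_one, hdeg] at h
    simp only [charDegree, χ', h]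
    simp
  refine ⟨χ', mem_principal_of_res hM N (fun g hg => PResidual.mem_pResidual
    ((hpr.coprime_iff_not_dvd).mpr hg).symm) χ' θ hres hB, hdegχ ▸ hdp, hdegχ ▸ hd1, ?_⟩
  have hpow : (powIrr hk χ' : G → ℂ) = χ := by
    refine huniq _ (powIrr hk χ').2 (fun n => ?_) ?_
    · show χ ((n : G) ^ k) = _
      rw [← SubgroupClass.coe_pow, hres]
      exact congrFun (congrArg Subtype.val (congrArg Subtype.val (congrArg Subtype.val hfθ))) n
    · have hfun : detChar (powIrr hk χ' : G → ℂ) = detChar χ ^ k :=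
        funext fun g => detChar_powIrr hk χ' g
      rw [detOrder, hfun, ha]
      refine (((hpr.coprime_iff_not_dvd).mpr fun h => hdo ?_).pow_left a)
      rw [← hdet]
      exact h.trans (orderOf_pow_dvd k)
  exact congrFun hpow

/-- Without `p` in the order of `O^p(G)` there is a normal `p`-complement. -/
theorem normalPComplement_of_residual [Fact p.Prime] (h : ¬ p ∣ Nat.card (pResidual p G)) :
    HasNormalPComplement p G := by
  obtain ⟨P⟩ : Nonempty (Sylow p G) := inferInstance
  haveI := PResidual.pResidual_characteristic (p := p) (G := G)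
  have hn : (pResidual p G).Normal := Subgroup.normal_of_characteristic _
  have hpr : p.Prime := Fact.out
  obtain ⟨a, ha⟩ := IsPGroup.iff_card.mp (PResidual.isPGroup_quotient (p := p) (G := G))
  have hco : (Nat.card (pResidual p G)).Coprime p := ((hpr.coprime_iff_not_dvd).mpr h).symm
  refine ⟨P, pResidual p G, hn, Subgroup.isComplement'_of_coprime ?_ ?_⟩
  · have hmul := (pResidual p G).card_mul_index
    have hi : (pResidual p G).index = p ^ a := ha
    rw [hi] at hmul
    have hP := P.card_eq_multiplicity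
    rw [hP, ← hmul, Nat.factorization_mul Nat.card_pos.ne' (pow_ne_zero _ hpr.ne_zero)]
    simp [Nat.factorization_eq_zero_of_not_dvd h, hpr.factorization_self]
  · obtain ⟨b, hb⟩ := IsPGroup.iff_card.mp P.isPGroup'
    rw [hb]
    exact hco.pow_right b

/-- With a normal `p`-complement, `p'`-degree characters of the principal block are linear. -/
theorem degree_one_of_normalPComplement [Fact p.Prime] (hM : IsPModular p M)
    (hN : HasNormalPComplement p G) {χ : IrrCharacter G} (hχ : χ ∈ principalBlock M G)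
    (hd : ¬ p ∣ charDegree (χ : G → ℂ)) : charDegree (χ : G → ℂ) = 1 := by
  obtain ⟨P, N, hNn, hc⟩ := hN
  haveI := hNn
  haveI : Fintype N := Fintype.ofFinite N
  have hpr : p.Prime := Fact.out
  obtain ⟨b, hb⟩ := IsPGroup.iff_card.mp P.isPGroup'
  have hidx : N.index = p ^ b := hc.symm.index_eq_card.trans hb
  have hco : (Nat.card N).Coprime p := by
    refine ((hpr.coprime_iff_not_dvd).mpr fun h => P.not_dvd_index ?_).symm
    rwa [hc.index_eq_card]
  have hker : ∀ n ∈ N, (χ : G → ℂ) n = (χ : G → ℂ) 1 := fun n hn => by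
    simpa using principal_apply_mul hM hχ N hco hn 1
  obtain ⟨ψ, hψ⟩ := exists_deflate N χ hker
  have hdeg : charDegree (χ : G → ℂ) = charDegree (ψ : G ⧸ N → ℂ) := by
    simp [charDegree, hψ]
  have h2 : charDegree (χ : G → ℂ) ∣ p ^ b := by
    rw [hdeg, ← hidx]
    exact charDegree_dvd ψ
  obtain ⟨j, -, hj⟩ := (Nat.dvd_prime_pow hpr).mp h2
  rcases Nat.eq_zero_or_pos j with rfl | hj0
  · rw [hj, pow_zero]
  · exact absurd (hj ▸ dvd_pow_self p hj0.ne') hd

end CfsgLib.Blocks.PrincipalFixed
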