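import Cfsg.Agent.Lib.Blocks.RegMatrix

/-!
Real 2-blocks with a character of odd degree are principal.
-/

namespace CfsgLib.Blocks

open scoped ComplexConjugate
open Cfsg CfsgLib.Chars

universe u

variable {G : Type u} [Group G] [Fintype G] {p : ℕ} {M : Ideal AlgInt}

/-- The complex conjugate of an irreducible character. -/
noncomputable def conjChar (χ : IrrCharacter G) : IrrCharacter G :=
  ⟨fun g => conj ((χ : G → ℂ) g), isIrrCharacter_conj χ⟩

theorem conjChar_conjChar (χ : IrrCharacter G) : conjChar (conjChar χ) = χ :=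
  Subtype.ext (funext fun g => Complex.conj_conj _)

theorem centralChar_conjChar (χ : IrrCharacter G) (g : G) :
    centralChar (conjChar χ : G → ℂ) g = centralChar (χ : G → ℂ) g⁻¹ := by
  have h : Subgroup.centralizer ({g⁻¹} : Set G) = Subgroup.centralizer ({g} : Set G) := by
    ext x
    simp only [Subgroup.mem_centralizer_singleton_iff]
    exact ⟨fun h => (inv_inv g ▸ (show Commute x g⁻¹ from h).inv_right :),
      fun h => (show Commute x g from h).inv_right⟩
  simp only [centralChar, conjChar, h, IsCharacter.map_inv (isCharacter_irr χ) g,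
    conj_irr_one]

theorem sameBlock_conjChar {χ ψ : IrrCharacter G} (h : SameBlock M (χ : G → ℂ) (ψ : G → ℂ)) :
    SameBlock M (conjChar χ : G → ℂ) (conjChar ψ : G → ℂ) := fun g => by
  rw [centralChar_conjChar, centralChar_conjChar]
  exact h g⁻¹

theorem centralChar_conj_element (χ : IrrCharacter G) {g h : G} (hc : IsConj g h) :
    centralChar (χ : G → ℂ) g = centralChar (χ : G → ℂ) h := by
  have hcl := IsCharacter.isClassFunction (isCharacter_irr χ)
  rw [← omega_classInd hcl g, ← omega_classInd hcl h]
  congr 1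
  funext x
  simp only [classInd]
  congr 1
  exact propext ⟨fun h' => hc.symm.trans h', fun h' => hc.trans h'⟩

open Classical in
theorem even_card_real_class {g : G} (hg : g ≠ 1) (hodd : ¬ 2 ∣ orderOf g) (hr : IsConj g g⁻¹) :
    2 ∣ (Subgroup.centralizer ({g} : Set G)).index := by
  set S := Finset.univ.filter (fun y : G => IsConj g y) with hS
  have hc : S.card = (Subgroup.centralizer ({g} : Set G)).index := by
    rw [← card_isConj_eq_index g, Nat.card_eq_fintype_card, Fintype.card_subtype]
  rw [← hc, ← ZMod.natCast_eq_zero_iff, Finset.card_eq_sum_ones, Nat.cast_sum]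
  refine Finset.sum_involution (fun y _ => y⁻¹) (fun _ _ => by rw [Nat.cast_one]; rfl) ?_ ?_
    (fun y _ => inv_inv y)
  · intro y hy _ e
    obtain ⟨c, hc'⟩ := isConj_iff.mp (Finset.mem_filter.mp hy).2
    have ho : orderOf y = orderOf g := by
      rw [← hc']
      exact orderOf_injective (MulAut.conj c).toMonoidHom (MulEquiv.injective _) g
    have h2 : orderOf y ∣ 2 := orderOf_dvd_of_pow_eq_one (by
      rw [sq]; nth_rw 1 [← e]; rw [inv_mul_cancel])
    rcases (Nat.dvd_prime Nat.prime_two).mp h2 with h | h
    · rw [ho] at h; exact hg (orderOf_eq_one_iff.mp h)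
    · rw [ho] at h; exact hodd h.symm.dvd
  · intro y hy
    obtain ⟨c, rfl⟩ := isConj_iff.mp (Finset.mem_filter.mp hy).2
    refine Finset.mem_filter.mpr ⟨Finset.mem_univ _, hr.trans ?_⟩
    exact isConj_iff.mpr ⟨c, by group⟩

theorem two_mul_mli (hM : IsPModular 2 M) {z : ℂ} (hz : MemLocalRing M z) :
    MemLocalIdeal M (z + z) := by
  rw [← two_mul]
  exact mli_mul_right hM (by simpa using mli_p hM) hz

open Classical in
/-- Cancellation of mutually inverse classes modulo two. -/
theorem omega_congr_apply_one (hM : IsPModular 2 M) {φ : IrrCharacter G}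
    (hdeg : ¬ 2 ∣ charDegree (φ : G → ℂ))
    (hφ : SameBlock M (φ : G → ℂ) (conjChar φ : G → ℂ)) {f : G → ℂ} (hf : IsClassFunction G f)
    (hl : ∀ g, MemLocalRing M (f g)) (hsymm : ∀ g, f g⁻¹ = f g)
    (hsing : ∀ g, 2 ∣ orderOf g → f g = 0) :
    MemLocalIdeal M (omega (φ : G → ℂ) f - f 1) := by
  haveI := localIdeal_isPrime hM
  haveI : Finite (ConjClasses G) := Finite.of_surjective _ ConjClasses.mk_surjective
  haveI : Fintype (ConjClasses G) := Fintype.ofFinite _
  let π := Ideal.Quotient.mk (localIdeal hM)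
  let T : ConjClasses G → localSubring hM := fun c =>
    ⟨f c.out * centralChar (φ : G → ℂ) c.out, mlr_mul hM (hl _) (mlr_centralChar hM φ _)⟩
  have hout : ∀ g : G, IsConj (ConjClasses.mk g).out g := fun g =>
    ConjClasses.mk_eq_mk_iff_isConj.mp (Quotient.out_eq _)
  have hT : ∀ g : G, (T (ConjClasses.mk g) : ℂ) = f g * centralChar (φ : G → ℂ) g := by
    intro g
    obtain ⟨c, hc⟩ := isConj_iff.mp (hout g)
    change f (ConjClasses.mk g).out * centralChar (φ : G → ℂ) (ConjClasses.mk g).out = _
    rw [centralChar_conj_element φ (hout g)]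
    congr 1
    conv_rhs => rw [← hc, hf]
  have hone : T (ConjClasses.mk 1) = ⟨f 1, hl 1⟩ := by
    apply Subtype.ext
    rw [hT]
    have : Subgroup.centralizer ({(1 : G)} : Set G) = ⊤ := by
      ext x; simp [Subgroup.mem_centralizer_singleton_iff]
    simp [centralChar, irr_one_ne_zero, this]
  have hz : ∑ c ∈ Finset.univ.erase (ConjClasses.mk (1 : G)), π (T c) = 0 := by
    refine Finset.sum_involution (fun c _ => ConjClasses.mk c.out⁻¹) ?_ ?_ ?_ ?_
    · intro c _
      rw [← map_add, Ideal.Quotient.eq_zero_iff_mem, mem_localIdeal]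
      change MemLocalIdeal M ((T c : ℂ) + (T (ConjClasses.mk c.out⁻¹) : ℂ))
      rw [hT, hsymm]
      change MemLocalIdeal M (f c.out * centralChar (φ : G → ℂ) c.out + _)
      rw [← centralChar_conjChar]
      have h1 := mli_mul_left hM (hl c.out) (hφ c.out)
      have h2 := mli_sub hM (two_mul_mli hM
        (mlr_mul hM (hl c.out) (mlr_centralChar hM φ c.out))) h1
      convert h2 using 1
      ring
    · intro c hc hne e
      apply hne
      rw [Ideal.Quotient.eq_zero_iff_mem, mem_localIdeal]
      change MemLocalIdeal M (f c.out * centralChar (φ : G → ℂ) c.out)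
      by_cases hs : 2 ∣ orderOf c.out
      · rw [hsing _ hs, zero_mul]; exact mli_zero hM
      have hr : IsConj c.out c.out⁻¹ := by
        refine (ConjClasses.mk_eq_mk_iff_isConj.mp (e.trans ?_)).symm
        exact (Quotient.out_eq c).symm
      have hne1 : c.out ≠ 1 := by
        intro h1
        apply (Finset.mem_erase.mp hc).1
        conv_lhs => rw [← Quotient.out_eq c]
        rw [show Quotient.out c = (1 : G) from h1]
        rfl
      refine mli_mul_left hM (hl _) ?_
      refine (mli_mul_cases hM (mlr_centralChar hM φ c.out)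
        (mlr_natCast hM (charDegree (φ : G → ℂ))) ?_).resolve_right
          fun h => hdeg ((mli_natCast_iff hM _).mp h)
      rw [← irr_apply_one, centralChar, div_mul_cancel₀ _ (irr_one_ne_zero φ)]
      exact mli_mul_right hM ((mli_natCast_iff hM _).mpr (even_card_real_class hne1 hs hr))
        (mlr_of_isIntegral hM (IsCharacter.isIntegral (isCharacter_irr φ) _))
    · intro c hc
      refine Finset.mem_erase.mpr ⟨fun h => (Finset.mem_erase.mp hc).1 ?_, Finset.mem_univ _⟩
      have := ConjClasses.mk_eq_mk_iff_isConj.mp h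
      have h1 : c.out = 1 := inv_eq_one.mp (isConj_one_left.mp this)
      conv_lhs => rw [← Quotient.out_eq c]
      rw [show Quotient.out c = (1 : G) from h1]
      rfl
    · intro c hc
      refine (ConjClasses.mk_eq_mk_iff_isConj.mpr ?_).trans (Quotient.out_eq c)
      obtain ⟨d, hd⟩ := isConj_iff.mp (hout c.out⁻¹)
      refine isConj_iff.mpr ⟨d, ?_⟩
      rw [← conj_inv, hd, inv_inv]
  rw [omega_eq_sum_centralChar (IsCharacter.isClassFunction (isCharacter_irr φ)) hf]
  have e : (∑ c : ConjClasses G, f c.out * centralChar (φ : G → ℂ) c.out) - f 1 =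
      ((∑ c ∈ Finset.univ.erase (ConjClasses.mk (1 : G)), T c : localSubring hM) : ℂ) := by
    rw [AddSubmonoidClass.coe_finsetSum,
      ← Finset.add_sum_erase _ _ (Finset.mem_univ (ConjClasses.mk (1 : G)))]
    have : f (ConjClasses.mk (1 : G)).out * centralChar (φ : G → ℂ) (ConjClasses.mk (1 : G)).out
        = f 1 := congrArg (fun x : localSubring hM => (x : ℂ)) hone
    rw [this, add_sub_cancel_left]
  rw [e, ← mem_localIdeal, ← Ideal.Quotient.eq_zero_iff_mem, map_sum]
  exact hz

/-- A 2-block stable under conjugation with a character of odd degree is principal. -/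
theorem mem_principal_of_real (hM : IsPModular 2 M) {φ : IrrCharacter G}
    (hdeg : ¬ 2 ∣ charDegree (φ : G → ℂ))
    (hφ : SameBlock M (φ : G → ℂ) (conjChar φ : G → ℂ)) : φ ∈ principalBlock M G := by
  classical
  set B := blockOf M (φ : G → ℂ)
  have hB : IsPBlock M B := isPBlock_blockOf φ
  have hmem : ∀ χ : IrrCharacter G, χ ∈ B → conjChar χ ∈ B := fun χ hχ =>
    sameBlock_trans hM hφ (sameBlock_conjChar hχ)
  have hsymm : ∀ g, blockCoeff B g⁻¹ = blockCoeff B g := by
    intro g
    rw [blockCoeff_eq_sum, blockCoeff_eq_sum]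
    congr 1
    refine Finset.sum_nbij' conjChar conjChar ?_ ?_ ?_ ?_ ?_
    · exact fun χ hχ => Finset.mem_filter.mpr
        ⟨Finset.mem_univ _, hmem χ (Finset.mem_filter.mp hχ).2⟩
    · exact fun χ hχ => Finset.mem_filter.mpr
        ⟨Finset.mem_univ _, hmem χ (Finset.mem_filter.mp hχ).2⟩
    · exact fun χ _ => conjChar_conjChar χ
    · exact fun χ _ => conjChar_conjChar χ
    · intro χ _
      simp only [conjChar, conj_irr_one, IsCharacter.map_inv (isCharacter_irr χ) g]
  have htriv : SameBlock M (trivIrr G : G → ℂ) (conjChar (trivIrr G) : G → ℂ) := by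
    have e : conjChar (trivIrr G) = trivIrr G :=
      Subtype.ext (funext fun g => by simp [conjChar, trivIrr])
    rw [e]; exact sameBlock_refl hM _
  have hdeg1 : ¬ 2 ∣ charDegree (trivIrr G : G → ℂ) := by
    have : charDegree (trivIrr G : G → ℂ) = 1 := by simp [charDegree, trivIrr]
    rw [this]; decide
  have h1 := omega_congr_apply_one hM hdeg hφ (blockCoeff_isClassFunction B)
    (mlr_blockCoeff hM hB) hsymm (fun g hg => blockCoeff_eq_zero_of_singular hM hB hg)
  have h2 := omega_congr_apply_one hM hdeg1 htriv (blockCoeff_isClassFunction B)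
    (mlr_blockCoeff hM hB) hsymm (fun g hg => blockCoeff_eq_zero_of_singular hM hB hg)
  rw [omega_blockCoeff] at h1 h2
  rw [indic_of_mem (self_mem_blockOf hM φ)] at h1
  by_contra hne
  have hnot : trivIrr G ∉ B := fun h => hne (sameBlock_symm h)
  rw [indic_of_notMem hnot] at h2
  have := mli_sub hM h1 h2
  rw [sub_sub_sub_cancel_right, sub_zero] at this
  exact not_mli_one hM this

end CfsgLib.Blocks
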