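import Cfsg.Agent.Lib.Blocks.DCentralizer
import Cfsg.Agent.Lib.Blocks.InertialQuotient
import Cfsg.Agent.Lib.Blocks.MaximalPairs
import Cfsg.Agent.Lib.Blocks.NormalTrace
import Cfsg.Agent.Lib.Blocks.Cover
import Cfsg.Agent.Lib.CliffordCorr
import Cfsg.Agent.Lib.CharExtend
import Cfsg.Agent.Lib.CharAbelian

/-!
Reynolds' theorem: blocks with a normal defect group.
-/

set_option linter.style.haveILetI false

namespace CfsgLib.Blocks.Reynolds

open scoped ComplexConjugate commutatorElement
open Cfsg CfsgLib.Chars CfsgLib.Blocks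

universe u

variable {G : Type u} [Group G] [Fintype G] {p : ℕ} {M : Ideal AlgInt}

/-- Itô: the degree divides the index of an abelian normal subgroup. -/
theorem ito (χ : IrrCharacter G) (A : Subgroup G) [A.Normal] (hA : ∀ a b : A, a * b = b * a) :
    charDegree (χ : G → ℂ) ∣ A.index := by
  classical
  haveI : Fintype A := Fintype.ofFinite A
  obtain ⟨θ, hθ⟩ := exists_res_constituent A χ
  obtain ⟨f, hf⟩ := exists_homIrr θ (charDegree_eq_one_of_comm hA θ)
  let T : Subgroup G :=
    { carrier := {g | conjIrr A θ g = θ}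
      one_mem' := conjIrr_one A θ
      mul_mem' := fun {a b} ha hb => by
        simp only [Set.mem_setOf_eq] at *
        rw [conjIrr_mul, ha, hb]
      inv_mem' := fun {a} ha => by
        simp only [Set.mem_setOf_eq] at *
        conv_lhs => rw [← ha]
        rw [← conjIrr_mul, mul_inv_cancel, conjIrr_one] }
  haveI : Fintype T := Fintype.ofFinite T
  have hmem : ∀ g, g ∈ T ↔ conjIrr A θ g = θ := fun g => Iff.rfl
  have hAT : A ≤ T := CliffordCorr.le_inertia A θ hmem
  obtain ⟨ψ, h1, h2⟩ := CliffordCorr.exists_corr A θ hmem hAT χ hθ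
  obtain ⟨hind, -, -⟩ := CliffordCorr.clifford_corr A θ hmem hAT ψ h2 χ h1
  obtain ⟨c, -, -, hval⟩ := CliffordCorr.res_inertia A θ hmem hAT ψ h2
  haveI : (A.subgroupOf T).Normal := (inferInstance : A.Normal).subgroupOf T
  let lam : A.subgroupOf T →* ℂˣ := f.comp (Subgroup.subgroupOfEquivOfLe hAT).toMonoidHom
  have hθ1 : (θ : A → ℂ) 1 = 1 := by
    rw [irr_apply_one, charDegree_eq_one_of_comm hA θ, Nat.cast_one]
  have hdvd : charDegree (ψ : T → ℂ) ∣ (A.subgroupOf T).index := by
    refine CharExtend.dvd_index_of_scalar ψ _ lam fun h => ?_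
    have e := hval ((Subgroup.subgroupOfEquivOfLe hAT) h)
    have e1 := hval 1
    rw [hθ1, mul_one] at e1
    have e2 : (θ : A → ℂ) ((Subgroup.subgroupOfEquivOfLe hAT) h) = (lam h : ℂ) :=
      (congrFun (congrArg Subtype.val hf) _).symm
    rw [e2] at e
    change (ψ : T → ℂ) (h : T) = _
    rw [show (ψ : T → ℂ) 1 = (c : ℂ) from e1, mul_comm]
    exact e
  have hdeg : charDegree (χ : G → ℂ) = T.index * charDegree (ψ : T → ℂ) := by
    apply Nat.cast_injective (R := ℂ)
    rw [← irr_apply_one, Nat.cast_mul, ← irr_apply_one, ← hind]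
    exact indFun_one T _
  rw [hdeg, ← Subgroup.relIndex_mul_index hAT, mul_comm (A.relIndex T) T.index]
  exact mul_dvd_mul_left _ hdvd

/-- A group all of whose irreducible characters are linear is abelian. -/
theorem comm_of_linear {H : Type u} [Group H] [Fintype H]
    (h : ∀ χ : IrrCharacter H, charDegree (χ : H → ℂ) = 1) (a b : H) : a * b = b * a := by
  classical
  have h1 := card_linear (G := H)
  rw [Nat.card_congr (Equiv.subtypeUnivEquiv h)] at h1
  have h2 := sum_deg_sq (G := H)
  simp only [h, one_pow, Finset.sum_const, smul_eq_mul, mul_one, Finset.card_univ,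
    ← Nat.card_eq_fintype_card] at h2
  rw [h2] at h1
  have h3 : commutator H = ⊥ := by
    refine Subgroup.eq_bot_of_card_le _ ?_
    have := (commutator H).index_mul_card
    rw [← h1] at this
    exact ((Nat.mul_eq_left Nat.card_pos.ne').mp this).le
  have h4 : ⁅a, b⁆ ∈ (⊥ : Subgroup H) :=
    h3 ▸ Subgroup.commutator_mem_commutator (Subgroup.mem_top a) (Subgroup.mem_top b)
  exact commutatorElement_eq_one_iff_mul_comm.mp (Subgroup.mem_bot.mp h4)

open Classical in
/-- Reynolds' theorem. -/
theorem reynolds (hM : IsPModular p M) {B : Set (IrrCharacter G)} (hB : IsPBlock M B)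
    (P : Subgroup G) [hPn : P.Normal] (hP : IsDefectGroup p M B P) :
    (∀ a ∈ P, ∀ c ∈ P, a * c = c * a) ↔ ∀ χ ∈ B, blockHeight p B (χ : G → ℂ) = 0 := by
  haveI : Fact p.Prime := ⟨hM.1⟩
  have hPp := defectGroup_isPGroup hP
  have hPd := card_defectGroup hM hB hP
  constructor
  · intro hab χ hχ
    have h1 := (Nat.factorization_le_iff_dvd (charDegree_pos χ).ne' P.index_ne_zero_of_finite).mpr
      (ito χ P fun a b => Subtype.ext (hab a a.2 b b.2)) p
    have h2 := minExp_add_defect (p := p) hχ
    rw [← P.index_mul_card, Nat.factorization_mul P.index_ne_zero_of_finite Nat.card_pos.ne',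
      Finsupp.add_apply, hPd, hM.1.factorization_pow, Finsupp.single_eq_same] at h2
    rw [blockHeight_eq]
    omega
  intro h0
  -- the pair and the block of `P C(P)`
  obtain ⟨g, hg, S, hS⟩ := id hP
  have hgC : g ∈ Subgroup.centralizer (P : Set G) := Subgroup.mem_centralizer_iff.mpr fun q hq =>
    Subgroup.mem_centralizer_singleton_iff.mp ((hS ▸ Subgroup.map_subtype_le _ :
      P ≤ Subgroup.centralizer ({g} : Set G)) hq)
  obtain ⟨e, he⟩ := exists_pair_at hM hB hPp hgC hg.2.1
  have hmax := maximal_of_defectGroup hM he hP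
  set N := P ⊔ Subgroup.centralizer (P : Set G) with hN
  haveI hCn : (Subgroup.centralizer (P : Set G)).Normal := ⟨fun c hc y =>
    conj_mem_centralizer_of_normalizer
      (by rw [Subgroup.normalizer_eq_top]; exact Subgroup.mem_top y) hc⟩
  haveI hNn : N.Normal := Subgroup.sup_normal _ _
  haveI : Fintype N := Fintype.ofFinite N
  have hPN : P ≤ N := le_sup_left
  have hCN : Subgroup.centralizer (P : Set G) ≤ N := le_sup_right
  have hnorm : ∀ y : G, y ∈ Subgroup.normalizer (P : Set G) := fun y => by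
    rw [Subgroup.normalizer_eq_top]; exact Subgroup.mem_top y
  have hstN : ∀ x ∈ N, StabilizesBlock (Subgroup.centralizer (P : Set G)) e x := fun x hx =>
    (sup_le (le_pairStab hM he.1.2) (centralizer_le_pairStab hM he.1.2) hx).2
  obtain ⟨b, hb, hcoef⟩ := exists_stab_block hM hPp he.1.2 hPN hCN (fun y _ => hnorm y) hstN
  -- defect group of `b`
  set D := P.subgroupOf N with hDdef
  haveI : D.Normal := hPn.subgroupOf N
  have hDp : IsPGroup p D := hPp.of_equiv (Subgroup.subgroupOfEquivOfLe hPN).symm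
  have hDef : IsDefectGroup p M b D := by
    obtain ⟨R, hR⟩ := exists_isDefectGroup hM hb
    have hge := normal_pGroup_le_defectGroup hM D hDp hb hR
    obtain ⟨c, hc, S', hS'⟩ := id hR
    set R₀ := R.map N.subtype
    have hPR : P ≤ R₀ := fun q hq => ⟨⟨q, hPN hq⟩, hge hq, rfl⟩
    have hcC : (c : G) ∈ Subgroup.centralizer (R₀ : Set G) := by
      rw [Subgroup.mem_centralizer_iff]
      rintro _ ⟨d, hd, rfl⟩
      exact congrArg Subtype.val (Subgroup.mem_centralizer_singleton_iff.mp
        ((hS' ▸ Subgroup.map_subtype_le _ : R ≤ _) hd))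
    obtain ⟨f, hf⟩ := exists_pair_above_of_unit hM he.1.2
      ((defectGroup_isPGroup hR).map N.subtype) hPR (fun y _ => hnorm y)
      (fun y hy => hstN y (Subgroup.map_subtype_le _ hy)) hcC (by rw [← hcoef]; exact hc.2.1)
    have hRP : R₀ = P := hmax.2 R₀ f ((brauerPairOf_iff_normal hM hf hmax.1.2.1).mpr he)
      (Relation.ReflTransGen.single hf)
    have : R = D := le_antisymm (fun (d : N) (hd : d ∈ R) => hRP.le (show (d : G) ∈ R₀ from ⟨d, hd, rfl⟩)) hge
    rwa [← this]
  have hbd := card_defectGroup hM hb hDef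
  haveI : Fintype D := Fintype.ofFinite D
  have hDC : DC.IsDC D := by
    rw [DC.IsDC, eq_top_iff]
    rintro ⟨x, hx⟩ -
    obtain ⟨q, hq, c, hc, rfl⟩ := Subgroup.mem_sup_of_normal_left.mp (hN ▸ hx)
    exact Subgroup.mem_sup_of_normal_left.mpr ⟨⟨q, hPN hq⟩, hq, ⟨c, hCN hc⟩,
      Subgroup.mem_centralizer_iff.mpr fun d hd =>
        Subtype.ext (Subgroup.mem_centralizer_iff.mp hc (d : G) hd), rfl⟩
  obtain ⟨θ, hθ, hker⟩ := DC.exists_canonical hM hDC hDp hb hbd
  have hdeg := DC.canonical_degree hM hDC hDp hbd hθ hker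
  -- every character over a member of `b` belongs to `B`
  let T := pairStab hM he.1.2
  have hT : ∀ x, x ∈ T ↔ StabilizesBlock (Subgroup.centralizer (P : Set G)) e x := fun x =>
    ⟨fun h => h.2, fun h => ⟨hnorm x, h⟩⟩
  have hsbc : ∀ x, subgroupBlockCoeff (Subgroup.centralizer (P : Set G)) e x =
      ext0 N (blockCoeff b) x := fun x => by
    by_cases hx : x ∈ N
    · rw [ext0, dif_pos hx, hcoef]
    · rw [ext0, dif_neg hx, sbc_of_notMem _ _ fun h => hx (hCN h)]
  have hover : ∀ χ : IrrCharacter G, ∀ φ ∈ b,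
      classInner (fun n : N => (χ : G → ℂ) n) (φ : N → ℂ) ≠ 0 → χ ∈ B := by
    intro χ φ hφ hne
    by_contra hn
    have h1 := omega_blockCoeff B χ
    rw [indic_of_notMem hn, omega, div_eq_zero_iff, or_iff_left (irr_one_ne_zero χ)] at h1
    simp only [(normal_trace hM hPp he hT).2, Finset.mul_sum, Finset.sum_mul] at h1
    rw [Finset.sum_comm] at h1
    have hx : ∀ x : G, ∑ h : G, (Nat.card T : ℂ)⁻¹ *
        subgroupBlockCoeff (Subgroup.centralizer (P : Set G)) e (x⁻¹ * h * x) * (χ : G → ℂ) h =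
        (Nat.card T : ℂ)⁻¹ * ∑ n : N, blockCoeff b n * (χ : G → ℂ) n := by
      intro x
      rw [← sum_ext0 N (blockCoeff b) (χ : G → ℂ), Finset.mul_sum]
      refine Fintype.sum_equiv (MulAut.conj x⁻¹).toEquiv _ _ fun h => ?_
      simp only [MulEquiv.toEquiv_eq_coe, MulEquiv.coe_toEquiv, MulAut.conj_apply, inv_inv, hsbc]
      rw [← IsCharacter.isClassFunction (isCharacter_irr χ) (x⁻¹ * h * x) x,
        show x * (x⁻¹ * h * x) * x⁻¹ = h by group]
      ring
    rw [Finset.sum_congr rfl fun x _ => hx x, Finset.sum_const, Finset.card_univ, nsmul_eq_mul,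
      mul_eq_zero, mul_eq_zero, or_iff_right (Nat.cast_ne_zero.mpr Fintype.card_ne_zero),
      or_iff_right (inv_ne_zero (natCast_card_ne_zero T))] at h1
    have hF := IsCharacter.restrict (isCharacter_irr χ) N
    choose m hm using exists_mult hF
    have e : ((∑ ξ ∈ Finset.univ.filter (· ∈ b), m ξ * charDegree (ξ : N → ℂ) : ℕ) : ℂ) = 0 := by
      rw [← h1, Finset.sum_congr rfl fun n _ =>
        congrArg (blockCoeff b n * ·) (classFunction_expand (IsCharacter.isClassFunction hF) n)]
      simp only [hm, Finset.mul_sum]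
      rw [Finset.sum_comm, Finset.sum_filter, Nat.cast_sum]
      refine Finset.sum_congr rfl fun ξ _ => ?_
      have h := omega_blockCoeff b ξ
      rw [omega, div_eq_iff (irr_one_ne_zero ξ)] at h
      rw [Finset.sum_congr rfl fun n _ => mul_left_comm (blockCoeff b n) (m ξ : ℂ) ((ξ : N → ℂ) n),
        ← Finset.mul_sum, h]
      by_cases hξ : ξ ∈ b
      · rw [if_pos hξ, indic_of_mem hξ, one_mul, irr_apply_one, Nat.cast_mul]
      · rw [if_neg hξ, indic_of_notMem hξ, zero_mul, mul_zero, Nat.cast_zero]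
    rw [Nat.cast_eq_zero, Finset.sum_eq_zero_iff] at e
    rcases Nat.mul_eq_zero.mp (e φ (Finset.mem_filter.mpr ⟨Finset.mem_univ _, hφ⟩)) with h | h
    · exact hne ((hm φ).trans (by rw [h, Nat.cast_zero]))
    · exact (charDegree_pos φ).ne' h
  -- the degrees of the characters of `D`
  have hlin : ∀ ζ : IrrCharacter D, charDegree (ζ : D → ℂ) = 1 := by
    intro ζ
    set φ := DC.starIrr hM hDC hDp hker hdeg ζ with hφdef
    have hφ : φ ∈ b := (DC.mem_block_iff hM hDC hDp hker hdeg hb hbd hθ φ).mpr ⟨ζ, rfl⟩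
    obtain ⟨χ, hχ'⟩ := CliffordCorr.exists_irr_constituent
      (IsCharacter.indFun N (isCharacter_irr φ))
      (by rw [indFun_one]
          exact mul_ne_zero (Nat.cast_ne_zero.mpr N.index_ne_zero_of_finite) (irr_one_ne_zero φ))
    rw [frobenius N (φ : N → ℂ) (IsCharacter.isClassFunction (isCharacter_irr χ)),
      classInner_character_comm (isCharacter_irr φ) (IsCharacter.restrict (isCharacter_irr χ) N)] at hχ'
    have hχ := hχ'
    have hχB := hover χ φ hφ hχ
    obtain ⟨m, -, -, -, hd⟩ := clifford N χ φ hχ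
    let I : Subgroup G :=
      { carrier := {y | conjIrr N φ y = φ}
        one_mem' := conjIrr_one N φ
        mul_mem' := fun {a b} ha hb => by
          simp only [Set.mem_setOf_eq] at *
          rw [conjIrr_mul, ha, hb]
        inv_mem' := fun {a} ha => by
          simp only [Set.mem_setOf_eq] at *
          conv_lhs => rw [← ha]
          rw [← conjIrr_mul, mul_inv_cancel, conjIrr_one] }
    have hI : ∀ y, y ∈ I ↔ conjIrr N φ y = φ := fun y => Iff.rfl
    rw [CliffordCorr.card_orbit N φ hI] at hd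
    -- `p`-elements of the inertia group lie in `N`
    have hIp : ∀ z ∈ I, (∃ k : ℕ, orderOf z = p ^ k) → z ∈ N := by
      intro z hz hzp
      refine maximal_pElement_mem hM hmax (hnorm z) ?_ hzp
      have hzC : z ∈ Subgroup.normalizer ((Subgroup.centralizer (P : Set G) : Subgroup G) : Set G) :=
        mem_normalizer_centralizer (hnorm z)
      refine (stabilizesBlock_iff hM _ he.1.2).mpr ⟨hzC, block_ext hM (isPBlock_mapBlock hM _ he.1.2)
        he.1.2 fun c => ?_⟩
      have hb' : ∀ ξ ∈ b, conjIrr N ξ z ∈ b := fun ξ hξ => by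
        have hs := sameBlock_conjIrr N (IsPBlock.sameBlock hM hb hφ hξ) z
        rw [hI z |>.mp hz] at hs
        exact IsPBlock.mem_of_sameBlock hM hb hφ hs
      have hb'' : ∀ ξ ∈ b, conjIrr N ξ z⁻¹ ∈ b := fun ξ hξ => by
        have hs := sameBlock_conjIrr N (IsPBlock.sameBlock hM hb hφ hξ) z⁻¹
        rw [hI z⁻¹ |>.mp (inv_mem hz)] at hs
        exact IsPBlock.mem_of_sameBlock hM hb hφ hs
      have hinv : ∀ n : N, blockCoeff b (conjN N z n) = blockCoeff b n := by
        intro n
        rw [blockCoeff_eq_sum, blockCoeff_eq_sum]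
        congr 1
        refine Finset.sum_bij' (fun ξ _ => conjIrr N ξ z) (fun ξ _ => conjIrr N ξ z⁻¹) ?_ ?_
          (fun ξ _ => conjIrr_inv_cancel N ξ z) (fun ξ _ => conjIrr_inv_cancel' N ξ z) ?_
        · exact fun ξ hξ => Finset.mem_filter.mpr ⟨Finset.mem_univ _, hb' ξ (Finset.mem_filter.mp hξ).2⟩
        · exact fun ξ hξ => Finset.mem_filter.mpr ⟨Finset.mem_univ _, hb'' ξ (Finset.mem_filter.mp hξ).2⟩
        · intro ξ _
          rw [irr_apply_one, irr_apply_one, charDegree_conjIrr, conjIrr_apply]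
      set c₀ := (normConj (Subgroup.centralizer (P : Set G)) hzC).symm c
      have h1 := sbc_mapBlock_conj (Subgroup.centralizer (P : Set G)) hzC e (c₀ : G)
      have hc₀ : z * (c₀ : G) * z⁻¹ = (c : G) :=
        congrArg Subtype.val ((normConj (Subgroup.centralizer (P : Set G)) hzC).apply_symm_apply c)
      rw [hc₀, sbc_apply, sbc_apply] at h1
      rw [h1]
      have h2 := hcoef ⟨(c₀ : G), hCN c₀.2⟩
      have h3 := hcoef ⟨(c : G), hCN c.2⟩
      rw [sbc_apply] at h2 h3
      rw [← h2, ← h3, ← hinv]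
      congr 1
      exact Subtype.ext ((conjN_coe N z _).trans hc₀)
    have hvI : (Nat.card I).factorization p ≤ (Nat.card N).factorization p := by
      obtain ⟨Q⟩ : Nonempty (Sylow p I) := inferInstance
      have hQN : (Q : Subgroup I).map I.subtype ≤ N := by
        rintro _ ⟨q, hq, rfl⟩
        obtain ⟨k, hk⟩ := IsPGroup.iff_orderOf.mp Q.isPGroup' ⟨q, hq⟩
        exact hIp (q : G) q.2 ⟨k, by rw [Subgroup.orderOf_coe]; rwa [Subgroup.orderOf_mk] at hk⟩
      have := Subgroup.card_dvd_of_le hQN
      rw [Subgroup.card_map_of_injective (Subgroup.subtype_injective _), Q.card_eq_multiplicity,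
        hM.1.pow_dvd_iff_le_factorization Nat.card_pos.ne'] at this
      exact this
    have hφd : (charDegree (φ : N → ℂ)).factorization p =
        (charDegree (ζ : D → ℂ)).factorization p + D.index.factorization p := by
      rw [hφdef, DC.starIrr_charDegree, Nat.factorization_mul (charDegree_pos ζ).ne'
        (charDegree_pos θ).ne', Finsupp.add_apply, hdeg]
    have hm0 : m ≠ 0 := fun h => by rw [h, zero_mul, zero_mul] at hd; exact (charDegree_pos χ).ne' hd
    have h1 := congrArg (fun n : ℕ => n.factorization p) hd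
    rw [Nat.factorization_mul (Nat.mul_ne_zero hm0 I.index_ne_zero_of_finite) (charDegree_pos φ).ne',
      Nat.factorization_mul hm0 I.index_ne_zero_of_finite, Finsupp.add_apply, Finsupp.add_apply,
      hφd] at h1
    have h2 := h0 χ hχB
    rw [blockHeight_eq] at h2
    have h3 := minExp_add_defect (p := p) hχB
    have h4 := minExp_le (p := p) hχB
    have h5 := DC.factorization_card_eq (p := p) D
    rw [Nat.card_congr (Subgroup.subgroupOfEquivOfLe hPN).toEquiv, hPd, hM.1.factorization_pow,
      Finsupp.single_eq_same] at h5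
    have h6 := congrArg (fun n : ℕ => n.factorization p) I.index_mul_card
    simp only [Nat.factorization_mul I.index_ne_zero_of_finite Nat.card_pos.ne',
      Finsupp.add_apply] at h6
    have hz : (charDegree (ζ : D → ℂ)).factorization p = 0 := by omega
    obtain ⟨k, hk⟩ := (IsPGroup.iff_card.mp hDp)
    obtain ⟨j, -, hj⟩ := (Nat.dvd_prime_pow hM.1).mp (hk ▸ charDegree_dvd ζ)
    rw [hj, hM.1.factorization_pow, Finsupp.single_eq_same] at hz
    rw [hj, hz, pow_zero]
  intro a ha c hc
  exact congrArg (fun x : D => ((x : N) : G))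
    (comm_of_linear hlin ⟨⟨a, hPN ha⟩, ha⟩ ⟨⟨c, hPN hc⟩, hc⟩)

end CfsgLib.Blocks.Reynolds
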