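import Cfsg.Agent.Lib.Blocks.PrincipalSection

/-!
Decomposition of block characters on sections and the resulting orthogonality relations.
-/

namespace CfsgLib.Blocks

open scoped ComplexConjugate
open Cfsg CfsgLib.Chars

universe u

variable {G : Type u} [Group G] [Fintype G] {p : ℕ} {M : Ideal AlgInt}

/-- The restriction of `χ (x * ·)` to a subgroup. -/
def secFun (C : Subgroup G) (x : G) (χ : G → ℂ) : C → ℂ := fun c => χ (x * (c : G))

theorem secFun_isClassFunction {C : Subgroup G} {x : G} (hC : ∀ g, g ∈ C ↔ Commute g x)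
    (χ : IrrCharacter G) : IsClassFunction C (secFun C x (χ : G → ℂ)) := by
  intro g z
  simp only [secFun, Subgroup.coe_mul, InvMemClass.coe_inv]
  rw [← IsCharacter.isClassFunction (isCharacter_irr χ) (x * (g : G)) (z : G)]
  congr 1
  have hz : Commute (z : G) x := (hC _).mp z.2
  rw [← mul_assoc (z : G) x, hz.eq]
  group

section Linear

variable {H : Type u} [Group H] [Fintype H]

theorem blockPart_eq_filter (b : Set (IrrCharacter H)) [DecidablePred (· ∈ b)] (f : H → ℂ) (a : H) :
    blockPart b f a =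
      ∑ φ ∈ Finset.univ.filter (· ∈ b), classInner f (φ : H → ℂ) * (φ : H → ℂ) a := by
  rw [blockPart, finsum_mem_eq_toFinset_sum, ← Set.filter_mem_univ_eq_toFinset]
  convert rfl using 4

theorem blockPart_sum (b : Set (IrrCharacter H)) {ι : Type*} (s : Finset ι) (c : ι → ℂ)
    (F : ι → H → ℂ) (a : H) :
    blockPart b (fun h => ∑ i ∈ s, c i * F i h) a = ∑ i ∈ s, c i * blockPart b (F i) a := by
  classical
  simp only [blockPart_eq_filter, classInner_sum, Finset.mul_sum, Finset.sum_mul]
  rw [Finset.sum_comm]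
  exact Finset.sum_congr rfl fun i _ => Finset.sum_congr rfl fun φ _ => by ring

theorem blockPart_sub (b : Set (IrrCharacter H)) (f f' : H → ℂ) (a : H) :
    blockPart b (fun h => f h - f' h) a = blockPart b f a - blockPart b f' a := by
  classical
  simp only [blockPart_eq_filter, ← Finset.sum_sub_distrib]
  refine Finset.sum_congr rfl fun φ _ => ?_
  rw [classInner, classInner, classInner]
  simp only [sub_mul, Finset.sum_sub_distrib]
  ring

theorem blockPart_irr_of_mem {b : Set (IrrCharacter H)} {φ : IrrCharacter H} (hφ : φ ∈ b) (a : H) :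
    blockPart b (φ : H → ℂ) a = (φ : H → ℂ) a := by
  classical
  rw [blockPart_eq_filter, Finset.sum_eq_single φ]
  · rw [classInner_irr, if_pos rfl, one_mul]
  · intro ψ _ hne
    rw [classInner_irr, if_neg (Ne.symm hne), zero_mul]
  · intro h
    exact absurd (Finset.mem_filter.mpr ⟨Finset.mem_univ _, hφ⟩) h

theorem blockPart_irr_of_notMem {b : Set (IrrCharacter H)} {φ : IrrCharacter H} (hφ : φ ∉ b)
    (a : H) : blockPart b (φ : H → ℂ) a = 0 := by
  classical
  rw [blockPart_eq_filter]
  refine Finset.sum_eq_zero fun ψ hψ => ?_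
  rw [classInner_irr, if_neg, zero_mul]
  exact fun e => hφ (by rw [e]; exact (Finset.mem_filter.mp hψ).2)

/-- A class function vanishing on the regular elements has block parts vanishing there. -/
theorem blockPart_eq_zero_of_regular (hM : IsPModular p M) {b : Set (IrrCharacter H)}
    (hb : IsPBlock M b) {h : H → ℂ} (hh : IsClassFunction H h)
    (h0 : ∀ y, ¬ p ∣ orderOf y → h y = 0) {y : H} (hy : ¬ p ∣ orderOf y) : blockPart b h y = 0 := by
  classical
  set S := Finset.univ.filter (· ∈ b)
  have hd : blockPart b h = fun a => ∑ φ ∈ S, classInner h (φ : H → ℂ) * (φ : H → ℂ) a :=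
    funext fun a => blockPart_eq_filter b h a
  have he : h = fun a => ∑ φ : IrrCharacter H, classInner h (φ : H → ℂ) * (φ : H → ℂ) a :=
    funext fun a => classFunction_expand hh a
  have lin : ∀ (T : Finset (IrrCharacter H)) (ψ : H → ℂ),
      regInner p (fun a => ∑ φ ∈ T, classInner h (φ : H → ℂ) * (φ : H → ℂ) a) ψ =
        ∑ φ ∈ T, classInner h (φ : H → ℂ) * regInner p (φ : H → ℂ) ψ := by
    intro T ψ
    simp only [regInner_eq, Finset.sum_mul, Finset.mul_sum]
    rw [Finset.sum_comm]
    exact Finset.sum_congr rfl fun φ _ => Finset.sum_congr rfl fun a _ => by ring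
  have hz : ∀ ψ : IrrCharacter H, ψ ∈ b → regInner p (blockPart b h) (ψ : H → ℂ) = 0 := by
    intro ψ hψ
    have h1 : regInner p h (ψ : H → ℂ) = 0 := by
      rw [regInner_eq, Finset.sum_eq_zero fun a ha => by
        rw [h0 a (Finset.mem_filter.mp ha).2, zero_mul], mul_zero]
    rw [he, lin] at h1
    rw [hd, lin, ← h1, Finset.sum_filter]
    refine Finset.sum_congr rfl fun φ _ => ?_
    split_ifs with hφ
    · rfl
    · rw [regInner_eq_zero hM fun hs =>
        hφ (IsPBlock.mem_of_sameBlock hM hb hψ (sameBlock_symm hs)), mul_zero]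
  have hself : regInner p (blockPart b h) (blockPart b h) = 0 := by
    nth_rewrite 1 [hd]
    rw [lin]
    refine Finset.sum_eq_zero fun φ hφ => mul_eq_zero_of_right _ ?_
    have h2 := hz φ (Finset.mem_filter.mp hφ).2
    rw [regInner_eq] at h2 ⊢
    have h3 := congrArg conj h2
    simp only [map_mul, map_inv₀, map_natCast, map_sum, Complex.conj_conj, map_zero] at h3
    rw [← h3]
    congr 1
    exact Finset.sum_congr rfl fun a _ => mul_comm _ _
  rw [regInner_eq, mul_eq_zero] at hself
  have h4 := hself.resolve_left (inv_ne_zero (natCast_card_ne_zero H))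
  rw [Finset.sum_congr rfl fun a _ => Complex.mul_conj (blockPart b h a), ← Complex.ofReal_sum,
    Complex.ofReal_eq_zero,
    Finset.sum_eq_zero_iff_of_nonneg fun _ _ => Complex.normSq_nonneg _] at h4
  exact Complex.normSq_eq_zero.mp (h4 y (Finset.mem_filter.mpr ⟨Finset.mem_univ _, hy⟩))

end Linear

variable {C : Subgroup G} [Fintype C] {x : G} {k : ℕ}

theorem isPGroup_zpowers (hM : IsPModular p M) (hx : orderOf x = p ^ k) :
    IsPGroup p (Subgroup.zpowers x) := by
  haveI : Fact p.Prime := ⟨hM.1⟩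
  exact IsPGroup.of_card (n := k) (by rw [Nat.card_zpowers, hx])

theorem centralizer_zpowers_eq (hC : ∀ g, g ∈ C ↔ Commute g x) :
    Subgroup.centralizer ((Subgroup.zpowers x : Subgroup G) : Set G) = C := by
  ext g
  rw [hC, Subgroup.mem_centralizer_iff]
  exact ⟨fun h => (h x (Subgroup.mem_zpowers x)).symm, fun h q hq => by
    obtain ⟨n, rfl⟩ := Subgroup.mem_zpowers_iff.mp hq
    exact ((h.zpow_right n).symm).eq⟩

/-- Criterion for induction from the centralizer of a `p`-element. -/
theorem sec_induced_iff (hM : IsPModular p M) (hx : orderOf x = p ^ k)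
    (hC : ∀ g, g ∈ C ↔ Commute g x) {b : Set (IrrCharacter C)} (hb : IsPBlock M b)
    {B : Set (IrrCharacter G)} (hB : IsPBlock M B) {ξ : IrrCharacter C} (hξ : ξ ∈ b) :
    IsInducedBlock M C b B ↔
      ¬ MemLocalIdeal M (omega (ξ : C → ℂ) fun c : C => blockCoeff B (c : G)) := by
  have hcen := centralizer_zpowers_eq hC
  have e : brTrunc (Subgroup.zpowers x) C (blockCoeff B) = fun c : C => blockCoeff B (c : G) :=
    funext fun c => by rw [brTrunc, if_pos (hcen ▸ c.2)]
  rw [isInducedBlock_iff_brVal hM (isPGroup_zpowers hM hx)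
    (Subgroup.zpowers_le.mpr ((hC x).mpr (Commute.refl x))) hcen.le
    (hcen.ge.trans (Subgroup.centralizer_le_normalizer _)) hb hB hξ, brVal, e]

theorem sec_induced_unique (hM : IsPModular p M) (hx : orderOf x = p ^ k)
    (hC : ∀ g, g ∈ C ↔ Commute g x) {b : Set (IrrCharacter C)}
    {B B' : Set (IrrCharacter G)} (h : IsInducedBlock M C b B) (h' : IsInducedBlock M C b B') :
    B = B' := by
  obtain ⟨ξ, hξ⟩ := IsPBlock.nonempty hM h.1
  have hcen := centralizer_zpowers_eq hC
  have hP := isPGroup_zpowers hM hx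
  have hPH := Subgroup.zpowers_le.mpr ((hC x).mpr (Commute.refl x))
  have hN : C ≤ Subgroup.normalizer ((Subgroup.zpowers x : Subgroup G) : Set G) :=
    hcen.ge.trans (Subgroup.centralizer_le_normalizer _)
  exact block_brVal_unique hM hP hcen.le hN ξ h.2.1 h'.2.1
    ((isInducedBlock_iff_brVal hM hP hPH hcen.le hN h.1 h.2.1 hξ).mp h)
    ((isInducedBlock_iff_brVal hM hP hPH hcen.le hN h'.1 h'.2.1 hξ).mp h')

/-- Second main theorem. -/
theorem secPart_eq_zero (hM : IsPModular p M) (hx : orderOf x = p ^ k)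
    (hC : ∀ g, g ∈ C ↔ Commute g x) {b : Set (IrrCharacter C)} (hb : IsPBlock M b)
    {B : Set (IrrCharacter G)} (hB : IsPBlock M B) (hnot : ¬ IsInducedBlock M C b B)
    {χ : IrrCharacter G} (hχ : χ ∈ B) {y : C} (hy : ¬ p ∣ orderOf y) :
    blockPart b (secFun C x (χ : G → ℂ)) y = 0 := by
  classical
  rw [blockPart_eq_sum b (secFun_isClassFunction hC χ)]
  let x' : C := ⟨x, (hC x).mpr (Commute.refl x)⟩
  have key := sum_blockCoeff_irr_eq_zero hM hb hB
    (fun ξ hξ => by by_contra h; exact hnot ((sec_induced_iff hM hx hC hb hB hξ).mpr h))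
    (x := x') (y := y) (kx := k) (by rw [← Subgroup.orderOf_coe]; exact hx) hy
    (Subtype.ext ((hC _).mp y.2).eq.symm) (fun g hg => (hC g).mpr hg) hχ
  rw [← key]
  refine Finset.sum_congr rfl fun c _ => ?_
  congr 1
  have hc : Commute (c : G) x := (hC _).mp c.2
  change (χ : G → ℂ) (x * ((c * y : C) : G)) = (χ : G → ℂ) ((c : G) * (x * (y : G)))
  rw [Subgroup.coe_mul, ← mul_assoc, ← hc.eq, mul_assoc]

/-- A character on a section is the sum of the parts in the blocks inducing its block. -/
theorem sec_decomp (hM : IsPModular p M) (hx : orderOf x = p ^ k)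
    (hC : ∀ g, g ∈ C ↔ Commute g x) {B : Set (IrrCharacter G)} (hB : IsPBlock M B)
    {χ : IrrCharacter G} (hχ : χ ∈ B) {y : C} (hy : ¬ p ∣ orderOf y)
    [Fintype (Set (IrrCharacter C))] [DecidablePred fun b => IsInducedBlock M C b B] :
    (χ : G → ℂ) (x * (y : G)) =
      ∑ b ∈ Finset.univ.filter (fun b => IsInducedBlock M C b B),
        blockPart b (secFun C x (χ : G → ℂ)) y := by
  classical
  change secFun C x (χ : G → ℂ) y = _
  rw [← sum_blockPart hM (secFun_isClassFunction hC χ) y]
  symm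
  refine Finset.sum_subset (fun b hb => ?_) fun b hb hn => ?_
  · exact Finset.mem_filter.mpr ⟨Finset.mem_univ _, (Finset.mem_filter.mp hb).2.1⟩
  · exact secPart_eq_zero hM hx hC (Finset.mem_filter.mp hb).2 hB
      (fun h => hn (Finset.mem_filter.mpr ⟨Finset.mem_univ _, h⟩)) hχ hy

/-- The centralizer of a section element. -/
theorem sec_col_orth (hp : p.Prime) (hx : orderOf x = p ^ k) (hC : ∀ g, g ∈ C ↔ Commute g x)
    {y y' : C} (hy : ¬ p ∣ orderOf y) (hy' : ¬ p ∣ orderOf y') :
    ∑ χ : IrrCharacter G, (χ : G → ℂ) (x * (y : G)) * conj ((χ : G → ℂ) (x * (y' : G))) =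
      ∑ φ : IrrCharacter C, (φ : C → ℂ) y * conj ((φ : C → ℂ) y') := by
  classical
  rw [col_orth, col_orth]
  have hpp : ∀ w : C, ¬ p ∣ orderOf w → IsPPart p (x * (w : G)) x := fun w hw =>
    ⟨(w : G), rfl, ((hC _).mp w.2).symm, ⟨k, hx⟩, by rwa [Subgroup.orderOf_coe]⟩
  -- conjugators of the sections centralize `x`
  have key : ∀ w w' : C, ¬ p ∣ orderOf w → ¬ p ∣ orderOf w' → ∀ g : G,
      g * (x * (w : G)) * g⁻¹ = x * (w' : G) ↔ ∃ h : g ∈ C, ⟨g, h⟩ * w * (⟨g, h⟩ : C)⁻¹ = w' := by
    intro w w' hw hw' g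
    constructor
    · intro he
      have h1 := IsPPart.conj (hpp w hw) g
      rw [he] at h1
      have h2 := isPPart_unique hp h1 (hpp w' hw')
      have hgC : g ∈ C := (hC g).mpr (mul_inv_eq_iff_eq_mul.mp h2)
      refine ⟨hgC, Subtype.ext ?_⟩
      simp only [Subgroup.coe_mul, InvMemClass.coe_inv]
      have h3 : g * x * g⁻¹ * (g * (w : G) * g⁻¹) = x * (w' : G) := by rw [← he]; group
      rw [h2] at h3
      exact mul_left_cancel h3
    · rintro ⟨h, rfl⟩
      simp only [Subgroup.coe_mul, InvMemClass.coe_inv]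
      rw [← mul_assoc g x, ((hC g).mp h).eq]
      group
  have hconj : IsConj (x * (y' : G)) (x * (y : G)) ↔ IsConj y' y := by
    rw [isConj_iff, isConj_iff]
    exact ⟨fun ⟨g, hg⟩ => ⟨_, ((key _ _ hy' hy g).mp hg).2⟩,
      fun ⟨c, hc⟩ => ⟨c, (key _ _ hy' hy _).mpr ⟨c.2, hc⟩⟩⟩
  by_cases h : IsConj y' y
  · rw [if_pos h, if_pos (hconj.mpr h)]
    congr 1
    refine Nat.card_congr (Equiv.ofBijective (fun g => ⟨⟨(g : G), ?_⟩, ?_⟩) ⟨?_, ?_⟩)
    · obtain ⟨h', -⟩ := (key _ _ hy' hy' g).mp
        (mul_inv_eq_iff_eq_mul.mpr (Subgroup.mem_centralizer_singleton_iff.mp g.2))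
      exact h'
    · obtain ⟨h', he⟩ := (key _ _ hy' hy' g).mp
        (mul_inv_eq_iff_eq_mul.mpr (Subgroup.mem_centralizer_singleton_iff.mp g.2))
      exact Subgroup.mem_centralizer_singleton_iff.mpr (mul_inv_eq_iff_eq_mul.mp he)
    · intro a b hab
      exact Subtype.ext (congrArg (fun z => ((Subtype.val z : C) : G)) hab)
    · rintro ⟨c, hc⟩
      refine ⟨⟨(c : G), ?_⟩, rfl⟩
      refine Subgroup.mem_centralizer_singleton_iff.mpr (mul_inv_eq_iff_eq_mul.mp
        ((key _ _ hy' hy' _).mpr ⟨c.2, ?_⟩))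
      exact mul_inv_eq_iff_eq_mul.mpr (Subgroup.mem_centralizer_singleton_iff.mp hc)
  · rw [if_neg h, if_neg fun e => h (hconj.mp e)]

/-- Orthogonality of a block on a section against the characters. -/
theorem sec_orth_left (hM : IsPModular p M) (hx : orderOf x = p ^ k)
    (hC : ∀ g, g ∈ C ↔ Commute g x) {b : Set (IrrCharacter C)} {B : Set (IrrCharacter G)}
    (hind : IsInducedBlock M C b B) [DecidablePred (· ∈ B)] [DecidablePred (· ∈ b)]
    {y y' : C} (hy : ¬ p ∣ orderOf y) (hy' : ¬ p ∣ orderOf y') :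
    ∑ χ ∈ Finset.univ.filter (· ∈ B),
        blockPart b (secFun C x (χ : G → ℂ)) y * conj ((χ : G → ℂ) (x * (y' : G))) =
      ∑ φ ∈ Finset.univ.filter (· ∈ b), (φ : C → ℂ) y * conj ((φ : C → ℂ) y') := by
  have hb := hind.1
  set h : C → ℂ := fun c =>
    (∑ χ : IrrCharacter G, conj ((χ : G → ℂ) (x * (y' : G))) * secFun C x (χ : G → ℂ) c) -
      ∑ φ : IrrCharacter C, conj ((φ : C → ℂ) y') * (φ : C → ℂ) c
  have hh : IsClassFunction C h := fun a z => by
    simp only [h]
    congr 1
    · exact Finset.sum_congr rfl fun χ _ => by rw [secFun_isClassFunction hC χ a z]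
    · exact Finset.sum_congr rfl fun φ _ => by
        rw [IsCharacter.isClassFunction (isCharacter_irr φ) a z]
  have h0 : ∀ c, ¬ p ∣ orderOf c → h c = 0 := fun c hc => by
    simp only [h, secFun]
    rw [sub_eq_zero]
    have e := sec_col_orth hM.1 hx hC hc hy'
    simp only [mul_comm] at e ⊢
    exact e
  have h1 := blockPart_eq_zero_of_regular hM hb hh h0 hy
  simp only [h] at h1
  rw [blockPart_sub, blockPart_sum, blockPart_sum, sub_eq_zero] at h1
  rw [Finset.sum_filter, Finset.sum_filter]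
  refine Eq.trans ?_ (h1.trans ?_)
  · refine Finset.sum_congr rfl fun χ _ => ?_
    split_ifs with hχ
    · ring
    · rw [secPart_eq_zero hM hx hC hb (isPBlock_blockOf χ) (fun hi => hχ ?_)
        (self_mem_blockOf hM χ) hy, mul_zero]
      rw [sec_induced_unique hM hx hC hind hi]
      exact self_mem_blockOf hM χ
  · refine Finset.sum_congr rfl fun φ _ => ?_
    split_ifs with hφ
    · rw [blockPart_irr_of_mem hφ]; ring
    · rw [blockPart_irr_of_notMem hφ, mul_zero]

/-- Orthogonality of the parts in one block. -/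
theorem sec_orth (hM : IsPModular p M) (hx : orderOf x = p ^ k)
    (hC : ∀ g, g ∈ C ↔ Commute g x) {b : Set (IrrCharacter C)} {B : Set (IrrCharacter G)}
    (hind : IsInducedBlock M C b B) [DecidablePred (· ∈ B)] [DecidablePred (· ∈ b)]
    {y y' : C} (hy : ¬ p ∣ orderOf y) (hy' : ¬ p ∣ orderOf y') :
    ∑ χ ∈ Finset.univ.filter (· ∈ B), blockPart b (secFun C x (χ : G → ℂ)) y *
        conj (blockPart b (secFun C x (χ : G → ℂ)) y') =
      ∑ φ ∈ Finset.univ.filter (· ∈ b), (φ : C → ℂ) y * conj ((φ : C → ℂ) y') := by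
  set h : C → ℂ := fun c =>
    (∑ χ ∈ Finset.univ.filter (· ∈ B),
      conj (blockPart b (secFun C x (χ : G → ℂ)) y) * secFun C x (χ : G → ℂ) c) -
      ∑ φ ∈ Finset.univ.filter (· ∈ b), conj ((φ : C → ℂ) y) * (φ : C → ℂ) c
  have hh : IsClassFunction C h := fun a z => by
    simp only [h]
    congr 1
    · exact Finset.sum_congr rfl fun χ _ => by rw [secFun_isClassFunction hC χ a z]
    · exact Finset.sum_congr rfl fun φ _ => by
        rw [IsCharacter.isClassFunction (isCharacter_irr φ) a z]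
  have h0 : ∀ c, ¬ p ∣ orderOf c → h c = 0 := fun c hc => by
    have e := congrArg conj (sec_orth_left hM hx hC hind hy hc)
    simp only [map_sum, map_mul, Complex.conj_conj] at e
    simp only [h, secFun]
    rw [sub_eq_zero]
    exact e
  have h1 := blockPart_eq_zero_of_regular hM hind.1 hh h0 hy'
  simp only [h] at h1
  rw [blockPart_sub, blockPart_sum, blockPart_sum, sub_eq_zero] at h1
  have e := congrArg conj h1
  simp only [map_sum, map_mul, Complex.conj_conj] at e
  rw [e]
  refine Finset.sum_congr rfl fun φ hφ => ?_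
  rw [blockPart_irr_of_mem (Finset.mem_filter.mp hφ).2]

/-- The squared values of a block on the regular elements count its rank. -/
theorem sum_regular_sq (hM : IsPModular p M) {H : Type u} [Group H] [Fintype H]
    {b : Set (IrrCharacter H)} (hb : IsPBlock M b) [DecidablePred (· ∈ b)]
    [DecidablePred fun y : H => ¬ p ∣ orderOf y] :
    ∑ y ∈ Finset.univ.filter (fun y : H => ¬ p ∣ orderOf y),
        ∑ φ ∈ Finset.univ.filter (· ∈ b), (φ : H → ℂ) y * conj ((φ : H → ℂ) y) =
      (Nat.card H : ℂ) * (blockRank p b : ℂ) := by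
  classical
  rw [← blockRank_eq_trace hM hb, Matrix.trace]
  simp only [Matrix.diag, blockKernel, Matrix.of_apply, ← Finset.mul_sum]
  rw [← mul_assoc, mul_inv_cancel₀ (natCast_card_ne_zero H), one_mul, Finset.sum_filter]
  refine Finset.sum_congr rfl fun y _ => ?_
  by_cases hy : p ∣ orderOf y
  · rw [if_neg (not_not.mpr hy)]
    symm
    refine Finset.sum_eq_zero fun φ _ => ?_
    rw [pRegularPart_of_singular hy, zero_mul]
  · rw [if_pos hy]
    refine Finset.sum_congr (by ext; simp) fun φ _ => ?_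
    rw [pRegularPart_of_regular hy]

end CfsgLib.Blocks
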